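import Cfsg.Agent.Lib.Linear.Symplectic
import Cfsg.Agent.Lib.MinIndex.Blocks

/-!
# The symplectic group over a finite field: tools for the minimal index

* `cr` : `x ↦ x + f(x,a) w + f(x,w) a`, with its rules
* `W2`, `wp`, `card_W2`, `card_perp` : the orthogonal of a pair, of a vector
* `exists_repr` : linear functionals are `f(·, z)`
* `exists_lev` : elements scaling a hyperbolic pair and fixing its orthogonal
-/

set_option autoImplicit false
set_option linter.unusedSectionVars false
set_option linter.style.haveILetI false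

namespace Cfsg.Agent.MinIndexSp.Psp

open Cfsg Cfsg.Agent Module MulAction

variable {m : ℕ} {F : Type*} [Field F]

local notation "V" => (Fin m ⊕ Fin m → F)
local notation "f" => Cfsg.sympForm m F

theorem sw (u v : V) : f u v = -f v u := Linear.sympForm_swap u v

theorem sw_zero {u v : V} (h : f u v = 0) : f v u = 0 := by rw [sw, h, neg_zero]

/-- The form as a bilinear map. -/
noncomputable def bil (m : ℕ) (F : Type*) [Field F] : LinearMap.BilinForm F (Fin m ⊕ Fin m → F) :=
  LinearMap.mk₂ F (fun v w => Cfsg.sympForm m F v w) (fun p q r => Linear.sympForm_add_left p q r)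
    (fun c p q => Linear.sympForm_smul_left c p q) (fun p q r => Linear.sympForm_add_right p q r)
    (fun c p q => Linear.sympForm_smul_right c p q)

theorem bil_apply (v w : V) : bil m F v w = f v w := rfl

theorem bil_nd {x : V} (hx : x ≠ 0) : ∃ y, bil m F y x ≠ 0 := by
  obtain ⟨y, hy⟩ := Linear.exists_sympForm_ne_zero hx
  exact ⟨y, by rw [bil_apply, sw]; simpa using hy⟩

/-! ### Root elements -/

/-- `x ↦ x + f(x,a) w + f(x,w) a` for orthogonal `a, w`. -/
noncomputable def cr (a w : V) : Cfsg.spGL m F :=
  Linear.spTv (a + w) 1 * (Linear.spTv a (-1) * Linear.spTv w (-1))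

theorem cr_smul {a w : V} (h : f a w = 0) (x : V) : cr a w • x = x + f x a • w + f x w • a := by
  have hwa : f w a = 0 := sw_zero h
  simp only [cr, mul_smul, Linear.spTv_smul, Linear.sympForm_add_left, Linear.sympForm_smul_left,
    Linear.sympForm_add_right, Linear.sympForm_self, h, hwa, mul_zero, add_zero]
  match_scalars <;> ring

theorem cr_conj (g : Cfsg.spGL m F) (a w : V) : g * cr a w * g⁻¹ = cr (g • a) (g • w) := by
  rw [cr, cr, ← smul_add, ← Linear.spTv_conj, ← Linear.spTv_conj, ← Linear.spTv_conj]; group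

theorem cr_comm {a w : V} (h : f a w = 0) : cr a w = cr w a :=
  Linear.spGL_ext fun x => by rw [cr_smul h, cr_smul (sw_zero h)]; abel

theorem cr_zero (a : V) : cr a (0 : V) = 1 :=
  Linear.spGL_ext fun x => by simp [cr_smul]

theorem cr_smul_left {a w : V} (c : F) (h : f a w = 0) : cr (c • a) w = cr a (c • w) := by
  refine Linear.spGL_ext fun x => ?_
  rw [cr_smul (by simp [h]), cr_smul (by simp [h]), Linear.sympForm_smul_right,
    Linear.sympForm_smul_right]
  match_scalars <;> ring

theorem cr_mul {a w w' : V} (h : f a w = 0) (h' : f a w' = 0) :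
    cr a w * cr a w' = cr a (w + w') * Linear.spTv a (f w' w) := by
  refine Linear.spGL_ext fun x => ?_
  have hwa : f w a = 0 := sw_zero h
  have hw'a : f w' a = 0 := sw_zero h'
  simp only [mul_smul, cr_smul h, cr_smul h', cr_smul (show f a (w + w') = 0 by simp [h, h']),
    Linear.spTv_smul, Linear.sympForm_add_left, Linear.sympForm_smul_left,
    Linear.sympForm_add_right, Linear.sympForm_self, h, h', hw'a]
  match_scalars <;> ring

theorem cr_add_self {a w : V} (h : f a w = 0) (c : F) :
    cr a (w + c • a) = cr a w * Linear.spTv a (2 * c) := by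
  refine Linear.spGL_ext fun x => ?_
  have hwa : f w a = 0 := sw_zero h
  rw [cr_smul (by simp [h]), mul_smul, cr_smul h, Linear.spTv_smul]
  simp only [Linear.sympForm_add_right, Linear.sympForm_smul_right, Linear.sympForm_add_left,
    Linear.sympForm_smul_left, Linear.sympForm_self, h, mul_zero, add_zero]
  match_scalars <;> ring

theorem spTv_sum {v w : V} (h : f v w = 0) (c : F) :
    Linear.spTv (v + w) c = Linear.spTv v c * Linear.spTv w c * cr v (c • w) := by
  refine Linear.spGL_ext fun x => ?_
  have hwv : f w v = 0 := sw_zero h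
  simp only [mul_smul, cr_smul (show f v (c • w) = 0 by simp [h]), Linear.spTv_smul,
    Linear.sympForm_add_left, Linear.sympForm_smul_left, Linear.sympForm_add_right,
    Linear.sympForm_smul_right, Linear.sympForm_self, h, hwv, mul_zero, add_zero]
  match_scalars <;> ring

theorem cr_fix {a w v : V} (h : f a w = 0) (h1 : f v a = 0) (h2 : f v w = 0) :
    cr a w • v = v := by simp [cr_smul h, h1, h2]

theorem spTv_comm_of_fix {a : V} {g : Cfsg.spGL m F} (h : g • a = a) (r : F) :
    g * Linear.spTv a r = Linear.spTv a r * g := by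
  have := Linear.spTv_conj g a r
  rw [h] at this
  exact mul_inv_eq_iff_eq_mul.1 this

theorem cr_spTv_comm {a w : V} (h : f a w = 0) (r : F) :
    cr a w * Linear.spTv a r = Linear.spTv a r * cr a w :=
  spTv_comm_of_fix (cr_fix h (Linear.sympForm_self a) h) r

theorem cr_mem_closure {U : Submodule F V} {a w : V} (ha : a ∈ U) (hw : w ∈ U) :
    cr a w ∈ Subgroup.closure (Linear.spTvSet U) :=
  mul_mem (Linear.spTv_mem_closure (add_mem ha hw) _)
    (mul_mem (Linear.spTv_mem_closure ha _) (Linear.spTv_mem_closure hw _))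

theorem smul_ne_zero' {g : Cfsg.spGL m F} {v : V} (hv : v ≠ 0) : g • v ≠ 0 :=
  fun e => hv (by simpa using congrArg (g⁻¹ • ·) e)

/-! ### The orthogonal of a pair -/

/-- The orthogonal of a pair. -/
def W2 (a b : V) : Submodule F V where
  carrier := {w | f a w = 0 ∧ f b w = 0}
  add_mem' := fun {x y} hx hy => ⟨by simp [hx.1, hy.1], by simp [hx.2, hy.2]⟩
  zero_mem' := by simp
  smul_mem' := fun c x hx => ⟨by simp [hx.1], by simp [hx.2]⟩

theorem mem_W2 {a b w : V} : w ∈ W2 a b ↔ f a w = 0 ∧ f b w = 0 := Iff.rfl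

/-- The projection to the orthogonal of a pair. -/
def wp (a b v : V) : V := v + f b v • a - f a v • b

theorem wp_mem {a b : V} (hab : f a b = 1) (v : V) : wp a b v ∈ W2 a b := by
  have hba : f b a = -1 := by rw [sw, hab]
  constructor <;> simp [wp, hab, hba, Linear.sympForm_sub_right]

theorem wp_perp {a b v : V} (h : f a v = 0) : v = wp a b v + (-f b v) • a := by
  rw [wp, h, zero_smul, sub_zero, neg_smul, add_neg_cancel_right]

theorem wp_pair {a b w : V} (hw : w ∈ W2 a b) (v : V) : f w (wp a b v) = f w v := by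
  simp [wp, Linear.sympForm_sub_right, sw_zero hw.1, sw_zero hw.2]

theorem W2_nd {a b : V} (hab : f a b = 1) :
    ∀ w ∈ W2 a b, w ≠ 0 → ∃ y ∈ W2 a b, f w y ≠ 0 := by
  intro w hw hw0
  obtain ⟨y, hy⟩ := Linear.exists_sympForm_ne_zero hw0
  exact ⟨wp a b y, wp_mem hab y, by rwa [wp_pair hw]⟩

theorem exists_dual {a : V} (ha : a ≠ 0) : ∃ b : V, f a b = 1 := by
  obtain ⟨b, hb⟩ := Linear.exists_sympForm_ne_zero ha
  exact ⟨(f a b)⁻¹ • b, by rw [Linear.sympForm_smul_right, inv_mul_cancel₀ hb]⟩

/-- Functionals are `f(·, z)`. -/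
theorem exists_repr (l : V →ₗ[F] F) : ∃ z : V, ∀ x, l x = f x z := by
  classical
  refine ⟨Sum.elim (fun i => l (Pi.single (.inr i) 1)) (fun i => -l (Pi.single (.inl i) 1)),
    fun x => ?_⟩
  rw [LinearMap.pi_apply_eq_sum_univ l x, Fintype.sum_sum_type, Linear.sympForm_eq_sum]
  simp only [smul_eq_mul, Sum.elim_inl, Sum.elim_inr, mul_neg, sub_neg_eq_add,
    Finset.sum_add_distrib]
  have e : ∀ j : Fin m ⊕ Fin m, l (fun i => if j = i then 1 else 0) = l (Pi.single j 1) := fun j => by
    congr 1
    ext i
    simp [Pi.single_apply, eq_comm]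
  simp only [e]
  ring

/-- A vector outside a subspace is detected by a vector orthogonal to the subspace. -/
theorem exists_detect (S : Submodule F V) {v : V} (hv : v ∉ S) :
    ∃ z : V, (∀ s ∈ S, f s z = 0) ∧ f v z = 1 := by
  obtain ⟨l, hl, hS⟩ := Submodule.exists_dual_map_eq_bot_of_notMem hv inferInstance
  obtain ⟨z, hz⟩ := exists_repr ((l v)⁻¹ • l)
  refine ⟨z, fun s hs => ?_, ?_⟩
  · have h0 : l s = 0 := by
      have : l s ∈ Submodule.map l S := Submodule.mem_map_of_mem hs
      rw [hS] at this
      exact (Submodule.mem_bot F).1 this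
    rw [← hz, LinearMap.smul_apply, h0, smul_zero]
  · rw [← hz, LinearMap.smul_apply, smul_eq_mul, inv_mul_cancel₀ hl]

/-- Scaling a hyperbolic pair. -/
theorem exists_lev {a b : V} (hab : f a b = 1) {t : F} (ht : t ≠ 0) :
    ∃ g : Cfsg.spGL m F, g • a = t • a ∧ g • b = t⁻¹ • b ∧ ∀ w ∈ W2 a b, g • w = w := by
  set U : Submodule F V := Submodule.span F {a, b}
  have hperp : ∀ w ∈ W2 a b, ∀ x ∈ U, f w x = 0 := by
    intro w hw x hx
    induction hx using Submodule.span_induction with
    | mem y hy =>
      rcases hy with rfl | rfl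
      · exact sw_zero hw.1
      · exact sw_zero hw.2
    | zero => simp
    | add p q _ _ hp hq => simp [hp, hq]
    | smul c p _ hp => simp [hp]
  have hnd : ∀ u ∈ U, u ≠ 0 → ∃ w ∈ U, f u w ≠ 0 := by
    intro u hu hu0
    obtain ⟨p, q, rfl⟩ := Submodule.mem_span_pair.1 hu
    by_cases hp : p = 0
    · refine ⟨a, Submodule.subset_span (by simp), ?_⟩
      have hq : q ≠ 0 := fun h => hu0 (by simp [hp, h])
      simpa [hp, sw b a, hab] using hq
    · exact ⟨b, Submodule.subset_span (by simp), by simpa [hab] using hp⟩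
  have ma : a ∈ U := Submodule.subset_span (by simp)
  have mb : b ∈ U := Submodule.subset_span (by simp)
  obtain ⟨g, hg, ga, gb⟩ := Linear.exists_spTv_pair U hnd ma mb (U.smul_mem t ma)
    (U.smul_mem t⁻¹ mb) hab (by simp [hab, ht])
  exact ⟨g, ga, gb, fun w hw => Linear.smul_eq_of_mem_closure_spTvSet (W := U) (x := w) (hperp w hw) hg⟩

/-! ### Orders -/

variable [Fintype F]

theorem card_V : Fintype.card V = Fintype.card F ^ (2 * m) := by
  rw [Fintype.card_fun, Fintype.card_sum, Fintype.card_fin, two_mul]

theorem card_perp {a : V} (ha : a ≠ 0) [Fintype {v : V // f a v = 0}] :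
    Fintype.card F * Fintype.card {v : V // f a v = 0} = Fintype.card F ^ (2 * m) := by
  obtain ⟨b, hab⟩ := exists_dual ha
  let e : V ≃ F × {v : V // f a v = 0} :=
    { toFun := fun v => (f a v, ⟨v - f a v • b, by simp [Linear.sympForm_sub_right, hab]⟩)
      invFun := fun p => p.2.1 + p.1 • b
      left_inv := fun v => by simp
      right_inv := fun p => by
        obtain ⟨c, v, hv⟩ := p
        simp [hv, hab] }
  rw [← card_V, Fintype.card_congr e, Fintype.card_prod]

theorem card_W2 {a b : V} (hab : f a b = 1) :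
    Fintype.card F * Fintype.card F * Nat.card (W2 a b) = Fintype.card F ^ (2 * m) := by
  have hba : f b a = -1 := by rw [sw, hab]
  let e : V ≃ (F × F) × W2 a b :=
    { toFun := fun v => ((f b v, f a v), ⟨wp a b v, wp_mem hab v⟩)
      invFun := fun p => p.2.1 - p.1.1 • a + p.1.2 • b
      left_inv := fun v => by
        show wp a b v - f b v • a + f a v • b = v
        rw [wp]; abel
      right_inv := fun p => by
        obtain ⟨⟨α, β⟩, w, hw⟩ := p
        obtain ⟨h1, h2⟩ := hw
        refine Prod.ext (Prod.ext ?_ ?_) (Subtype.ext ?_)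
        · simp [h2, hba, Linear.sympForm_sub_right]
        · simp [h1, hab, Linear.sympForm_sub_right]
        · show wp a b (w - α • a + β • b) = w
          simp only [wp, Linear.sympForm_add_right, Linear.sympForm_sub_right,
            Linear.sympForm_smul_right, h1, h2, hab, hba, Linear.sympForm_self, mul_zero, mul_one,
            sub_zero, zero_add, add_zero, zero_sub, mul_neg, neg_neg]
          abel }
  have := Nat.card_congr e
  rw [Nat.card_prod, Nat.card_prod, Nat.card_eq_fintype_card (α := F),
    Nat.card_eq_fintype_card (α := V), card_V] at this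
  exact this.symm

theorem card_W2_eq {a b : V} (hab : f a b = 1) {d : ℕ} (hd : 2 * m = d + 2) :
    Nat.card (W2 a b) = Fintype.card F ^ d := by
  have := card_W2 hab
  have e : Fintype.card F ^ (2 * m) = Fintype.card F * Fintype.card F * Fintype.card F ^ d := by
    rw [hd, pow_add]; ring
  exact Nat.eq_of_mul_eq_mul_left (Nat.mul_pos Fintype.card_pos Fintype.card_pos) (this.trans e)

theorem card_sub_pow (U : Submodule F V) : ∃ j, Nat.card U = Fintype.card F ^ j :=
  ⟨finrank F U, by rw [Module.natCard_eq_pow_finrank (K := F), Nat.card_eq_fintype_card]⟩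

/-- Two conditions, each failing at most once, hold together somewhere. -/
theorem exists_good (hq : 3 ≤ Fintype.card F) {P Q : F → Prop}
    (hP : ∀ s t, ¬ P s → ¬ P t → s = t) (hQ : ∀ s t, ¬ Q s → ¬ Q t → s = t) :
    ∃ t, P t ∧ Q t := by
  classical
  by_contra! h
  have h1 : (Finset.univ.filter fun t : F => ¬ P t).card ≤ 1 :=
    Finset.card_le_one.2 fun x hx y hy => hP x y (Finset.mem_filter.1 hx).2 (Finset.mem_filter.1 hy).2
  have h2 : (Finset.univ.filter fun t : F => ¬ Q t).card ≤ 1 :=
    Finset.card_le_one.2 fun x hx y hy => hQ x y (Finset.mem_filter.1 hx).2 (Finset.mem_filter.1 hy).2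
  have h3 : Fintype.card F ≤ ((Finset.univ.filter fun t : F => ¬ P t) ∪
      (Finset.univ.filter fun t : F => ¬ Q t)).card := by
    rw [← Finset.card_univ]
    refine Finset.card_le_card fun t _ => ?_
    simp only [Finset.mem_union, Finset.mem_filter, Finset.mem_univ, true_and]
    by_cases hp : P t
    · exact .inr (h t hp)
    · exact .inl hp
  have := h3.trans (Finset.card_union_le _ _)
  omega

end Cfsg.Agent.MinIndexSp.Psp
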