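import Cfsg.Agent.Lib.MinIndexSp.PspOrbits

/-!
# Small actions of `Sp_2m(q)`, even `q`: there are none

* `all_wfixed_false` : radical subgroups cannot all preserve the root orbits of a point
* `two_chars` : an orbit holding a whole line carries one non-trivial character
* `even_false`
-/

set_option autoImplicit false
set_option linter.unusedSectionVars false
set_option linter.style.haveILetI false

namespace Cfsg.Agent.MinIndexSp.Psp

open Cfsg Cfsg.Agent Module MulAction
open scoped Pointwise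

variable {m : ℕ} {F : Type*} [Field F] [Fintype F]
variable {X : Type*} [MulAction (Cfsg.spGL m F) X] [Fintype X] [DecidableEq X]
variable {a b : Fin m ⊕ Fin m → F}

local notation "V" => (Fin m ⊕ Fin m → F)
local notation "f" => Cfsg.sympForm m F

theorem exists_sqrt (h2 : (2 : F) = 0) (c : F) : ∃ t : F, t ^ 2 = c := by
  refine Finite.injective_iff_surjective.1 (fun s t (h : s ^ 2 = t ^ 2) => ?_) c
  rcases sq_eq_sq_iff_eq_or_eq_neg.1 h with e | e
  · exact e
  · exact e.trans (by linear_combination -t * h2)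

/-- Radical subgroups cannot all keep the root orbits of a point. -/
theorem all_wfixed_false (hF : Free m F X) (h2 : (2 : F) = 0) (hm : 2 ≤ m)
    (hq : 3 ≤ Fintype.card F)
    (hall : ∀ p w : Fin m ⊕ Fin m → F, p ≠ 0 → f p w = 0 → ∀ y : X,
      ∃ r : F, cr p w • y = Linear.spTv p r • y) (x : X) : False := by
  have key : ∀ {p q : V}, p ≠ 0 → q ≠ 0 → p ∉ Submodule.span F {q} → f p q = 0 → ∀ {ν r : F},
      cr p (ν • q) • x = Linear.spTv p r • x →
      ∀ μ : F, cr q ((r * μ) • p) • x = Linear.spTv q (μ ^ 2 * r) • x := by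
    intro p q hp hq0 hpq hpq0 ν r hr μ
    obtain ⟨s, hs0, hs1⟩ := exists_detect (Submodule.span F {q}) hpq
    have hqs : f q s = 0 := hs0 q (Submodule.mem_span_singleton_self q)
    obtain ⟨k, hk⟩ := hall q (μ • s) hq0 (by simp [hqs]) x
    set g2 := cr p (ν • q) * Linear.spTv p r with hg2
    have hpν : f p (ν • q) = 0 := by simp [hpq0]
    have hg2x : g2 • x = x := by
      rw [hg2, mul_smul, ← hr, ← mul_smul, cr_mul hpν hpν, Linear.sympForm_self, Linear.spTv_zero,
        mul_one, ← two_smul F, h2, zero_smul, cr_zero, one_smul]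
    set g1 := cr q (μ • s) * Linear.spTv q k with hg1
    have hqμ : f q (μ • s) = 0 := by simp [hqs]
    have hg1x : g1 • x = x := by
      rw [hg1, mul_smul, ← hk, ← mul_smul, cr_mul hqμ hqμ, Linear.sympForm_self, Linear.spTv_zero,
        mul_one, ← two_smul F, h2, zero_smul, cr_zero, one_smul]
    have hg1q : g1 • q = q := by
      rw [hg1, mul_smul, Linear.spTv_smul, Linear.sympForm_self, mul_zero, zero_smul, add_zero,
        cr_fix hqμ (Linear.sympForm_self q) hqμ]
    have hg1p : g1 • p = p + μ • q := by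
      rw [hg1, mul_smul, Linear.spTv_smul, hpq0, mul_zero, zero_smul, add_zero, cr_smul hqμ, hpq0,
        zero_smul, add_zero, Linear.sympForm_smul_right, hs1, mul_one]
    have e := (mul_smul (g1 * g2) g1⁻¹ x)
    rw [inv_smul_eq_iff.2 hg1x.symm, mul_smul g1, hg2x, hg1x, hg2] at e
    rw [show g1 * (cr p (ν • q) * Linear.spTv p r) * g1⁻¹ =
      (g1 * cr p (ν • q) * g1⁻¹) * (g1 * Linear.spTv p r * g1⁻¹) by group, cr_conj,
      Linear.spTv_conj, hg1p, smul_comm g1, hg1q] at e
    -- rewrite the conjugate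
    have hqp : f q p = 0 := sw_zero hpq0
    have e1 : cr (p + μ • q) (ν • q) = cr p (ν • q) := by
      refine Linear.spGL_ext fun z => ?_
      rw [cr_smul (by simp [hpq0]), cr_smul hpν]
      have e2 : (2 : F) • ((μ * ν * f z q) • q) = 0 := by rw [h2, zero_smul]
      simp only [Linear.sympForm_add_right, Linear.sympForm_smul_right]
      linear_combination (norm := module) e2
    have e3 : Linear.spTv (p + μ • q) r =
        Linear.spTv p r * (Linear.spTv q (μ ^ 2 * r) * cr q ((r * μ) • p)) := by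
      rw [spTv_sum (by simp [hpq0]), Linear.spTv_smul_vec, smul_smul, mul_assoc]
      congr 2
      rw [← cr_smul_left (r * μ) hqp]
      exact cr_comm (by simp [hpq0])
    rw [e1, e3, ← mul_assoc, ← hg2, mul_smul] at e
    rw [← hg2x] at e
    simp only [← mul_smul] at e
    have e4 := congrArg (g2⁻¹ • ·) e
    simp only [← mul_smul, ← mul_assoc, inv_mul_cancel, one_mul, one_smul] at e4
    -- `e4` : the rest fixes `x`
    have hinv : Linear.spTv q (μ ^ 2 * r) * Linear.spTv q (μ ^ 2 * r) = 1 := by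
      rw [← Linear.spTv_add, ← two_mul, h2, zero_mul, Linear.spTv_zero]
    rw [mul_smul, mul_smul, hg2x] at e4
    have e5 := congrArg (Linear.spTv q (μ ^ 2 * r) • ·) e4
    simp only [← mul_smul, hinv, one_smul] at e5
    rw [← mul_assoc, hinv, one_mul] at e5
    exact e5
  have zero : ∀ {p q : V}, p ≠ 0 → q ≠ 0 → p ∉ Submodule.span F {q} → q ∉ Submodule.span F {p} →
      f p q = 0 → ∀ {ν r : F}, cr p (ν • q) • x = Linear.spTv p r • x → r = 0 := by
    intro p q hp hq0 h1 h1' hpq ν r hr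
    by_contra hr0
    obtain ⟨μ1, hμ1⟩ := exists_sqrt h2 r⁻¹
    have k1 := key hp hq0 h1 hpq hr μ1
    rw [hμ1, inv_mul_cancel₀ hr0] at k1
    -- `1` is a value at `(q, p)`
    have k2 := fun μ => key hq0 hp h1' (sw_zero hpq) k1 μ
    obtain ⟨μ2, hμ2⟩ := exists_sqrt h2 (1 : F)
    obtain ⟨ρ, hρ0, hρ1⟩ := exists_good hq (P := fun l : F => l ≠ 0) (Q := fun l : F => l ≠ 1)
      (fun s t hs ht => by simp only [ne_eq, not_not] at hs ht; rw [hs, ht])
      (fun s t hs ht => by simp only [ne_eq, not_not] at hs ht; rw [hs, ht])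
    obtain ⟨τ, hτ⟩ := exists_sqrt h2 ρ
    have k3 := key hp hq0 h1 hpq (k2 τ) -- a second value `ρ`
    have k4 : ∃ ν' : F, cr q (ν' • p) • x = Linear.spTv q ρ • x := by
      refine ⟨ρ, ?_⟩
      have := k3 1
      simp only [one_pow, one_mul, mul_one, hτ] at this
      exact this
    obtain ⟨ν', hν'⟩ := k4
    have k5 := fun μ => key hq0 hp h1' (sw_zero hpq) hν' μ
    obtain ⟨r0, hr0'⟩ := hF p hp x
    have hne : ρ ^ 2 - ρ ≠ 0 := by
      rw [show ρ ^ 2 - ρ = ρ * (ρ - 1) by ring]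
      exact mul_ne_zero hρ0 (sub_ne_zero.2 hρ1)
    obtain ⟨μ, hμ⟩ := exists_sqrt h2 (r0 / (ρ ^ 2 - ρ))
    have a1 := k2 (ρ * μ)
    have a2 := k5 μ
    rw [one_mul, mul_one] at a1
    rw [a1] at a2
    apply hr0'
    have a3 := congrArg (Linear.spTv p (-(μ ^ 2 * ρ)) • ·) a2
    simp only [← mul_smul, ← Linear.spTv_add, neg_add_cancel, Linear.spTv_zero, one_smul] at a3
    rwa [show -(μ ^ 2 * ρ) + (ρ * μ) ^ 2 = r0 by
      rw [mul_pow, hμ]; field_simp; ring] at a3
  -- every radical element fixes `x`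
  have hpure : ∀ p w : V, p ≠ 0 → f p w = 0 → cr p w • x = x := by
    intro p w hp hw
    by_cases hwp : w ∈ Submodule.span F {p}
    · obtain ⟨c, rfl⟩ := Submodule.mem_span_singleton.1 hwp
      have := cr_add_self (a := p) (w := 0) (Linear.sympForm_zero_right p) c
      rw [zero_add, cr_zero, one_mul, h2, zero_mul, Linear.spTv_zero] at this
      rw [this, one_smul]
    have hw0 : w ≠ 0 := fun e => hwp (e ▸ zero_mem _)
    have hpw : p ∉ Submodule.span F {w} := by
      intro e
      obtain ⟨c, hc⟩ := Submodule.mem_span_singleton.1 e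
      have hc0 : c ≠ 0 := fun e' => hp (by rw [← hc, e', zero_smul])
      exact hwp (Submodule.mem_span_singleton.2 ⟨c⁻¹, by rw [← hc, inv_smul_smul₀ hc0]⟩)
    obtain ⟨r, hr⟩ := hall p w hp hw x
    have hr1 : cr p ((1 : F) • w) • x = Linear.spTv p r • x := by rwa [one_smul]
    rw [hr, zero hp hw0 hpw hwp hw hr1, Linear.spTv_zero, one_smul]
  have ha : (Pi.single (.inl ⟨0, by omega⟩) 1 : V) ≠ 0 := by simp
  set p : V := Pi.single (.inl ⟨0, by omega⟩) 1
  obtain ⟨q', hpq⟩ := exists_dual ha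
  obtain ⟨w, hwW, hw0⟩ : ∃ w ∈ W2 p q', w ≠ 0 := by
    by_contra! h
    have := card_W2_eq hpq (d := 2 * m - 2) (by omega)
    rw [show W2 p q' = ⊥ from (Submodule.eq_bot_iff _).2 h] at this
    have h4 : 1 < Fintype.card F ^ (2 * m - 2) := Nat.one_lt_pow (by omega) (by omega)
    simp at this
    omega
  obtain ⟨w', hw'W, hww⟩ := W2_nd hpq w hwW hw0
  obtain ⟨r0, hr0⟩ := hF p ha x
  apply hr0
  set w2 := (r0 / f w' w) • w'
  have hw2 : f p w2 = 0 := by simp [w2, hw'W.1]
  have e := cr_mul hwW.1 hw2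
  have hx1 : (cr p w * cr p w2) • x = x := by
    rw [mul_smul, hpure _ _ ha hw2, hpure _ _ ha hwW.1]
  have hne : f w' w ≠ 0 := by rw [sw]; simpa using hww
  rw [e, mul_smul, Linear.sympForm_smul_left, div_mul_cancel₀ _ hne] at hx1
  rw [← smul_left_cancel_iff (cr p (w + w2)), hx1, hpure _ _ ha (by simp [hwW.1, hw2])]

variable [Fintype (W2 a b)]

/-- An orbit whose annihilator holds the line of `φ` carries only the character `c`. -/
theorem two_chars (hab : f a b = 1) (hF : Free m F X) (h2 : (2 : F) = 0) {c : F} (hc0 : c ≠ 0)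
    {φ : W2 a b} (hφ0 : φ ≠ 0) (hk : ∀ c' : F, c' ≠ 0 → ∀ ψ : W2 a b, ψ ≠ 0 → kc hab X c' ψ = 1)
    {B : Finset (YT a X)} (hB : B ∈ bc hab X c)
    (hline : ∀ s : F, s • φ ∈ MinIndex.Ab (DY hab X) B) {y : YT a X} (hy : y ∈ B) {c' : F}
    (hc' : c' ∈ EE y) : c' = 0 ∨ c' = c := by
  classical
  by_contra! hne
  obtain ⟨hc'0, hc'c⟩ := hne
  obtain ⟨t, ht2⟩ := exists_sqrt h2 (c / c')
  have hct : c / t ^ 2 = c' := by rw [ht2]; field_simp
  have ht0 : t ≠ 0 := fun e => by
    rw [e, zero_pow two_ne_zero] at ht2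
    exact hc0 ((div_eq_zero_iff.1 ht2.symm).resolve_right hc'0)
  have ht21 : t ^ 2 ≠ 1 := fun e => hc'c (by rw [← hct, e, div_one])
  have ht1 : t ≠ 1 := fun e => ht21 (by rw [e, one_pow])
  have hφB : φ ∈ MinIndex.Ab (DY hab X) B := by simpa using hline 1
  obtain ⟨h, hha, hhb, hhW⟩ := exists_lev hab ht0
  have hhB : pg a X ht0 hha • B = B := by
    refine move_eq hab ht0 hha hhb (hk c hc0 φ hφ0) hB hφB ?_ ?_
    · refine Finset.mem_filter.2 ⟨bc_block hab hB, fun y' hy' => ?_⟩
      obtain ⟨z, rfl⟩ := (MinIndex.mem_blocks _).1 (bc_block hab hB)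
      rw [hct, EE_const hab hy', ← EE_const hab hy]
      exact hc'
    · rw [tau_fix hab ht0 hha hhb (s := 1) (by rw [one_smul]; exact hhW _ φ.2)]
      exact hline _
  obtain ⟨y0, hy0, hy0f, huniq⟩ := exists_fixed hab ht0 ht1 hha hhb hhW (bc_block hab hB) hhB
  obtain ⟨x, rfl⟩ := exists_yOf y0
  obtain ⟨r0, hr0⟩ := hF (φ : V) (fun e => hφ0 (Subtype.ext e)) x
  apply hr0
  set g := Linear.spTv (φ : V) r0 with hg
  have hga : g • a = a := by simp [hg, Linear.spTv_smul, φ.2.1]
  have hgb : g • b = b := by simp [hg, Linear.spTv_smul, φ.2.2]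
  have hgφ : g • (φ : V) = (1 : F) • (φ : V) := by simp [hg, Linear.spTv_smul]
  have hga' : g • a = (1 : F) • a := by rw [one_smul, hga]
  have hc := lev_comm hab hga hgb hha hhb hhW
  have hgy := commute_fixed (pg_mul_comm ht0 one_ne_zero hha hga' hc)
    (fix_block hab (hk c hc0 φ hφ0) hB hφB hga hgb hgφ (hline 1) hga') hy0 hy0f huniq
  obtain ⟨δ, hδ⟩ := pg_fix_point one_ne_zero hga' hgy
  obtain ⟨r, hr⟩ := pg_fix_point ht0 hha hy0f
  exact scale_fix ht0 ht21 hga hha hc hδ hr

theorem even_false (hab : f a b = 1) (hF : Free m F X) (h2 : (2 : F) = 0) (hm : 2 ≤ m)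
    (hq : 4 ≤ Fintype.card F) (hs : Small m F X) [Nonempty X] : False := by
  classical
  obtain ⟨d, hd⟩ : ∃ d, 2 * m = d + 2 := ⟨2 * m - 2, by omega⟩
  have hWc : Fintype.card (W2 a b) = Fintype.card F ^ d := by
    rw [← Nat.card_eq_fintype_card, card_W2_eq hab hd]
  unfold Small at hs
  set q := Fintype.card F with hqd
  set D := q ^ d with hD
  have hqq : q ^ (2 * m) = q * q * D := by rw [hd, hD, pow_add]; ring
  have hDq : q * q ≤ D := by rw [hD, ← sq]; exact Nat.pow_le_pow_right (by omega) (by omega)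
  have hD1 : 1 ≤ D := le_trans (Nat.mul_pos (by omega) (by omega)) hDq
  obtain ⟨x0⟩ := ‹Nonempty X›
  have ha := ne_zero_of_pair hab
  set Yc := fun c : F => Finset.univ.filter fun y : YT a X => c ∈ EE y with hYc
  obtain ⟨φ0, hφ0⟩ : ∃ φ : W2 a b, φ ≠ 0 := by
    refine Fintype.exists_ne_of_one_lt_card ?_ 0
    rw [hWc]
    have h4 : 4 * 4 ≤ q * q := Nat.mul_le_mul hq hq
    omega
  -- all characters behave alike
  have htrans : ∀ c c' : F, c ≠ 0 → c' ≠ 0 → ∃ t : F, t ≠ 0 ∧ c / t ^ 2 = c' := by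
    intro c c' hc hc'
    obtain ⟨t, ht⟩ := exists_sqrt h2 (c / c')
    refine ⟨t, fun e => ?_, by rw [ht]; field_simp⟩
    rw [e, zero_pow two_ne_zero] at ht
    exact hc ((div_eq_zero_iff.1 ht.symm).resolve_right hc')
  have hkK : ∀ c : F, c ≠ 0 → ∀ φ : W2 a b, φ ≠ 0 → kc hab X c φ = kc hab X 1 φ0 := by
    intro c hc φ hφ
    obtain ⟨t, ht, htc⟩ := htrans 1 c one_ne_zero hc
    obtain ⟨g, ga, gb, gW⟩ := exists_lev hab ht
    have h1 := kc_eq (X := X) hab ht ga gb 1 φ0
    rw [htc, tau_fix hab ht ga gb (s := 1) (by rw [one_smul]; exact gW _ φ0.2)] at h1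
    rw [← h1]
    exact kc_const hab c (smul_ne_zero (mul_ne_zero (inv_ne_zero ht) one_ne_zero) hφ0) hφ
  have hne : ∀ c : F, ∃ y : YT a X, c ∈ EE y := by
    intro c
    by_cases hc : c = 0
    · exact ⟨yOf a x0, hc ▸ (EE _).zero_mem⟩
    obtain ⟨c1, hc1, hc10⟩ := EE_ne_bot hF ha (yOf a x0)
    obtain ⟨t, ht, htc⟩ := htrans c1 c hc10 hc
    obtain ⟨g, ga, -, -⟩ := exists_lev hab ht
    exact ⟨(⟨g, mem_Par_of ht ga⟩ : Par a) • yOf a x0,
      htc ▸ EE_smul (g := ⟨g, mem_Par_of ht ga⟩) ht ga hc1⟩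
  have hsumX : Fintype.card X =
      Fintype.card (YT a X) + ∑ c ∈ (Finset.univ : Finset F).erase 0, (Yc c).card := by
    rw [sum_yc (a := a) (X := X), ← Finset.add_sum_erase (a := (0 : F)) _ _ (Finset.mem_univ _)]
    congr 1
    rw [← Finset.card_univ]
    congr 1
    ext y; simp
  have hq1 : ((Finset.univ : Finset F).erase 0).card = q - 1 := by
    rw [Finset.card_erase_of_mem (Finset.mem_univ _), Finset.card_univ]
  have hYle : ∀ c, (Yc c).card ≤ Fintype.card (YT a X) := fun c => Finset.card_le_univ _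
  rcases Nat.lt_or_ge (kc hab X 1 φ0) 1 with hK | hK
  · -- all orbits of the radical quotient are points
    have hfix : ∀ (y : YT a X) (v : W2 a b), (DY hab X).e v • y = y := by
      intro y v
      obtain ⟨c, hc, hc0⟩ := EE_ne_bot hF ha y
      set B := MinIndex.orb (DY hab X) y
      have hB : B ∈ bc hab X c := (mem_bc hab).2 hc
      have hA : MinIndex.Ab (DY hab X) B = ⊥ := by
        refine (AddSubgroup.eq_bot_iff_forall _).2 fun ψ hψ => ?_
        by_contra hψ0
        have h1 : 1 ≤ kc hab X c ψ := Finset.card_pos.2 ⟨B, Finset.mem_filter.2 ⟨hB, hψ⟩⟩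
        rw [hkK c hc0 ψ hψ0] at h1
        omega
      have h1 := MinIndex.card_Ab (DY hab X) (bc_block hab hB)
      rw [hA, AddSubgroup.card_bot] at h1
      obtain ⟨z, hz⟩ := Finset.card_eq_one.1 h1.symm
      have e1 : (DY hab X).e v • y ∈ B := (MinIndex.mem_orb _).2 ⟨v, rfl⟩
      have e2 : y ∈ B := MinIndex.self_mem_orb _ y
      rw [hz, Finset.mem_singleton] at e1 e2
      exact e1.trans e2.symm
    refine all_wfixed_false hF h2 hm (by omega) (fun p w hp hw y => ?_) x0
    have base : ∀ (w : V), f a w = 0 → ∀ y : X, ∃ r : F, cr a w • y = Linear.spTv a r • y := by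
      intro w hw y
      have h1 := hfix (yOf a y) ⟨wp a b w, wp_mem hab w⟩
      rw [DY_smul] at h1
      obtain ⟨r, hr⟩ := (fixed_yOf_iff _ y).1 h1
      refine ⟨r, ?_⟩
      rw [wp_perp (b := b) hw, cr_add_self (wp_mem hab w).1, h2, zero_mul, Linear.spTv_zero, mul_one]
      exact hr
    obtain ⟨g, rfl⟩ := Linear.exists_spGL_smul_eq ha hp
    have hw' : f a (g⁻¹ • w) = 0 := by
      rw [← Linear.sympForm_smul_smul g, smul_inv_smul]; exact hw
    obtain ⟨r, hr⟩ := base _ hw' (g⁻¹ • y)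
    refine ⟨r, ?_⟩
    rw [← smul_inv_smul g w, ← cr_conj, mul_smul, mul_smul, hr, ← mul_smul, ← mul_smul,
      Linear.spTv_conj]
  rcases eq_or_lt_of_le hK with hK1 | hK2
  swap
  · -- two orbits through every vector
    have hlow : ∀ c : F, c ≠ 0 → 1 + 2 * (D - 1) ≤ (Yc c).card := fun c hc =>
      le_of_eq_of_le (by rw [hWc]) (yc_lower hab (hne c) fun φ hφ => (hkK c hc φ hφ).symm ▸ hK2)
    have h1 : (q - 1) * (1 + 2 * (D - 1)) ≤ ∑ c ∈ (Finset.univ : Finset F).erase 0, (Yc c).card := by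
      rw [← hq1, ← smul_eq_mul, ← Finset.sum_const]
      exact Finset.sum_le_sum fun c hc => hlow c (Finset.ne_of_mem_erase hc)
    have h3 := (hlow 1 one_ne_zero).trans (hYle 1)
    have h4 : q * (1 + 2 * (D - 1)) ≤ Fintype.card X := by
      obtain ⟨q', hq'⟩ : ∃ q', q = q' + 1 := ⟨q - 1, by omega⟩
      rw [hq'] at h1 ⊢
      rw [Nat.add_sub_cancel] at h1
      rw [Nat.succ_mul]
      omega
    have h5 := Nat.mul_le_mul_right (q - 1) h4
    zify [hD1, show 1 ≤ q by omega] at h5 hs hqq hDq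
    rw [hqq] at hs
    have hq' : (4 : ℤ) ≤ q := by exact_mod_cast hq
    nlinarith [mul_le_mul_of_nonneg_right hq' (show (0 : ℤ) ≤ q * D by positivity), hDq]
  -- one orbit through every vector
  have hk1 : ∀ c : F, c ≠ 0 → ∀ ψ : W2 a b, ψ ≠ 0 → kc hab X c ψ = 1 := fun c hc ψ hψ =>
    (hkK c hc ψ hψ).trans hK1.symm
  by_cases hline : ∃ (φ : W2 a b) (B : Finset (YT a X)), φ ≠ 0 ∧ B ∈ bc hab X 1 ∧
      ∀ s : F, s • φ ∈ MinIndex.Ab (DY hab X) B
  · -- the orbits carry one character each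
    obtain ⟨φ, B, hφ, hB, hl⟩ := hline
    have hexcl : ∀ c : F, c ≠ 0 → ∀ C ∈ bc hab X c, ∀ ψ : W2 a b, ψ ≠ 0 →
        ψ ∈ MinIndex.Ab (DY hab X) C → ∀ z ∈ C, ∀ c' ∈ EE z, c' = 0 ∨ c' = c := by
      intro c hc C hC ψ hψ hψC z hz c' hc'
      refine two_chars hab hF h2 hc hψ hk1 hC (fun s => ?_) hz hc'
      obtain ⟨t, ht, htc⟩ := htrans 1 c one_ne_zero hc
      obtain ⟨g1, ga1, gb1, gW1⟩ := exists_lev hab ht
      obtain ⟨g2, ga2, gb2, gv2⟩ := exists_levi_map hab hφ (v' := t • ψ) (smul_ne_zero ht hψ)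
      rw [Submodule.coe_smul] at gv2
      have hga : (g1 * g2) • a = t • a := by rw [mul_smul, ga2, ga1]
      have hgb : (g1 * g2) • b = t⁻¹ • b := by rw [mul_smul, gb2, gb1]
      have hmap : (g1 * g2) • (φ : V) = t • (ψ : V) := by
        rw [mul_smul, gv2, smul_comm g1 t (ψ : V), gW1 _ ψ.2]
      have hτ : ∀ s : F, tau (g1 * g2) ht hga hgb (s • φ) = s • ψ := by
        intro s
        apply Subtype.ext
        simp only [tau, Submodule.coe_smul]
        rw [smul_comm (g1 * g2) s (φ : V), hmap, smul_smul, smul_smul]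
        congr 1
        field_simp
      have e := move_eq hab ht hga hgb (hk1 1 one_ne_zero φ hφ) hB (by simpa using hl 1)
        (show C ∈ bc hab X (1 / t ^ 2) by rw [htc]; exact hC)
        (by rw [← one_smul F φ, hτ, one_smul]; exact hψC)
      rw [← e, ← hτ s]
      exact MinIndex.Ab_smul (DY hab X) (pg_norm hab ht hga hgb) (hl s)
    set NT := fun c : F => (Yc c).filter fun y : YT a X =>
      MinIndex.Ab (DY hab X) (MinIndex.orb (DY hab X) y) ≠ ⊥ with hNT
    have hNTc : ∀ c : F, c ≠ 0 → D ≤ (NT c).card := by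
      intro c hc
      have hcount := yc_count (X := X) hab c
      have hkc : ∑ φ ∈ (Finset.univ : Finset (W2 a b)).erase 0, kc hab X c φ = D - 1 := by
        rw [Finset.sum_congr rfl fun φ hφ => hk1 c hc φ (Finset.ne_of_mem_erase hφ), Finset.sum_const,
          Finset.card_erase_of_mem (Finset.mem_univ _), Finset.card_univ, hWc, smul_eq_mul, mul_one]
      rw [hkc] at hcount
      obtain ⟨B0, hB0, hB0φ⟩ := block_of_kc hab (hk1 c hc φ0 hφ0).ge
      set FX := (Yc c).filter fun y : YT a X =>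
        ¬ MinIndex.Ab (DY hab X) (MinIndex.orb (DY hab X) y) ≠ ⊥
      have hFX : FX.card ≤ ((bc hab X c).erase B0).card := by
        refine Finset.card_le_card_of_injOn (fun y => MinIndex.orb (DY hab X) y) (fun y hy => ?_) ?_
        · obtain ⟨hy1, hy2⟩ := Finset.mem_filter.1 hy
          simp only [not_not] at hy2
          refine Finset.mem_erase.2 ⟨fun e => ?_, (mem_bc hab).2 (Finset.mem_filter.1 hy1).2⟩
          rw [show MinIndex.orb (DY hab X) y = B0 from e] at hy2
          rw [hy2, AddSubgroup.mem_bot] at hB0φ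
          exact hφ0 hB0φ
        · intro y hy y' _ e
          obtain ⟨hy1, hy2⟩ := Finset.mem_filter.1 hy
          simp only [not_not] at hy2
          have h1 := MinIndex.card_Ab (DY hab X) ((MinIndex.mem_blocks (DY hab X)).2 ⟨y, rfl⟩)
          rw [hy2, AddSubgroup.card_bot] at h1
          obtain ⟨z, hz⟩ := Finset.card_eq_one.1 h1.symm
          have e1 : y ∈ MinIndex.orb (DY hab X) y := MinIndex.self_mem_orb _ y
          have e2 : y' ∈ MinIndex.orb (DY hab X) y := by
            simp only at e; rw [e]; exact MinIndex.self_mem_orb _ y'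
          rw [hz, Finset.mem_singleton] at e1 e2
          exact e1.trans e2.symm
      rw [Finset.card_erase_of_mem hB0] at hFX
      have hpart : (NT c).card + FX.card = (Yc c).card :=
        Finset.card_filter_add_card_filter_not _
      have hpos : 1 ≤ (bc hab X c).card := Finset.card_pos.2 ⟨B0, hB0⟩
      have hcount' : (Yc c).card = (bc hab X c).card + (D - 1) := hcount
      omega
    have hdis : ∀ c ∈ (Finset.univ : Finset F).erase 0, ∀ c' ∈ (Finset.univ : Finset F).erase 0,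
        c ≠ c' → Disjoint (NT c) (NT c') := by
      intro c hc c' hc' hne'
      refine Finset.disjoint_left.2 fun y hy hy' => ?_
      obtain ⟨hy1, hy2⟩ := Finset.mem_filter.1 hy
      obtain ⟨hy1', -⟩ := Finset.mem_filter.1 hy'
      obtain ⟨ψ, hψ, hψ0⟩ : ∃ ψ ∈ MinIndex.Ab (DY hab X) (MinIndex.orb (DY hab X) y), ψ ≠ 0 := by
        by_contra! h
        exact hy2 ((AddSubgroup.eq_bot_iff_forall _).2 h)
      rcases hexcl c (Finset.ne_of_mem_erase hc) _ ((mem_bc hab).2 (Finset.mem_filter.1 hy1).2) ψ hψ0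
        hψ y (MinIndex.self_mem_orb _ y) c' (Finset.mem_filter.1 hy1').2 with h | h
      · exact Finset.ne_of_mem_erase hc' h
      · exact hne' h.symm
    have hY : (q - 1) * D ≤ Fintype.card (YT a X) := by
      refine le_trans ?_ (Finset.card_le_univ (((Finset.univ : Finset F).erase 0).biUnion NT))
      rw [Finset.card_biUnion hdis, ← hq1, ← smul_eq_mul, ← Finset.sum_const]
      exact Finset.sum_le_sum fun c hc => hNTc c (Finset.ne_of_mem_erase hc)
    have hS : (q - 1) * D ≤ ∑ c ∈ (Finset.univ : Finset F).erase 0, (Yc c).card := by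
      rw [← hq1, ← smul_eq_mul, ← Finset.sum_const]
      exact Finset.sum_le_sum fun c hc =>
        (hNTc c (Finset.ne_of_mem_erase hc)).trans (Finset.card_filter_le _ _)
    have h4 := Nat.mul_le_mul_right (q - 1) (Nat.add_le_add hY hS)
    rw [← hsumX] at h4
    zify [show 1 ≤ q by omega] at h4 hs hqq hDq
    rw [hqq] at hs
    have hq' : (4 : ℤ) ≤ q := by exact_mod_cast hq
    nlinarith [mul_le_mul_of_nonneg_right (mul_le_mul_of_nonneg_right hq' (show (0 : ℤ) ≤ q by linarith))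
      (show (0 : ℤ) ≤ D by positivity)]
  -- every annihilator is part of a line
  push Not at hline
  have hsmallA : ∀ B ∈ bc hab X 1, 2 * Nat.card (MinIndex.Ab (DY hab X) B) ≤ q := by
    intro B hB
    set A := MinIndex.Ab (DY hab X) B
    by_cases h : A = ⊥
    · rw [h, AddSubgroup.card_bot]; omega
    obtain ⟨ψ, hψ, hψ0⟩ : ∃ ψ ∈ A, ψ ≠ 0 := by
      by_contra! h'
      exact h ((AddSubgroup.eq_bot_iff_forall _).2 h')
    obtain ⟨s0, hs0⟩ := hline ψ B hψ0 hB
    rcases ab_cases hab hψ0 (hk1 1 one_ne_zero ψ hψ0) hB hψ with h1 | h1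
    · exact absurd (h1 s0) hs0
    let μ : F →+ W2 a b :=
      { toFun := fun s => s • ψ
        map_zero' := zero_smul F ψ
        map_add' := fun s t => add_smul s t ψ }
    have hμ : Function.Injective μ := fun s t e => smul_left_injective F hψ0 e
    have hA' : (A.comap μ).map μ = A := by
      refine AddSubgroup.map_comap_eq_self fun v hv => ?_
      obtain ⟨s, rfl⟩ := h1 v hv
      exact ⟨s, rfl⟩
    have e1 : Nat.card (A.comap μ) = Nat.card A := by
      conv_rhs => rw [← hA']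
      exact Nat.card_congr (AddSubgroup.equivMapOfInjective (A.comap μ) μ hμ).toEquiv
    obtain ⟨k, hk⟩ : Nat.card (A.comap μ) ∣ q := by
      have := AddSubgroup.card_addSubgroup_dvd_card (A.comap μ)
      rwa [Nat.card_eq_fintype_card (α := F)] at this
    have hk0 : k ≠ 0 := fun e => by rw [e, mul_zero] at hk; omega
    have hk1 : k ≠ 1 := fun e => by
      rw [e, mul_one] at hk
      have htop := AddSubgroup.eq_top_of_card_eq (A.comap μ)
        (by rw [Nat.card_eq_fintype_card (α := F)]; exact hk.symm)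
      exact hs0 (show s0 ∈ A.comap μ from htop ▸ AddSubgroup.mem_top _)
    rw [← e1, hk, mul_comm (Nat.card (A.comap μ)) k]
    exact Nat.mul_le_mul_right _ (by omega)
  have hcount := yc_count (X := X) hab 1
  have hkc : ∑ φ ∈ (Finset.univ : Finset (W2 a b)).erase 0, kc hab X 1 φ = D - 1 := by
    rw [Finset.sum_congr rfl fun φ hφ => hk1 1 one_ne_zero φ (Finset.ne_of_mem_erase hφ),
      Finset.sum_const, Finset.card_erase_of_mem (Finset.mem_univ _), Finset.card_univ, hWc,
      smul_eq_mul, mul_one]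
  rw [hkc] at hcount
  have hcount' : (Yc 1).card = (bc hab X 1).card + (D - 1) := hcount
  have hblk : 2 * (Yc 1).card ≤ q * (bc hab X 1).card := by
    have h1 : (Yc 1).card = ∑ B ∈ bc hab X 1, B.card := by
      rw [hYc]
      rw [Finset.card_eq_sum_card_fiberwise (s := Finset.univ.filter fun y : YT a X => (1 : F) ∈ EE y)
        (t := bc hab X 1) (fun y hy => Finset.mem_coe.2
          ((mem_bc hab).2 (Finset.mem_filter.1 (Finset.mem_coe.1 hy)).2))]
      refine Finset.sum_congr rfl fun B hB => congrArg Finset.card ?_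
      obtain ⟨z, rfl⟩ := (MinIndex.mem_blocks _).1 (bc_block hab hB)
      ext y
      simp only [Finset.mem_filter, Finset.mem_univ, true_and]
      exact ⟨fun h => h.2 ▸ MinIndex.self_mem_orb _ y,
        fun h => ⟨bc_EE hab hB y h, MinIndex.orb_eq _ h⟩⟩
    rw [h1, Finset.mul_sum, mul_comm q, ← smul_eq_mul (bc hab X 1).card, ← Finset.sum_const]
    refine Finset.sum_le_sum fun B hB => ?_
    rw [← MinIndex.card_Ab (DY hab X) (bc_block hab hB)]
    exact hsmallA B hB
  have hall : ∀ c : F, c ≠ 0 → (Yc c).card = (Yc 1).card := by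
    intro c hc
    obtain ⟨t, ht, htc⟩ := htrans 1 c one_ne_zero hc
    obtain ⟨g, ga, -, -⟩ := exists_lev hab ht
    refine Finset.card_nbij' (fun y => (⟨g, mem_Par_of ht ga⟩ : Par a)⁻¹ • y)
      (fun y => (⟨g, mem_Par_of ht ga⟩ : Par a) • y) (fun y hy => ?_) (fun y hy => ?_)
      (fun y _ => smul_inv_smul _ y) (fun y _ => inv_smul_smul _ y)
    · simp only [hYc, Finset.coe_filter, Finset.mem_univ, true_and, Set.mem_ofPred_eq] at hy ⊢
      have hinv : ((⟨g, mem_Par_of ht ga⟩ : Par a)⁻¹ : Cfsg.spGL m F) • a = t⁻¹ • a := by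
        show g⁻¹ • a = t⁻¹ • a
        rw [inv_smul_eq_iff, smul_comm, ga, inv_smul_smul₀ ht]
      have := EE_smul (g := (⟨g, mem_Par_of ht ga⟩ : Par a)⁻¹) (inv_ne_zero ht) hinv hy
      rwa [← htc, show (1 : F) / t ^ 2 / t⁻¹ ^ 2 = 1 by field_simp] at this
    · simp only [hYc, Finset.coe_filter, Finset.mem_univ, true_and, Set.mem_ofPred_eq] at hy ⊢
      exact htc ▸ EE_smul (g := ⟨g, mem_Par_of ht ga⟩) ht ga hy
  rw [Finset.sum_congr rfl fun c hc => hall c (Finset.ne_of_mem_erase hc), Finset.sum_const, hq1,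
    smul_eq_mul] at hsumX
  have h4 := hYle 1
  set n := Fintype.card X
  set P := (Yc 1).card
  set k := (bc hab X 1).card
  set nY := Fintype.card (YT a X)
  zify [hD1, show 1 ≤ q by omega] at hs hqq hDq hcount' hblk hsumX h4
  rw [hqq] at hs
  have hq' : (4 : ℤ) ≤ q := by exact_mod_cast hq
  have hn : (q : ℤ) * P ≤ n := by nlinarith
  have hP : (q : ℤ) * (D - 1) ≤ ((q : ℤ) - 2) * P := by nlinarith
  have k3 : (q : ℤ) * ((q : ℤ) * (D - 1)) * (q - 1) ≤ ((q : ℤ) - 2) * (n * (q - 1)) := by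
    have := mul_le_mul_of_nonneg_right (le_trans (mul_le_mul_of_nonneg_left hP (by linarith : (0 : ℤ) ≤ q))
      (by nlinarith : (q : ℤ) * (((q : ℤ) - 2) * P) ≤ ((q : ℤ) - 2) * n))
      (by linarith : (0 : ℤ) ≤ (q : ℤ) - 1)
    linarith
  have k4 : ((q : ℤ) - 2) * (n * (q - 1)) ≤ ((q : ℤ) - 2) * (q * q * D - 2) :=
    mul_le_mul_of_nonneg_left (by linarith) (by linarith)
  nlinarith [mul_le_mul_of_nonneg_left hDq (show (0 : ℤ) ≤ q * q by positivity),
    mul_le_mul_of_nonneg_left hq' (show (0 : ℤ) ≤ (q : ℤ) * q * q by positivity)]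

end Cfsg.Agent.MinIndexSp.Psp
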