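import Cfsg.Agent.Lib.MinIndexSp.PspBasic

/-!
# The quotient of a radical subgroup in a permutation action of the point stabiliser

* `Par`, `tEl`, `crEl` : the stabiliser of the point, root elements in it
* `rad` : the vector action of `W2 a b` when the root group of `a` acts trivially
* `lev_norm` : elements scaling the pair normalise it
* `radical_bound` : a non-trivial action needs `|W2 a b|` points
-/

set_option autoImplicit false
set_option linter.unusedSectionVars false
set_option linter.style.haveILetI false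

namespace Cfsg.Agent.MinIndexSp.Psp

open Cfsg Cfsg.Agent Module MulAction

variable {m : ℕ} {F : Type*} [Field F]

local notation "V" => (Fin m ⊕ Fin m → F)
local notation "f" => Cfsg.sympForm m F

/-- The stabiliser of the point of `a`. -/
noncomputable def Par (a : V) : Subgroup (Cfsg.spGL m F) where
  carrier := {g | ∃ t : F, t ≠ 0 ∧ g • a = t • a}
  one_mem' := ⟨1, one_ne_zero, by simp⟩
  mul_mem' := by
    rintro g h ⟨t, ht, hg⟩ ⟨s, hs, hh⟩
    exact ⟨s * t, mul_ne_zero hs ht, by rw [mul_smul g h a, hh, smul_comm, hg, smul_smul]⟩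
  inv_mem' := by
    rintro g ⟨t, ht, hg⟩
    refine ⟨t⁻¹, inv_ne_zero ht, ?_⟩
    rw [inv_smul_eq_iff, smul_comm, hg, inv_smul_smul₀ ht]

theorem mem_Par_of {a : V} {g : Cfsg.spGL m F} {t : F} (ht : t ≠ 0) (h : g • a = t • a) :
    g ∈ Par a := ⟨t, ht, h⟩

theorem mem_Par_fix {a : V} {g : Cfsg.spGL m F} (h : g • a = a) : g ∈ Par a :=
  ⟨1, one_ne_zero, by rw [h, one_smul]⟩

/-- A root element at `a`, in the stabiliser. -/
noncomputable def tEl (a : V) (r : F) : Par a :=
  ⟨Linear.spTv a r, mem_Par_fix (by simp [Linear.spTv_smul])⟩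

/-- A radical element at `a`, in the stabiliser. -/
noncomputable def crEl (a : V) {w : V} (h : f a w = 0) : Par a :=
  ⟨cr a w, mem_Par_fix (cr_fix h (Linear.sympForm_self a) h)⟩

theorem lev_mem {a b : V} {g : Cfsg.spGL m F} {t : F} (ht : t ≠ 0) (ha : g • a = t • a)
    (hb : g • b = t⁻¹ • b) {w : V} (hw : w ∈ W2 a b) : g • w ∈ W2 a b := by
  constructor
  · have := Linear.sympForm_smul_smul g a w
    rw [ha, hw.1, Linear.sympForm_smul_left] at this
    exact (mul_eq_zero.1 this).resolve_left ht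
  · have := Linear.sympForm_smul_smul g b w
    rw [hb, hw.2, Linear.sympForm_smul_left] at this
    exact (mul_eq_zero.1 this).resolve_left (inv_ne_zero ht)

/-- The form on the orthogonal of a pair. -/
noncomputable def bilW (a b : V) : LinearMap.BilinForm F (W2 a b) :=
  LinearMap.mk₂ F (fun v w => f (v : V) (w : V))
    (fun p q r => Linear.sympForm_add_left (p : V) (q : V) (r : V))
    (fun c p q => Linear.sympForm_smul_left c (p : V) (q : V))
    (fun p q r => Linear.sympForm_add_right (p : V) (q : V) (r : V))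
    (fun c p q => Linear.sympForm_smul_right c (p : V) (q : V))

theorem bilW_apply {a b : V} (v w : W2 a b) : bilW a b v w = f (v : V) (w : V) := rfl

variable {a b : Fin m ⊕ Fin m → F} {Y : Type*} [MulAction (Par a) Y]

/-- The action of `W2 a b`. -/
noncomputable def rad (hab : f a b = 1) (htriv : ∀ (r : F) (y : Y), tEl a r • y = y) :
    MinIndex.VecAct F (W2 a b) (Equiv.Perm Y) where
  e v := MulAction.toPermHom (Par a) Y (crEl a v.2.1)
  B := bilW a b
  add v v' := by
    rw [← map_mul]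
    have e : crEl a v.2.1 * crEl a v'.2.1 = crEl a (v + v').2.1 * tEl a (f (v' : V) (v : V)) :=
      Subtype.ext (cr_mul v.2.1 v'.2.1)
    rw [e, map_mul]
    conv_lhs => rw [← mul_one (MulAction.toPermHom (Par a) Y (crEl a (v + v').2.1))]
    congr 1
    ext y
    exact (htriv _ y).symm
  nd x hx := by
    obtain ⟨z, hz, hxz⟩ := W2_nd hab x x.2 (fun h => hx (Subtype.ext h))
    exact ⟨⟨z, hz⟩, by rw [bilW_apply, sw]; simpa using hxz⟩

theorem rad_smul (hab : f a b = 1) (htriv : ∀ (r : F) (y : Y), tEl a r • y = y) (v : W2 a b)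
    (y : Y) : (rad hab htriv).e v • y = crEl a v.2.1 • y := rfl

/-- Elements scaling the pair normalise. -/
theorem lev_norm [Finite F] (hab : f a b = 1) (htriv : ∀ (r : F) (y : Y), tEl a r • y = y)
    {g : Cfsg.spGL m F} {t : F} (ht : t ≠ 0) (ha : g • a = t • a) (hb : g • b = t⁻¹ • b) :
    MinIndex.Norm (rad hab htriv) (MulAction.toPermHom (Par a) Y ⟨g, mem_Par_of ht ha⟩)
      (fun v => t • ⟨g • (v : V), lev_mem ht ha hb v.2⟩)
      (fun v => t⁻¹ • ⟨g • (v : V), lev_mem ht ha hb v.2⟩) := by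
  refine { conj := fun v => ?_, adj := fun p r => ?_, surj := ?_, inj := fun p r h => ?_ }
  · show MulAction.toPermHom (Par a) Y _ * MulAction.toPermHom (Par a) Y _ *
      (MulAction.toPermHom (Par a) Y _)⁻¹ = MulAction.toPermHom (Par a) Y _
    rw [← map_inv, ← map_mul, ← map_mul]
    refine congrArg _ (Subtype.ext ?_)
    show g * cr a v * g⁻¹ = cr a (t • (g • (v : V)))
    rw [cr_conj, ha, cr_smul_left t (lev_mem ht ha hb v.2).1]
  · show bilW a b _ _ = bilW a b _ _
    rw [bilW_apply, bilW_apply, Submodule.coe_smul, Submodule.coe_smul,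
      Linear.sympForm_smul_left, Linear.sympForm_smul_right, Linear.sympForm_smul_smul]
    field_simp
  · haveI : Finite (W2 a b) := inferInstance
    refine Finite.injective_iff_surjective.1 fun p r h => ?_
    exact Subtype.ext (smul_left_cancel g (congrArg Subtype.val (smul_right_injective _ ht h)))
  · exact Subtype.ext (smul_left_cancel g
      (congrArg Subtype.val (smul_right_injective _ (inv_ne_zero ht) h)))

theorem exists_levi_map (hab : f a b = 1) {v v' : W2 a b} (hv : v ≠ 0) (hv' : v' ≠ 0) :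
    ∃ g : Cfsg.spGL m F, g • a = a ∧ g • b = b ∧ g • (v : V) = (v' : V) := by
  obtain ⟨g, hg, hgv⟩ := Linear.exists_spTv_smul_eq (W2 a b) (W2_nd hab) v.2 v'.2
    (fun h => hv (Subtype.ext h)) (fun h => hv' (Subtype.ext h))
  exact ⟨g, Linear.smul_eq_of_mem_closure_spTvSet (W := W2 a b) (x := a) (fun z hz => (mem_W2.1 hz).1) hg,
    Linear.smul_eq_of_mem_closure_spTvSet (W := W2 a b) (x := b) (fun z hz => (mem_W2.1 hz).2) hg, hgv⟩

variable [Fintype F]

/-- A non-trivial action needs `|W2 a b|` points. -/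
theorem radical_bound (hab : f a b = 1) [Fintype Y] (htriv : ∀ (r : F) (y : Y), tEl a r • y = y)
    (v0 : W2 a b) {y : Y} (hne : crEl a v0.2.1 • y ≠ y) : Nat.card (W2 a b) ≤ Fintype.card Y := by
  classical
  haveI : Fintype (W2 a b) := Fintype.ofFinite _
  set D := rad hab htriv with hD
  obtain ⟨φ0, hφ0, hk0⟩ : ∃ φ0 : W2 a b, φ0 ≠ 0 ∧ 1 ≤ MinIndex.kk D Y φ0 := by
    have hmem : MinIndex.orb D y ∈ MinIndex.blocks (X := Y) D :=
      (MinIndex.mem_blocks D).2 ⟨y, rfl⟩
    have h2 : 2 ≤ (MinIndex.orb D y).card :=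
      Finset.one_lt_card.2 ⟨_, (MinIndex.mem_orb D).2 ⟨v0, rfl⟩, y, MinIndex.self_mem_orb D y, hne⟩
    rw [← MinIndex.card_Ab D hmem] at h2
    obtain ⟨v, hv, hv0⟩ : ∃ v ∈ MinIndex.Ab D (MinIndex.orb D y), v ≠ 0 := by
      by_contra! h
      rw [(AddSubgroup.eq_bot_iff_forall _).2 h] at h2
      simp at h2
    exact ⟨v, hv0, Finset.card_pos.2 ⟨_, Finset.mem_filter.2 ⟨hmem, hv⟩⟩⟩
  have hall : ∀ v : W2 a b, v ≠ 0 → 1 ≤ MinIndex.kk D Y v := by
    intro v hv
    obtain ⟨g, ga, gb, gv⟩ := exists_levi_map hab hφ0 hv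
    have hn := lev_norm hab htriv (g := g) (t := 1) one_ne_zero (by rw [one_smul]; exact ga)
      (by rw [inv_one, one_smul]; exact gb)
    have := MinIndex.kk_le_smul (X := Y) D hn φ0
    refine hk0.trans (this.trans (le_of_eq (congrArg _ ?_)))
    exact Subtype.ext (by simp [gv])
  have hb := MinIndex.bound (X := Y) D (O := (Finset.univ : Finset (W2 a b)).erase 0) (by simp)
    fun v hv => hall v (Finset.ne_of_mem_erase hv)
  have hpos : 1 ≤ (MinIndex.blocks (X := Y) D).card :=
    Finset.card_pos.2 ⟨_, (MinIndex.mem_blocks D).2 ⟨y, rfl⟩⟩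
  rw [Finset.card_erase_of_mem (Finset.mem_univ _), Finset.card_univ] at hb
  rw [Nat.card_eq_fintype_card]
  omega

end Cfsg.Agent.MinIndexSp.Psp
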