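import Cfsg.Agent.Lib.MinIndexSp.PspQFix
import Cfsg.Agent.Lib.MinIndexSp.PspRad

/-!
# Small actions of `Sp_2m(q)`: no point is fixed by a root group

* `Cx` : the root group of `v` fixes `x`
* `exists_closed` : a subspace absorbing the root groups of `x`
* `no_root_fix`
-/

set_option autoImplicit false
set_option linter.unusedSectionVars false
set_option linter.style.haveILetI false

namespace Cfsg.Agent.MinIndexSp.Psp

open Cfsg Cfsg.Agent Module MulAction

variable {m : ℕ} {F : Type*} [Field F] [Fintype F]
variable {X : Type*} [MulAction (Cfsg.spGL m F) X]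

local notation "V" => (Fin m ⊕ Fin m → F)
local notation "f" => Cfsg.sympForm m F

/-- The root group of `v` fixes `x`. -/
def Cx (x : X) (v : V) : Prop := v ≠ 0 ∧ ∀ r : F, Linear.spTv v r • x = x

theorem Cx.scale {x : X} {v : V} (h : Cx x v) {c : F} (hc : c ≠ 0) : Cx x (c • v) :=
  ⟨smul_ne_zero hc h.1, fun r => by rw [Linear.spTv_smul_vec]; exact h.2 _⟩

theorem Cx.smul {x : X} {v : V} (h : Cx x v) (g : Cfsg.spGL m F) : Cx (g • x) (g • v) :=
  ⟨smul_ne_zero' h.1, fun r => spTv_smul_point (h.2 r)⟩

theorem Cx.line {x : X} {u v : V} (hu : Cx x u) (hv : Cx x v) (h : f u v ≠ 0) {α β : F}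
    (hne : α • u + β • v ≠ 0) : Cx x (α • u + β • v) := by
  by_cases hβ : β = 0
  · subst hβ
    rw [zero_smul, add_zero] at hne ⊢
    exact hu.scale fun e => hne (by rw [e, zero_smul])
  have h' : f v u ≠ 0 := by rw [sw]; simpa using h
  have := (hv.smul (Linear.spTv u ((α / β) / f v u))).scale hβ
  rw [hu.2, Linear.spTv_smul, div_mul_cancel₀ _ h', smul_add, smul_smul, mul_div_cancel₀ _ hβ,
    add_comm] at this
  exact this

/-- Not in the radical of `U`. -/
def NR (U : Submodule F V) (u : V) : Prop := ∃ u' ∈ U, f u u' ≠ 0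

/-- `U` absorbs root groups of `x`. -/
def Absorbs (x : X) (U : Submodule F V) : Prop :=
  (∃ u ∈ U, NR U u) ∧ ∀ u ∈ U, NR U u → Cx x u

theorem nr_once (U : Submodule F V) {u v : V} (hv : NR U v) {s t : F}
    (hs : ¬ NR U (u - s • v)) (ht : ¬ NR U (u - t • v)) : s = t := by
  by_contra hst
  obtain ⟨v', hv', hne⟩ := hv
  simp only [NR, not_exists, not_and, not_not] at hs ht
  have h1 := hs v' hv'
  have h2 := ht v' hv'
  simp only [Linear.sympForm_sub_left, Linear.sympForm_smul_left] at h1 h2
  exact hne (mul_left_cancel₀ (sub_ne_zero.2 hst) (by linear_combination h2 - h1))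

theorem absorbs_step (hq : 3 ≤ Fintype.card F) {x : X} {U : Submodule F V} (hU : Absorbs x U)
    {c : V} (hc : Cx x c) (hcU : c ∉ U) {u1 : V} (hu1 : u1 ∈ U) (hcu1 : f c u1 ≠ 0) :
    Absorbs x (U ⊔ Submodule.span F {c}) := by
  obtain ⟨⟨u, huU, hu⟩, hall⟩ := hU
  set U' := U ⊔ Submodule.span F {c}
  have hc' : c ∈ U' := Submodule.mem_sup_right (Submodule.mem_span_singleton_self c)
  have hle : U ≤ U' := le_sup_left
  -- a good vector
  obtain ⟨u0, hu0U, hu0, hcu0⟩ : ∃ u0 ∈ U, NR U u0 ∧ f c u0 ≠ 0 := by
    by_cases h : f c u = 0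
    swap
    · exact ⟨u, huU, hu, h⟩
    obtain ⟨t, ht, -⟩ := exists_good hq (P := fun t => NR U (u1 - t • u)) (Q := fun _ => True)
      (fun s t => nr_once U hu) (fun _ _ h => absurd trivial h)
    exact ⟨u1 - t • u, sub_mem hu1 (U.smul_mem t huU), ht, by simp [Linear.sympForm_sub_right, h, hcu1]⟩
  have hdense : ∀ l : V →ₗ[F] F, (∀ v ∈ U, NR U v → f c v ≠ 0 → l v = 0) → ∀ w ∈ U, l w = 0 := by
    intro l hl w hw
    obtain ⟨t, ht1, ht2⟩ := exists_good hq (P := fun t => NR U (w - t • u0))
      (Q := fun t => f c (w - t • u0) ≠ 0) (fun s t => nr_once U hu0) (fun s t hs ht => by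
        simp only [not_not, Linear.sympForm_sub_right, Linear.sympForm_smul_right] at hs ht
        exact mul_right_cancel₀ hcu0 (by linear_combination ht - hs))
    have := hl _ (sub_mem hw (U.smul_mem t hu0U)) ht1 ht2
    rwa [map_sub, map_smul, hl u0 hu0U hu0 hcu0, smul_zero, sub_zero] at this
  have main : ∀ (w : V), w ∈ U → ∀ s : F, s ≠ 0 → NR U' (w + s • c) → Cx x (w + s • c) := by
    intro w hw s hs hv
    obtain ⟨v, hvU, hv1, hv2, hgood⟩ : ∃ v ∈ U, NR U v ∧ f c v ≠ 0 ∧
        (s * f c w ≠ 0 ∨ f v w - s * f c v ≠ 0) := by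
      by_contra! hcon
      obtain ⟨z, hz, hne⟩ := hv
      apply hne
      have hcw : f c w = 0 := by
        have := (hcon u0 hu0U hu0 hcu0).1
        exact (mul_eq_zero.1 this).resolve_left hs
      have hperp : ∀ p ∈ U, f p (w + s • c) = 0 := by
        intro p hp
        refine hdense ((bil m F).flip (w + s • c)) (fun v hv h1 h2 => ?_) p hp
        show f v (w + s • c) = 0
        rw [Linear.sympForm_add_right, Linear.sympForm_smul_right, sw v c]
        linear_combination (hcon v hv h1 h2).2
      obtain ⟨p, hp, p', hp', rfl⟩ := Submodule.mem_sup.1 hz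
      obtain ⟨k, rfl⟩ := Submodule.mem_span_singleton.1 hp'
      rw [sw, Linear.sympForm_add_left, hperp p hp, Linear.sympForm_smul_left,
        Linear.sympForm_add_right, hcw, Linear.sympForm_smul_right, Linear.sympForm_self]
      ring
    obtain ⟨t, ht1, ht2⟩ := exists_good hq (P := fun t => NR U (w - t • v))
      (Q := fun t => f (s • c + t • v) (w - t • v) ≠ 0) (fun s t => nr_once U hv1) (by
        intro t1 t2 h1 h2
        simp only [not_not, Linear.sympForm_add_left, Linear.sympForm_sub_right,
          Linear.sympForm_smul_left, Linear.sympForm_smul_right, Linear.sympForm_self] at h1 h2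
        rcases hgood with h | h
        · by_cases hB : f v w - s * f c v = 0
          · exact absurd (by linear_combination h1 - t1 * hB) h
          · exact mul_right_cancel₀ hB (by linear_combination h1 - h2)
        · exact mul_right_cancel₀ h (by linear_combination h1 - h2))
    have hy : Cx x (s • c + t • v) := by
      refine hc.line (hall v hvU hv1) hv2 fun e => hcU ?_
      rw [← inv_smul_smul₀ hs c, eq_neg_of_add_eq_zero_left e]
      exact U.smul_mem _ (neg_mem (U.smul_mem _ hvU))
    have := hy.line (hall _ (sub_mem hw (U.smul_mem t hvU)) ht1) ht2 (α := 1) (β := 1) (by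
      rw [one_smul, one_smul, show s • c + t • v + (w - t • v) = w + s • c by abel]
      intro e
      obtain ⟨z, -, hne⟩ := hv
      simp [e] at hne)
    rwa [one_smul, one_smul, show s • c + t • v + (w - t • v) = w + s • c by abel] at this
  refine ⟨⟨u, hle huU, hu.imp fun z hz => ⟨hle hz.1, hz.2⟩⟩, fun v hv hnr => ?_⟩
  obtain ⟨w, hw, p', hp', rfl⟩ := Submodule.mem_sup.1 hv
  obtain ⟨s, rfl⟩ := Submodule.mem_span_singleton.1 hp'
  by_cases hs : s = 0
  swap
  · exact main w hw s hs hnr
  subst hs
  rw [zero_smul, add_zero] at hnr ⊢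
  by_cases h : NR U w
  · exact hall w hw h
  simp only [NR, not_exists, not_and, not_not] at h
  obtain ⟨z, hz, hne⟩ := hnr
  obtain ⟨p, hp, p', hp', rfl⟩ := Submodule.mem_sup.1 hz
  obtain ⟨k, rfl⟩ := Submodule.mem_span_singleton.1 hp'
  rw [Linear.sympForm_add_right, h p hp, zero_add, Linear.sympForm_smul_right] at hne
  have hwc : f w c ≠ 0 := right_ne_zero_of_mul hne
  have h1 : Cx x (w + (1 : F) • c) :=
    main w hw 1 one_ne_zero ⟨c, hc', by simpa using hwc⟩
  rw [one_smul] at h1
  have := hc.line h1 (by rw [sw]; simp only [Linear.sympForm_add_left, Linear.sympForm_self, add_zero]; simpa using hwc)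
    (α := -1) (β := 1) (by
      rw [neg_smul, one_smul, one_smul, show -c + (w + c) = w by abel]
      intro e; exact hwc (by simp [e]))
  rwa [neg_smul, one_smul, one_smul, show -c + (w + c) = w by abel] at this

theorem exists_closed (hq : 3 ≤ Fintype.card F) {x : X} {u v : V} (hu : Cx x u) (hv : Cx x v)
    (h : f u v ≠ 0) :
    ∃ U : Submodule F V, Absorbs x U ∧ ∀ c, Cx x c → c ∈ U ∨ ∀ w ∈ U, f c w = 0 := by
  classical
  haveI : Finite (Submodule F V) := Finite.of_injective _ SetLike.coe_injective
  have h0 : Absorbs x (Submodule.span F {u, v}) := by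
    refine ⟨⟨u, Submodule.subset_span (by simp), v, Submodule.subset_span (by simp), h⟩,
      fun z hz hnr => ?_⟩
    obtain ⟨α, β, rfl⟩ := Submodule.mem_span_pair.1 hz
    refine hu.line hv h fun e => ?_
    obtain ⟨z', -, hne⟩ := hnr
    simp [e] at hne
  obtain ⟨U, hU, hmax⟩ := Set.Finite.exists_maximal (s := {U | Absorbs x U})
    (Set.toFinite _) ⟨_, h0⟩
  refine ⟨U, hU, fun c hc => ?_⟩
  by_contra! hcon
  obtain ⟨hcU, u1, hu1, hne⟩ := hcon
  have := hmax (absorbs_step hq hU hc hcU hu1 hne) le_sup_left
  exact hcU (this (Submodule.mem_sup_right (Submodule.mem_span_singleton_self c)))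

variable [Fintype X]

theorem fix_bound [Nontrivial X] [MulAction.IsPretransitive (Cfsg.spGL m F) X] (hm : 2 ≤ m)
    (hs : Small m F X) {a : V} (ha : a ≠ 0) {x : X} (hx : ∀ r : F, Linear.spTv a r • x = x)
    [Fintype {y : X // ∀ r : F, Linear.spTv a r • y = y}] :
    Fintype.card F ^ (2 * m - 2) ≤ Fintype.card {y : X // ∀ r : F, Linear.spTv a r • y = y} := by
  classical
  obtain ⟨b, hab⟩ := exists_dual ha
  let P : SubMulAction (Par a) X :=
    { carrier := {y | ∀ r : F, Linear.spTv a r • y = y}
      smul_mem' := by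
        rintro ⟨g, t, ht, hg⟩ y hy r
        show Linear.spTv a r • g • y = g • y
        have := spTv_smul_point (g := g) (hy (r / t ^ 2))
        rw [hg, Linear.spTv_smul_vec] at this
        convert this using 3
        field_simp }
  haveI : Fintype P := Fintype.ofFinite _
  by_cases h : ∀ w ∈ W2 a b, cr a w • x = x
  · refine (qfix_false hm hs (a := a) (x := x) ⟨ha, hx, fun w hw => ?_⟩).elim
    rw [wp_perp (b := b) hw, cr_add_self (wp_mem hab w).1, mul_smul, hx]
    exact h _ (wp_mem hab w)
  · push Not at h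
    obtain ⟨w, hw, hne⟩ := h
    have := radical_bound (Y := P) hab (fun r y => Subtype.ext (y.2 r)) ⟨w, hw⟩ (y := ⟨x, hx⟩)
      (fun e => hne (congrArg Subtype.val e))
    rw [card_W2_eq hab (d := 2 * m - 2) (by omega)] at this
    exact this.trans (le_of_eq (Fintype.card_congr (Equiv.subtypeEquivRight fun z => Iff.rfl)))

/-- No point is fixed by a root group. -/
theorem no_root_fix [Nontrivial X] [MulAction.IsPretransitive (Cfsg.spGL m F) X] (hm : 2 ≤ m)
    (hq : 3 ≤ Fintype.card F) (hs : Small m F X) {a : V} (ha : a ≠ 0) (x : X) :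
    ∃ r : F, Linear.spTv a r • x ≠ x := by
  classical
  by_contra! hx
  set q := Fintype.card F with hqd
  obtain ⟨d, hd⟩ : ∃ d, 2 * m = d + 2 := ⟨2 * m - 2, by omega⟩
  set D := q ^ d with hD
  have hqq : q ^ (2 * m) = q * q * D := by rw [hd, hD, pow_add]; ring
  -- many root groups fix `x`
  set S : X → Finset V := fun y => Finset.univ.filter fun v : V => Cx y v with hS
  have hSt : ∀ y : X, (S y).card = (S x).card := by
    intro y
    obtain ⟨g, rfl⟩ := MulAction.exists_smul_eq (Cfsg.spGL m F) x y
    refine Finset.card_nbij' (fun v => g⁻¹ • v) (fun v => g • v) (fun v hv => ?_) (fun v hv => ?_)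
      (fun v _ => smul_inv_smul g v) (fun v _ => inv_smul_smul g v)
    · simp only [hS, Finset.coe_filter, Finset.mem_univ, true_and, Set.mem_ofPred_eq] at hv ⊢
      have := hv.smul g⁻¹
      rwa [inv_smul_smul] at this
    · simp only [hS, Finset.coe_filter, Finset.mem_univ, true_and, Set.mem_ofPred_eq] at hv ⊢
      exact hv.smul g
  have hbig : (q - 1) * D < (S x).card := by
    have hfix : ∀ v : V, v ≠ 0 → D ≤ (Finset.univ.filter fun y : X => Cx y v).card := by
      intro v hv
      obtain ⟨g, rfl⟩ := Linear.exists_spGL_smul_eq ha hv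
      haveI : Fintype {y : X // ∀ r : F, Linear.spTv (g • a) r • y = y} := Fintype.ofFinite _
      have := fix_bound hm hs hv (x := g • x) fun r => spTv_smul_point (hx r)
      rw [show 2 * m - 2 = d by omega, ← hD, Fintype.card_subtype] at this
      refine this.trans (Finset.card_le_card fun y hy => ?_)
      exact Finset.mem_filter.2 ⟨Finset.mem_univ _, hv, (Finset.mem_filter.1 hy).2⟩
    have h1 : ((Finset.univ : Finset V).erase 0).card * D ≤ Fintype.card X * (S x).card := by
      rw [← Finset.card_univ, ← smul_eq_mul (Finset.univ : Finset X).card, ← Finset.sum_const,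
        ← smul_eq_mul, ← Finset.sum_const, ← Finset.sum_congr rfl fun y _ => hSt y]
      calc ∑ _v ∈ (Finset.univ : Finset V).erase 0, D
          ≤ ∑ v ∈ (Finset.univ : Finset V).erase 0, (Finset.univ.filter fun y : X => Cx y v).card :=
            Finset.sum_le_sum fun v hv => hfix v (Finset.ne_of_mem_erase hv)
        _ ≤ ∑ v : V, (Finset.univ.filter fun y : X => Cx y v).card :=
            Finset.sum_le_sum_of_subset (Finset.erase_subset _ _)
        _ = ∑ y : X, (S y).card := by
            simp only [hS, Finset.card_filter]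
            exact Finset.sum_comm
    rw [Finset.card_erase_of_mem (Finset.mem_univ _), Finset.card_univ, card_V, ← hqd] at h1
    unfold Small at hs
    rw [← hqd] at hs
    by_contra! hle
    have h2 := h1.trans (Nat.mul_le_mul_left _ hle)
    have hD0 : 0 < D := pow_pos (by omega) d
    have h3 : Fintype.card X * ((q - 1) * D) < (q ^ (2 * m) - 1) * D := by
      rw [← mul_assoc]
      exact Nat.mul_lt_mul_of_pos_right (by omega) hD0
    omega
  have hq2 : 2 ≤ q := by omega
  -- the root groups of `x` are few
  by_cases hor : ∀ u ∈ S x, ∀ v ∈ S x, f u v = 0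
  · set T : Submodule F V := Submodule.span F (S x : Set V) with hT
    have iso : ∀ v ∈ T, ∀ w ∈ T, f v w = 0 := by
      intro v hv
      induction hv using Submodule.span_induction with
      | mem s hs =>
        intro w hw
        induction hw using Submodule.span_induction with
        | mem t ht => exact hor s hs t ht
        | zero => simp
        | add p q _ _ hp hq => simp [hp, hq]
        | smul c p _ hp => simp [hp]
      | zero => intro w _; simp
      | add p q _ _ hp hq => intro w hw; simp [hp w hw, hq w hw]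
      | smul c p _ hp => intro w hw; simp [hp w hw]
    have h1 := MinIndex.card_ann_mul (B := bil m F) (fun v hv => bil_nd hv) T.toAddSubgroup
    have h2 : Nat.card T.toAddSubgroup ≤ Nat.card (MinIndex.ann (bil m F) T.toAddSubgroup) :=
      AddSubgroup.card_le_of_le fun v hv r hr => by
        show MinIndex.chr F (f v r) = 1
        rw [iso v hv r hr, AddChar.map_zero_eq_one]
    rw [Nat.card_eq_fintype_card (α := V), card_V, ← hqd, hqq] at h1
    have h3 : (S x).card ≤ Nat.card T.toAddSubgroup := by
      rw [← Nat.card_eq_finsetCard]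
      exact Nat.card_le_card_of_injective (fun v => (⟨v.1, Submodule.subset_span v.2⟩ : T.toAddSubgroup))
        fun p r h => Subtype.ext (congrArg (fun z : T.toAddSubgroup => (z : V)) h)
    have h4 := Nat.mul_le_mul (hbig.le.trans h3) (hbig.le.trans h3)
    have h5 : q * q * D < ((q - 1) * D) * ((q - 1) * D) := by
      obtain ⟨p, hp⟩ : ∃ p, q = p + 3 := ⟨q - 3, by omega⟩
      have hDq : q * q ≤ D := by
        rw [hD, ← sq]; exact Nat.pow_le_pow_right (by omega) (by omega)
      have h2q : 2 * 2 ≤ (q - 1) * (q - 1) := Nat.mul_le_mul (by omega) (by omega)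
      calc q * q * D ≤ D * D := Nat.mul_le_mul_right D hDq
        _ = 1 * (D * D) := (one_mul _).symm
        _ < (q - 1) * (q - 1) * (D * D) := Nat.mul_lt_mul_of_pos_right (by omega) (by positivity)
        _ = _ := by ring
    have h6 := Nat.mul_le_mul_right (Nat.card T.toAddSubgroup) h2
    linarith
  push Not at hor
  obtain ⟨u, hu, v, hv, huv⟩ := hor
  simp only [hS, Finset.mem_filter, Finset.mem_univ, true_and] at hu hv
  obtain ⟨U, ⟨⟨u0, hu0U, hu0⟩, hall⟩, hC⟩ := exists_closed hq hu hv huv
  set O := MinIndex.ann (bil m F) U.toAddSubgroup with hO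
  have hmemO : ∀ z : V, z ∈ O ↔ ∀ w ∈ U, f z w = 0 := by
    refine fun z => ⟨fun h w hw => ?_, fun h w hw => by
      show MinIndex.chr F (f z w) = 1
      rw [h w hw, AddChar.map_zero_eq_one]⟩
    by_contra hne
    obtain ⟨w', hw'⟩ := AddChar.ne_one_iff.1 (MinIndex.chr_ne_one F)
    have := h ((w' / f z w) • w) (U.smul_mem _ hw)
    rw [bil_apply, Linear.sympForm_smul_right, div_mul_cancel₀ _ hne] at this
    exact hw' this
  have hcard := MinIndex.card_ann_mul (B := bil m F) (fun v hv => bil_nd hv) U.toAddSubgroup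
  rw [← hO, Nat.card_eq_fintype_card (α := V), card_V, ← hqd, hqq] at hcard
  obtain ⟨i, hi⟩ := card_sub_pow U
  rw [← hqd] at hi
  have hUa : Nat.card U.toAddSubgroup = q ^ i := hi
  rw [hUa] at hcard
  -- `U` is at least a plane
  have hi2 : 2 ≤ i := by
    obtain ⟨u', hu'U, hne⟩ := hu0
    have hinj : Function.Injective fun p : F × F =>
        (⟨p.1 • u0 + p.2 • u', add_mem (U.smul_mem _ hu0U) (U.smul_mem _ hu'U)⟩ : U) := by
      rintro ⟨p1, p2⟩ ⟨r1, r2⟩ e
      have e' := congrArg Subtype.val e
      have a1 := congrArg (f · u') e'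
      have a2 := congrArg (f u0 ·) e'
      simp only [Linear.sympForm_add_left, Linear.sympForm_add_right, Linear.sympForm_smul_left,
        Linear.sympForm_smul_right, Linear.sympForm_self, mul_zero, add_zero, zero_add] at a1 a2
      rw [mul_right_cancel₀ hne a1, mul_right_cancel₀ hne a2]
    have h7 := Nat.card_le_card_of_injective _ hinj
    rw [hi, Nat.card_prod, Nat.card_eq_fintype_card (α := F), ← hqd, ← sq] at h7
    exact (Nat.pow_le_pow_iff_right (by omega)).1 h7
  rcases Nat.lt_or_ge i (2 * m - 1) with hi3 | hi3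
  · -- both are small
    have hiD : q ^ i ≤ D := Nat.pow_le_pow_right (by omega) (by omega)
    have hOD : Nat.card O ≤ D := by
      have hpi : q * q ≤ q ^ i := by rw [← sq]; exact Nat.pow_le_pow_right (by omega) hi2
      refine Nat.le_of_mul_le_mul_right ?_ (show 0 < q * q from Nat.mul_pos (by omega) (by omega))
      calc Nat.card O * (q * q) ≤ Nat.card O * q ^ i := Nat.mul_le_mul_left _ hpi
        _ = D * (q * q) := by rw [hcard]; ring
    have hsub : S x ⊆ (Finset.univ.filter fun z : V => z ∈ U).erase 0 ∪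
        (Finset.univ.filter fun z : V => z ∈ O).erase 0 := by
      intro z hz
      simp only [hS, Finset.mem_filter, Finset.mem_univ, true_and] at hz
      simp only [Finset.mem_union, Finset.mem_erase, Finset.mem_filter, Finset.mem_univ, true_and]
      rcases hC z hz with h | h
      · exact .inl ⟨hz.1, h⟩
      · exact .inr ⟨hz.1, (hmemO z).2 h⟩
    have h8 := (Finset.card_le_card hsub).trans (Finset.card_union_le _ _)
    have mU : (0 : V) ∈ (Finset.univ.filter fun z : V => z ∈ U) :=
      Finset.mem_filter.2 ⟨Finset.mem_univ _, U.zero_mem⟩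
    have mO : (0 : V) ∈ (Finset.univ.filter fun z : V => z ∈ O) :=
      Finset.mem_filter.2 ⟨Finset.mem_univ _, O.zero_mem⟩
    rw [Finset.card_erase_of_mem mU, Finset.card_erase_of_mem mO] at h8
    have hUc : (Finset.univ.filter fun z : V => z ∈ U).card = q ^ i := by
      rw [← Fintype.card_subtype, ← Nat.card_eq_fintype_card, hi]
    have hOc : (Finset.univ.filter fun z : V => z ∈ O).card = Nat.card O := by
      rw [← Fintype.card_subtype, ← Nat.card_eq_fintype_card]
    have h9 : 2 * D ≤ (q - 1) * D := Nat.mul_le_mul_right D (by omega)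
    omega
  rcases eq_or_lt_of_le hi3 with hi4 | hi4
  · -- a hyperplane
    have hOq : Nat.card O = q := by
      refine Nat.eq_of_mul_eq_mul_right (show 0 < q ^ i from pow_pos (by omega) i) (hcard.trans ?_)
      rw [← hi4, show 2 * m - 1 = d + 1 by omega, pow_succ, hD]; ring
    obtain ⟨r, hrO, hr0⟩ : ∃ r ∈ O, r ≠ (0 : V) := by
      by_contra! h
      rw [(AddSubgroup.eq_bot_iff_forall _).2 h, AddSubgroup.card_bot] at hOq
      omega
    have hperp : ∀ w : V, f r w = 0 → w ∈ U := by
      haveI : Fintype {v : V // f r v = 0} := Fintype.ofFinite _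
      haveI : Fintype U := Fintype.ofFinite _
      have hc := card_perp (F := F) hr0
      rw [← hqd, hqq, mul_assoc] at hc
      have hc' := Nat.eq_of_mul_eq_mul_left (show 0 < q by omega) hc
      have hUc : Fintype.card U = q * D := by
        rw [← Nat.card_eq_fintype_card, hi, ← hi4, show 2 * m - 1 = d + 1 by omega, pow_succ, hD]
        ring
      let ι : U → {v : V // f r v = 0} := fun z => ⟨z, (hmemO r).1 hrO z z.2⟩
      have hb : Function.Bijective ι := (Fintype.bijective_iff_injective_and_card ι).2
        ⟨fun p p' h => Subtype.ext (congrArg (fun z : {v : V // f r v = 0} => (z : V)) h),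
          hUc.trans hc'.symm⟩
      intro w hw
      obtain ⟨z, hz⟩ := hb.2 ⟨w, hw⟩
      rw [← show (z : V) = w from congrArg Subtype.val hz]
      exact z.2
    have hrU : r ∈ U := hperp r (Linear.sympForm_self r)
    have hnr : ∀ w : V, w ∈ U → NR U w → ∀ s t : F, ∀ τ : F,
        Linear.spTv (w + τ • r) t • Linear.spTv w s • x = x := by
      intro w hw hw1 s t τ
      rw [(hall w hw hw1).2, (hall _ (add_mem hw (U.smul_mem _ hrU)) ?_).2]
      obtain ⟨z, hz, hne⟩ := hw1
      exact ⟨z, hz, by simp [(hmemO r).1 hrO z hz, hne]⟩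
    have hkey : ∀ w : V, w ∈ U → NR U w → ∀ s : F,
        (Linear.spTv r s * cr r (s • w)) • x = x := by
      intro w hw hw1 s
      have hrw : f r w = 0 := (hmemO r).1 hrO w hw
      have h1 := hnr w hw hw1 (-s) s 1
      rw [one_smul, ← mul_smul, add_comm, spTv_sum hrw] at h1
      convert h1 using 2
      have e1 : Linear.spTv w s * Linear.spTv w (-s) = 1 := by
        rw [← Linear.spTv_add, add_neg_cancel, Linear.spTv_zero]
      have e2 : cr r (s • w) * Linear.spTv w (-s) = Linear.spTv w (-s) * cr r (s • w) :=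
        spTv_comm_of_fix (cr_fix (by simp [hrw]) (sw_zero hrw) (by simp)) _
      simp only [mul_assoc]
      rw [e2, ← mul_assoc (Linear.spTv w s), e1, one_mul]
    obtain ⟨l, hl0, hl1⟩ := exists_good hq (P := fun l : F => l ≠ 0) (Q := fun l : F => l ≠ 1)
      (fun s t hs ht => by simp only [ne_eq, not_not] at hs ht; rw [hs, ht])
      (fun s t hs ht => by simp only [ne_eq, not_not] at hs ht; rw [hs, ht])
    have hw0 : ∀ z : V, z ∈ U → NR U z → ∀ s : F, Linear.spTv r s • x = x ∧ cr r z • x = x := by
      intro z hz hz1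
      have hrz : f r z = 0 := (hmemO r).1 hrO z hz
      have hrT : ∀ s : F, Linear.spTv r s • x = x := by
        intro s
        -- compare two parametrisations of one element of `cr r`
        set s' := s / (1 - l) with hs'
        have hl' : (1 : F) - l ≠ 0 := sub_ne_zero.2 (Ne.symm hl1)
        have k1 := hkey z hz hz1 s'
        have hz2 : NR U (l⁻¹ • z) := by
          obtain ⟨z', hz', hne⟩ := hz1
          exact ⟨z', hz', by simp [hl0, hne]⟩
        have k2 := hkey (l⁻¹ • z) (U.smul_mem _ hz) hz2 (s' * l)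
        rw [smul_smul, mul_assoc, mul_inv_cancel₀ hl0, mul_one] at k2
        rw [← smul_left_cancel_iff (Linear.spTv r (s' * l) * cr r (s' • z)), k2, ← mul_smul,
          mul_assoc, cr_spTv_comm (by simp [hrz]), ← mul_assoc, ← Linear.spTv_add]
        convert k1 using 4
        rw [hs']; field_simp; ring
      intro s
      refine ⟨hrT s, ?_⟩
      have k1 := hkey z hz hz1 1
      rw [one_smul, mul_smul] at k1
      rw [← smul_left_cancel_iff (Linear.spTv r 1), k1, hrT]
    obtain ⟨u', hu'U, hne⟩ := hu0
    have hrT := fun s => (hw0 u0 hu0U ⟨u', hu'U, hne⟩ s).1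
    refine qfix_false hm hs (a := r) (x := x) ⟨hr0, hrT, fun w hw => ?_⟩
    by_cases hw1 : NR U w
    · exact (hw0 w (hperp w hw) hw1 0).2
    have hw2 : NR U (w + u0) := by
      by_contra h'
      simp only [NR, not_exists, not_and, not_not] at hw1 h'
      have := h' u' hu'U
      rw [Linear.sympForm_add_left, hw1 u' hu'U, zero_add] at this
      exact hne this
    have k1 := (hw0 _ (add_mem (hperp w hw) hu0U) hw2 0).2
    have k2 := (hw0 u0 hu0U ⟨u', hu'U, hne⟩ 0).2
    have hru : f r u0 = 0 := (hmemO r).1 hrO u0 hu0U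
    have e := cr_mul hw hru
    rw [sw, show f w u0 = 0 by
      simp only [NR, not_exists, not_and, not_not] at hw1; exact hw1 u0 hu0U, neg_zero,
      Linear.spTv_zero, mul_one] at e
    rw [← e, mul_smul, k2] at k1
    exact k1
  · -- everything
    have hUtop : U = ⊤ := by
      refine Submodule.eq_top_iff'.2 fun z => ?_
      haveI : Fintype U := Fintype.ofFinite _
      have h1 : q ^ (2 * m) ≤ q ^ i := Nat.pow_le_pow_right (by omega) (by omega)
      rw [← hi, Nat.card_eq_fintype_card, hqd, ← card_V] at h1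
      obtain ⟨z', hz'⟩ := ((Fintype.bijective_iff_injective_and_card (Subtype.val : U → V)).2
        ⟨Subtype.val_injective, le_antisymm (Fintype.card_le_of_injective _ Subtype.val_injective) h1⟩).2 z
      exact hz' ▸ z'.2
    refine all_fix_false (m := m) (F := F) (x := x) fun z hz => (hall z (hUtop ▸ trivial) ?_).2
    obtain ⟨w, hw⟩ := Linear.exists_sympForm_ne_zero hz
    exact ⟨w, hUtop ▸ trivial, hw⟩

end Cfsg.Agent.MinIndexSp.Psp
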