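import Cfsg.Agent.Lib.MinIndexSp.PspOrbits

/-!
# Small actions of `Sp_2m(q)`, odd `q`: there are none

* `stab_isotropic` : the stabiliser of an orbit in the radical quotient is small
* `one_false` : two orbits of the radical quotient pass through every vector
* `odd_false`
-/

set_option autoImplicit false
set_option linter.unusedSectionVars false
set_option linter.style.haveILetI false

namespace Cfsg.Agent.MinIndexSp.Psp

open Cfsg Cfsg.Agent Module MulAction
open scoped Pointwise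

variable {m : ℕ} {F : Type*} [Field F] [Fintype F]
variable {X : Type*} [MulAction (Cfsg.spGL m F) X] [Fintype X] [DecidableEq X]
variable {a b : Fin m ⊕ Fin m → F}

local notation "V" => (Fin m ⊕ Fin m → F)
local notation "f" => Cfsg.sympForm m F

theorem comm_in_stab (hab : f a b = 1) {x : X} {r r' : W2 a b}
    (hr : (DY hab X).e r • yOf a x = yOf a x) (hr' : (DY hab X).e r' • yOf a x = yOf a x) :
    Linear.spTv a (2 * f (r' : V) (r : V)) • x = x := by
  rw [DY_smul] at hr hr'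
  obtain ⟨p, hp⟩ := (fixed_yOf_iff _ x).1 hr
  obtain ⟨p', hp'⟩ := (fixed_yOf_iff _ x).1 hr'
  have hg : cr a (r : V) • a = a := cr_fix r.2.1 (Linear.sympForm_self a) r.2.1
  have hg' : cr a (r' : V) • a = a := cr_fix r'.2.1 (Linear.sympForm_self a) r'.2.1
  have h := comm_fix hg hg' (h := cr a (r' : V)) hp hp'
  have e : cr a (r : V) * cr a (r' : V) =
      Linear.spTv a (2 * f (r' : V) (r : V)) * (cr a (r' : V) * cr a (r : V)) := by
    rw [cr_mul r.2.1 r'.2.1, cr_mul r'.2.1 r.2.1, add_comm (r' : V),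
      cr_spTv_comm (by simp [r.2.1, r'.2.1]), cr_spTv_comm (by simp [r.2.1, r'.2.1]), ← mul_assoc,
      ← Linear.spTv_add, sw (r : V) (r' : V)]
    congr 2; ring
  rw [e] at h
  simpa [mul_assoc] using h

variable [Fintype (W2 a b)]

/-- `|stabiliser|² ≤ |W|`. -/
theorem stab_isotropic (hab : f a b = 1) (h2 : (2 : F) ≠ 0) {c : F} (hc0 : c ≠ 0) {y : YT a X}
    (hc : c ∈ EE y) :
    Fintype.card (W2 a b) ≤ Nat.card (MinIndex.ann (bilW a b) (MinIndex.stabW (DY hab X) y)) *
      Nat.card (MinIndex.ann (bilW a b) (MinIndex.stabW (DY hab X) y)) := by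
  obtain ⟨x, rfl⟩ := exists_yOf y
  set R := MinIndex.stabW (DY hab X) (yOf a x) with hR
  have h2c : 2 * c ≠ 0 := mul_ne_zero h2 hc0
  have hnd : ∀ v : W2 a b, v ≠ 0 → ∃ w, bilW a b w v ≠ 0 := (DY hab X).nd
  let μ : W2 a b →+ W2 a b :=
    { toFun := fun v => (2 * c) • v
      map_zero' := smul_zero _
      map_add' := smul_add _ }
  have hμ : Function.Injective μ := fun v v' h => smul_right_injective _ h2c h
  have hle : R ≤ MinIndex.ann (bilW a b) (R.map μ) := by
    intro r' hr' z hz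
    obtain ⟨r, hr, rfl⟩ := AddSubgroup.mem_map.1 hz
    have e : bilW a b r' (μ r) = c * (2 * f (r' : V) (r : V)) := by
      show f (r' : V) (((2 * c) • r : W2 a b) : V) = _
      rw [Submodule.coe_smul, Linear.sympForm_smul_right]; ring
    rw [e]
    have hc' : c ∈ MinIndex.ann (LinearMap.mul F F) (MinIndex.stabW (tAct a) x) := by
      have h : c ∈ MinIndex.Ab (tAct a) (MinIndex.orb (tAct a) x) := hc
      rwa [MinIndex.Ab_orb] at h
    exact hc' _ (comm_in_stab hab hr hr')
  have hmap : Nat.card (R.map μ) = Nat.card R :=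
    (Nat.card_congr (AddSubgroup.equivMapOfInjective R μ hμ).toEquiv).symm
  have e1 := MinIndex.card_ann_mul hnd (R.map μ)
  have e2 := MinIndex.card_ann_mul hnd R
  rw [hmap] at e1
  have h3 : Nat.card R ≤ Nat.card (MinIndex.ann (bilW a b) (R.map μ)) := AddSubgroup.card_le_of_le hle
  rw [Nat.card_eq_fintype_card (α := W2 a b)] at e1 e2
  have h4 := Nat.mul_le_mul_right (Nat.card R) h3
  rw [e1, ← e2] at h4
  have h5 : Nat.card R ≤ Nat.card (MinIndex.ann (bilW a b) R) :=
    Nat.le_of_mul_le_mul_right h4 Nat.card_pos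
  calc Fintype.card (W2 a b) = Nat.card (MinIndex.ann (bilW a b) R) * Nat.card R := e2.symm
    _ ≤ _ := Nat.mul_le_mul_left _ h5

/-- Every vector lies in two annihilators. -/
theorem one_false (hab : f a b = 1) (hF : Free m F X) (h2 : (2 : F) ≠ 0)
    (hm : 2 ≤ m) (hex : Fintype.card F = 3 → 3 ≤ m) (hq : 3 ≤ Fintype.card F) {c : F} (hc0 : c ≠ 0)
    {φ : W2 a b} (hφ0 : φ ≠ 0) : kc hab X c φ ≠ 1 := by
  classical
  intro hk
  obtain ⟨B, hB, hφ⟩ := block_of_kc hab hk.ge
  set A := MinIndex.Ab (DY hab X) B with hA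
  obtain ⟨d, hd⟩ : ∃ d, 2 * m = d + 2 := ⟨2 * m - 2, by omega⟩
  have hWc : Fintype.card (W2 a b) = Fintype.card F ^ d := by
    rw [← Nat.card_eq_fintype_card, card_W2_eq hab hd]
  -- the line of `φ` lies in the annihilator
  have hline : ∀ s : F, s • φ ∈ A := by
    rcases ab_cases hab hφ0 hk hB hφ with h | h
    · exact h
    obtain ⟨y, hy⟩ := (MinIndex.mem_blocks _).1 (bc_block hab hB)
    have hc : c ∈ EE y := bc_EE hab hB y (hy ▸ MinIndex.self_mem_orb _ y)
    have h1 := stab_isotropic hab h2 hc0 hc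
    have hAe : A = MinIndex.ann (bilW a b) (MinIndex.stabW (DY hab X) y) := by
      rw [hA, ← hy, MinIndex.Ab_orb]; rfl
    rw [← hAe, hWc] at h1
    let g : A → F := fun v => (h v v.2).choose
    have hg : ∀ v : A, g v • φ = (v : W2 a b) := fun v => (h v v.2).choose_spec
    have hgi : Function.Injective g := fun v v' e => Subtype.ext (by rw [← hg v, ← hg v', e])
    have hle : Fintype.card F ≤ Fintype.card A := by
      by_contra! hlt
      rw [Nat.card_eq_fintype_card] at h1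
      have h3 := Nat.mul_lt_mul'' hlt hlt
      have h4 : Fintype.card F ^ 2 ≤ Fintype.card F ^ d :=
        Nat.pow_le_pow_right (by omega) (by omega)
      rw [sq] at h4
      omega
    intro s
    obtain ⟨v, hv⟩ := ((Fintype.bijective_iff_injective_and_card g).2
      ⟨hgi, le_antisymm (Fintype.card_le_of_injective g hgi) hle⟩).2 s
    rw [← hv, hg]
    exact v.2
  -- an element inverting the radical quotient
  have hm1 : (-1 : F) ≠ 0 := neg_ne_zero.2 one_ne_zero
  have hm1' : (-1 : F) ≠ 1 := fun e => h2 (by linear_combination -e)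
  obtain ⟨h, hha, hhb, hhW⟩ := exists_lev hab hm1
  have hhB : pg a X hm1 hha • B = B := by
    refine move_eq hab hm1 hha hhb hk hB hφ ?_ ?_
    · rw [neg_one_sq, div_one]; exact hB
    · rw [tau_fix hab hm1 hha hhb (s := 1) (by rw [one_smul]; exact hhW _ φ.2)]
      exact hline _
  obtain ⟨y0, hy0, hy0f, huniq⟩ :=
    exists_fixed hab hm1 hm1' hha hhb hhW (bc_block hab hB) hhB
  obtain ⟨x, rfl⟩ := exists_yOf y0
  have hfix : ∀ g : Cfsg.spGL m F, g • a = a → g • b = b → ∀ s : F,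
      g • (φ : V) = s • (φ : V) → ∃ r : F, g • x = Linear.spTv a r • x := by
    intro g hga hgb s hgs
    have hga' : g • a = (1 : F) • a := by rw [one_smul, hga]
    refine pg_fix_point one_ne_zero hga' (commute_fixed (pg_mul_comm hm1 one_ne_zero hha hga' ?_)
      (fix_block hab hk hB hφ hga hgb hgs (hline s) hga') hy0 hy0f huniq)
    exact lev_comm hab hga hgb hha hhb hhW
  have ht : ∀ r : F, Linear.spTv (φ : V) r • a = a ∧ Linear.spTv (φ : V) r • b = b ∧
      Linear.spTv (φ : V) r • (φ : V) = (1 : F) • (φ : V) := fun r => by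
    simp [Linear.spTv_smul, φ.2.1, φ.2.2]
  obtain ⟨r0, hr0⟩ := hF (φ : V) (fun e => hφ0 (Subtype.ext e)) x
  apply hr0
  rcases eq_or_lt_of_le hq with hq3 | hq4
  · -- three elements
    have hm3 := hex hq3.symm
    obtain ⟨ψ, hψW, hψ⟩ := W2_nd hab φ φ.2 (fun e => hφ0 (Subtype.ext e))
    set ψ' : V := (f (φ : V) ψ)⁻¹ • ψ
    have hψ'W : ψ' ∈ W2 a b := (W2 a b).smul_mem _ hψW
    have hφψ : f (φ : V) ψ' = 1 := by
      simp [ψ', inv_mul_cancel₀ hψ]
    have hin : ∀ v ∈ W2 a b, wp (φ : V) ψ' v ∈ W2 a b := fun v hv => by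
      rw [wp]; exact sub_mem (add_mem hv (Submodule.smul_mem _ _ φ.2)) (Submodule.smul_mem _ _ hψ'W)
    obtain ⟨u, huW, huc, hu0⟩ : ∃ z ∈ W2 a b, z ∈ W2 (φ : V) ψ' ∧ z ≠ 0 := by
      by_contra! hall
      have hinj : Function.Injective fun v : W2 a b => (f ψ' (v : V), f (φ : V) (v : V)) := by
        intro v v' e
        obtain ⟨e1, e2⟩ := Prod.ext_iff.1 e
        have hv := hall _ (hin v v.2) (wp_mem hφψ (v : V))
        have hv' := hall _ (hin v' v'.2) (wp_mem hφψ (v' : V))
        apply Subtype.ext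
        simp only at e1 e2
        rw [wp, e1, e2] at hv
        rw [wp] at hv'
        exact add_right_cancel (sub_left_injective (hv.trans hv'.symm))
      have hle := Fintype.card_le_of_injective _ hinj
      rw [hWc, Fintype.card_prod, ← hq3] at hle
      have : 3 ^ 4 ≤ 3 ^ d := Nat.pow_le_pow_right (by norm_num) (by omega)
      omega
    obtain ⟨u', hu'W, hu'⟩ := W2_nd hab u huW hu0
    set u2 := wp (φ : V) ψ' u' with hu2
    have hu2W : u2 ∈ W2 a b := hin u' hu'W
    have hu2c : u2 ∈ W2 (φ : V) ψ' := wp_mem hφψ u'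
    have huu : f u u2 ≠ 0 := by rwa [hu2, wp_pair huc]
    have hφa : f (φ : V) a = 0 := sw_zero φ.2.1
    have hφb : f (φ : V) b = 0 := sw_zero φ.2.2
    set u3 := (r0 / (2 * f u2 u)) • u2 with hu3
    have hu3W : u3 ∈ W2 a b := (W2 a b).smul_mem _ hu2W
    have hu3φ : f (φ : V) u3 = 0 := by simp [hu3, hu2c.1]
    have hcr : ∀ w : V, w ∈ W2 a b → f (φ : V) w = 0 → ∃ r : F,
        cr (φ : V) w • x = Linear.spTv a r • x := fun w hw hφw =>
      hfix _ (cr_fix hφw φ.2.1 hw.1) (cr_fix hφw φ.2.2 hw.2) 1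
        (by rw [one_smul]; exact cr_fix hφw (Linear.sympForm_self _) hφw)
    obtain ⟨p, hp⟩ := hcr u huW huc.1
    obtain ⟨p', hp'⟩ := hcr u3 hu3W hu3φ
    have h1 := comm_fix (cr_fix huc.1 φ.2.1 huW.1) (cr_fix hu3φ φ.2.1 hu3W.1) hp hp'
    have e : cr (φ : V) u * cr (φ : V) u3 =
        Linear.spTv (φ : V) (2 * f u3 u) * (cr (φ : V) u3 * cr (φ : V) u) := by
      rw [cr_mul huc.1 hu3φ, cr_mul hu3φ huc.1, add_comm u3,
        cr_spTv_comm (by simp [huc.1, hu3φ]), cr_spTv_comm (by simp [huc.1, hu3φ]), ← mul_assoc,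
        ← Linear.spTv_add, sw u u3]
      congr 2; ring
    rw [e] at h1
    have e2 : 2 * f u3 u = r0 := by
      rw [hu3, Linear.sympForm_smul_left, div_mul_eq_mul_div, mul_div_assoc',
        show 2 * (r0 * f u2 u) = r0 * (2 * f u2 u) by ring,
        mul_div_cancel_right₀ _ (mul_ne_zero h2 (by rw [sw]; simpa using huu))]
    rw [e2] at h1
    simpa [mul_assoc] using h1
  · -- at least five
    obtain ⟨μ, hμ0, hμ1⟩ : ∃ μ : F, μ ≠ 0 ∧ μ ^ 2 ≠ 1 := by
      by_contra! hall
      have : (Finset.univ : Finset F) ⊆ {0, 1, -1} := fun μ _ => by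
        by_cases h0 : μ = 0
        · simp [h0]
        · have := sq_eq_one_iff.1 (hall μ h0); simp [this]
      have h5 := (Finset.card_le_card this).trans Finset.card_le_three
      rw [Finset.card_univ] at h5
      omega
    obtain ⟨g, ga, gb, gφ⟩ := exists_levi_map hab hφ0
      (v' := μ • φ) (smul_ne_zero hμ0 hφ0)
    rw [Submodule.coe_smul] at gφ
    set r := r0 / (μ ^ 2 - 1)
    obtain ⟨p, hp⟩ := hfix g ga gb μ gφ
    obtain ⟨p', hp'⟩ := hfix _ (ht r).1 (ht r).2.1 1 (ht r).2.2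
    have h1 := comm_fix ga (ht r).1 hp hp'
    rw [Linear.spTv_conj, gφ, Linear.spTv_smul_vec, Linear.spTv_inv, ← Linear.spTv_add] at h1
    rw [show μ ^ 2 * r + -r = r0 by
      rw [show μ ^ 2 * r + -r = (μ ^ 2 - 1) * r by ring]
      exact mul_div_cancel₀ _ (sub_ne_zero.2 hμ1)] at h1
    exact h1

theorem kc_pos (hab : f a b = 1) (hF : Free m F X) (h2 : (2 : F) ≠ 0) (hm : 2 ≤ m) {c : F}
    (hne : ∃ y : YT a X, c ∈ EE y) {φ : W2 a b} (hφ0 : φ ≠ 0) : 1 ≤ kc hab X c φ := by
  classical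
  by_contra! hk
  obtain ⟨y, hy⟩ := hne
  obtain ⟨x, rfl⟩ := exists_yOf y
  set B := MinIndex.orb (DY hab X) (yOf a x) with hBd
  have hB : B ∈ bc hab X c := (mem_bc hab).2 hy
  have hA : MinIndex.Ab (DY hab X) B = ⊥ := by
    refine (AddSubgroup.eq_bot_iff_forall _).2 fun v hv => ?_
    by_contra hv0
    have h1 : 1 ≤ kc hab X c v := Finset.card_pos.2 ⟨B, Finset.mem_filter.2 ⟨hB, hv⟩⟩
    rw [kc_const hab c hφ0 hv0] at h1
    omega
  have h1 := MinIndex.card_Ab (DY hab X) (bc_block hab hB)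
  rw [hA, AddSubgroup.card_bot] at h1
  obtain ⟨z, hz⟩ := Finset.card_eq_one.1 h1.symm
  have hfix : ∀ v : W2 a b, (DY hab X).e v • yOf a x = yOf a x := fun v => by
    have e1 : (DY hab X).e v • yOf a x ∈ B := (MinIndex.mem_orb _).2 ⟨v, rfl⟩
    have e2 : yOf a x ∈ B := MinIndex.self_mem_orb _ _
    rw [hz, Finset.mem_singleton] at e1 e2
    exact e1.trans e2.symm
  obtain ⟨ψ, hψW, hψ⟩ := W2_nd hab φ φ.2 (fun e => hφ0 (Subtype.ext e))
  obtain ⟨r, hr⟩ := hF a (ne_zero_of_pair hab) x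
  apply hr
  have h3 := comm_in_stab hab (r := φ)
    (r' := ⟨(r / (2 * f ψ (φ : V))) • ψ, (W2 a b).smul_mem _ hψW⟩) (hfix _) (hfix _)
  rwa [Linear.sympForm_smul_left, show 2 * (r / (2 * f ψ (φ : V)) * f ψ (φ : V)) =
    r / (2 * f ψ (φ : V)) * (2 * f ψ (φ : V)) by ring,
    div_mul_cancel₀ _ (mul_ne_zero h2 (by rw [sw]; simpa using hψ))] at h3

theorem odd_false (hab : f a b = 1) (hF : Free m F X) (h2 : (2 : F) ≠ 0) (hm : 2 ≤ m)
    (hex : Fintype.card F = 3 → 3 ≤ m) (hq : 3 ≤ Fintype.card F) (hs : Small m F X)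
    [Nonempty X] : False := by
  classical
  obtain ⟨d, hd⟩ : ∃ d, 2 * m = d + 2 := ⟨2 * m - 2, by omega⟩
  have hWc : Fintype.card (W2 a b) = Fintype.card F ^ d := by
    rw [← Nat.card_eq_fintype_card, card_W2_eq hab hd]
  unfold Small at hs
  set q := Fintype.card F with hqd
  set D := q ^ d with hD
  have hqq : q ^ (2 * m) = q * q * D := by rw [hd, hD, pow_add]; ring
  have hDq : q * q ≤ D := by rw [hD, ← sq]; exact Nat.pow_le_pow_right (by omega) (by omega)
  have hlow : ∀ c : F, c ≠ 0 → (∃ y : YT a X, c ∈ EE y) →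
      1 + 2 * (D - 1) ≤ (Finset.univ.filter fun y : YT a X => c ∈ EE y).card := by
    intro c hc hne
    refine le_of_eq_of_le (by rw [hWc]) (yc_lower hab hne fun φ hφ => ?_)
    have h1 := kc_pos hab hF h2 hm hne hφ
    have h3 := one_false hab hF h2 hm hex hq hc hφ
    omega
  by_cases hall : ∀ c : F, c ≠ 0 → ∃ y : YT a X, c ∈ EE y
  · have h1 : q * (1 + 2 * (D - 1)) ≤ Fintype.card X := by
      rw [sum_yc (a := a) (X := X), hqd, ← Finset.card_univ, ← smul_eq_mul, ← Finset.sum_const]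
      refine Finset.sum_le_sum fun c _ => ?_
      by_cases hc : c = 0
      · obtain ⟨c1, hc1⟩ : ∃ c1 : F, c1 ≠ 0 := exists_ne 0
        refine (hlow c1 hc1 (hall c1 hc1)).trans (Finset.card_le_card fun y hy => ?_)
        exact Finset.mem_filter.2 ⟨Finset.mem_univ _, hc ▸ (EE y).zero_mem⟩
      · exact hlow c hc (hall c hc)
    have h4 := Nat.mul_le_mul_right (q - 1) h1
    zify [show 1 ≤ D by nlinarith, show 1 ≤ q by omega] at h4 hs hqq hDq
    rw [hqq] at hs
    have hq' : (3 : ℤ) ≤ q := by exact_mod_cast hq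
    nlinarith [mul_le_mul_of_nonneg_right hq' (show (0 : ℤ) ≤ q * D by positivity), hDq]
  push Not at hall
  obtain ⟨c0, hc0, hnot⟩ := hall
  have hsmallE : ∀ y : YT a X, 3 * Nat.card (EE y) ≤ q := by
    intro y
    have hdvd : Nat.card (EE y) ∣ q := by
      have := AddSubgroup.card_addSubgroup_dvd_card (EE y)
      rwa [Nat.card_eq_fintype_card (α := F)] at this
    obtain ⟨k, hk⟩ := hdvd
    have hk1 : k ≠ 1 := by
      intro e
      rw [e, mul_one] at hk
      apply hnot y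
      rw [AddSubgroup.eq_top_of_card_eq (EE y) (by rw [Nat.card_eq_fintype_card (α := F)]; exact hk.symm)]
      exact AddSubgroup.mem_top _
    have hk2 : k ≠ 2 := by
      intro e
      haveI : Fact (Nat.Prime 2) := ⟨Nat.prime_two⟩
      obtain ⟨p, hp⟩ := CharP.exists F
      haveI := hp
      obtain ⟨n, hpp, hn⟩ := FiniteField.card F p
      have : 2 ∣ p ^ (n : ℕ) := hn ▸ ⟨Nat.card (EE y), by rw [← hqd, hk, e]; ring⟩
      have hp2 : p = 2 := ((Nat.prime_dvd_prime_iff_eq Nat.prime_two hpp).1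
        (Nat.prime_two.dvd_of_dvd_pow this)).symm
      subst hp2
      exact h2 (by exact_mod_cast CharP.cast_eq_zero F 2)
    have hk0 : k ≠ 0 := fun e => by rw [e, mul_zero] at hk; omega
    calc 3 * Nat.card (EE y) ≤ k * Nat.card (EE y) := Nat.mul_le_mul_right _ (by omega)
      _ = q := by rw [hk, mul_comm]
  obtain ⟨x⟩ := ‹Nonempty X›
  obtain ⟨c1, hc1, hc10⟩ := EE_ne_bot hF (ne_zero_of_pair hab) (yOf a x)
  set S := ((Finset.univ : Finset F).erase 0).image fun t => c1 / t ^ 2 with hS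
  have hSc : q - 1 ≤ 2 * S.card := by
    have : ((Finset.univ : Finset F).erase 0).card ≤
        2 * (((Finset.univ : Finset F).erase 0).image fun t => c1 / t ^ 2).card :=
      Finset.card_le_mul_card_image ((Finset.univ : Finset F).erase 0) 2 fun v hv => by
        obtain ⟨t, ht, rfl⟩ := Finset.mem_image.1 hv
        refine (Finset.card_le_card (t := {t, -t}) fun s hs => ?_).trans Finset.card_le_two
        obtain ⟨hs0, hs2⟩ := Finset.mem_filter.1 hs
        have ht0 := Finset.ne_of_mem_erase ht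
        have hs0' := Finset.ne_of_mem_erase hs0
        field_simp at hs2
        have h5 : s ^ 2 = t ^ 2 := by linear_combination -hs2
        simpa using sq_eq_sq_iff_eq_or_eq_neg.1 h5
    rwa [Finset.card_erase_of_mem (Finset.mem_univ _), Finset.card_univ, ← hqd] at this
  have hSsum : S.card * (1 + 2 * (D - 1)) ≤
      ∑ c ∈ (Finset.univ : Finset F).erase 0,
        (Finset.univ.filter fun y : YT a X => c ∈ EE y).card := by
    rw [← smul_eq_mul, ← Finset.sum_const]
    refine (Finset.sum_le_sum fun c hc => ?_).trans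
      (Finset.sum_le_sum_of_subset fun c hc => ?_)
    · obtain ⟨t, ht, rfl⟩ := Finset.mem_image.1 hc
      have ht0 := Finset.ne_of_mem_erase ht
      obtain ⟨g, ga, -, -⟩ := exists_lev hab ht0
      refine hlow _ (div_ne_zero hc10 (pow_ne_zero 2 ht0))
        ⟨(⟨g, mem_Par_of ht0 ga⟩ : Par a) • yOf a x, ?_⟩
      exact EE_smul (g := ⟨g, mem_Par_of ht0 ga⟩) ht0 ga hc1
    · obtain ⟨t, ht, rfl⟩ := Finset.mem_image.1 hc
      exact Finset.mem_erase.2 ⟨div_ne_zero hc10 (pow_ne_zero 2 (Finset.ne_of_mem_erase ht)),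
        Finset.mem_univ _⟩
  have hEsum : ∑ c ∈ (Finset.univ : Finset F).erase 0,
        (Finset.univ.filter fun y : YT a X => c ∈ EE y).card + Fintype.card (YT a X) =
      Fintype.card X := by
    rw [sum_yc (a := a) (X := X), ← Finset.sum_erase_add (a := (0 : F)) _ _ (Finset.mem_univ _)]
    congr 1
    rw [← Finset.card_univ]
    congr 1
    ext y; simp
  have hbound : 3 * Fintype.card X ≤ q * Fintype.card (YT a X) := by
    rw [card_eq_EE (a := a) (X := X), Finset.mul_sum, ← Finset.card_univ, mul_comm q, ← smul_eq_mul,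
      ← Finset.sum_const]
    exact Finset.sum_le_sum fun y _ => hsmallE y
  set M := ∑ c ∈ (Finset.univ : Finset F).erase 0,
    (Finset.univ.filter fun y : YT a X => c ∈ EE y).card with hM
  set nY := Fintype.card (YT a X)
  set n := Fintype.card X
  zify [show 1 ≤ D by nlinarith] at hSsum
  zify [show 1 ≤ q by omega] at hSc hs hqq hbound hEsum hDq hSsum
  rw [hqq] at hs
  have hq' : (3 : ℤ) ≤ q := by exact_mod_cast hq
  have hD1 : (1 : ℤ) ≤ D := by nlinarith
  -- `(q-3) n ≥ q M`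
  have k1 : (q : ℤ) * M ≤ ((q : ℤ) - 3) * n := by
    have : (q : ℤ) * M = q * n - q * nY := by rw [← hEsum]; ring
    linarith
  have k2 : ((q : ℤ) - 1) * (2 * D - 1) ≤ 2 * M := by nlinarith
  have k3 : (q : ℤ) * ((q - 1) * (2 * D - 1)) * (q - 1) ≤ 2 * (q - 3) * (n * (q - 1)) := by
    have := mul_le_mul_of_nonneg_right (le_trans (mul_le_mul_of_nonneg_left k2 (by linarith : (0 : ℤ) ≤ q))
      (by linarith : (q : ℤ) * (2 * M) ≤ 2 * ((q - 3) * n))) (by linarith : (0 : ℤ) ≤ (q : ℤ) - 1)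
    linarith
  have k4 : 2 * ((q : ℤ) - 3) * (n * (q - 1)) ≤ 2 * (q - 3) * (q * q * D - 2) :=
    mul_le_mul_of_nonneg_left (by linarith) (by linarith)
  nlinarith [mul_le_mul_of_nonneg_left hDq (show (0 : ℤ) ≤ q * (q + 1) by positivity)]

end Cfsg.Agent.MinIndexSp.Psp
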