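import Cfsg.Agent.Lib.MinIndexSp.PspSetup

/-!
# Shapes of the orbits of the radical quotient

* `EE_ne_bot`, `kc_const`, `yc_lower`
* `lev_comm`, `fix_block` : elements of the stabiliser of the pair
* `ab_cases` : a single annihilator through `φ` contains its line or lies in it
* `sum_yc`, `block_of_kc`
-/

set_option autoImplicit false
set_option linter.unusedSectionVars false
set_option linter.style.haveILetI false

namespace Cfsg.Agent.MinIndexSp.Psp

open Cfsg Cfsg.Agent Module MulAction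
open scoped Pointwise

variable {m : ℕ} {F : Type*} [Field F] [Fintype F]
variable {X : Type*} [MulAction (Cfsg.spGL m F) X] [Fintype X] [DecidableEq X]
variable {a b : Fin m ⊕ Fin m → F}

local notation "V" => (Fin m ⊕ Fin m → F)
local notation "f" => Cfsg.sympForm m F

/-- No point is fixed by a root group. -/
def Free (m : ℕ) (F : Type*) [Field F] (X : Type*) [MulAction (Cfsg.spGL m F) X] : Prop :=
  ∀ (v : Fin m ⊕ Fin m → F), v ≠ 0 → ∀ x : X, ∃ r : F, Linear.spTv v r • x ≠ x

theorem ne_zero_of_pair (hab : f a b = 1) : a ≠ 0 := fun e => by simp [e] at hab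

theorem EE_ne_bot (hF : Free m F X) (ha : a ≠ 0) (y : YT a X) :
    ∃ c ∈ EE y, c ≠ 0 := by
  by_contra! h
  obtain ⟨x, rfl⟩ := exists_yOf y
  obtain ⟨r, hr⟩ := hF a ha x
  have h1 := MinIndex.card_Ab (tAct a) (yOf a x).2
  rw [show MinIndex.Ab (tAct a) (yOf a x).1 = ⊥ from (AddSubgroup.eq_bot_iff_forall _).2 h,
    AddSubgroup.card_bot] at h1
  obtain ⟨z, hz⟩ := Finset.card_eq_one.1 h1.symm
  have e1 : Linear.spTv a r • x ∈ (yOf a x).1 := (MinIndex.mem_orb _).2 ⟨r, rfl⟩
  have e2 : x ∈ (yOf a x).1 := MinIndex.self_mem_orb _ x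
  rw [hz, Finset.mem_singleton] at e1 e2
  exact hr (e1.trans e2.symm)

open scoped Classical in
theorem sum_yc : Fintype.card X =
    ∑ c : F, (Finset.univ.filter fun y : YT a X => c ∈ EE y).card := by
  simp only [Finset.card_filter]
  rw [Finset.sum_comm, card_eq_EE (a := a) (X := X)]
  refine Finset.sum_congr rfl fun y _ => ?_
  rw [← Finset.card_filter, Nat.card_eq_fintype_card, Fintype.card_subtype]

variable [Fintype (W2 a b)]

theorem kc_const (hab : f a b = 1) (c : F) {φ ψ : W2 a b} (hφ : φ ≠ 0) (hψ : ψ ≠ 0) :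
    kc hab X c ψ = kc hab X c φ := by
  obtain ⟨g, ga, gb, gv⟩ := exists_levi_map hab hφ hψ
  have hga : g • a = (1 : F) • a := by rw [one_smul, ga]
  have hgb : g • b = (1 : F)⁻¹ • b := by rw [inv_one, one_smul, gb]
  have h := kc_eq (X := X) hab one_ne_zero hga hgb c φ
  rwa [one_pow, div_one, show tau g one_ne_zero hga hgb φ = ψ from Subtype.ext (by simp [tau, gv])] at h

theorem tau_fix (hab : f a b = 1) {g : Cfsg.spGL m F} {t : F} (ht : t ≠ 0) (hga : g • a = t • a)
    (hgb : g • b = t⁻¹ • b) {φ : W2 a b} {s : F} (hg : g • (φ : V) = s • (φ : V)) :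
    tau g ht hga hgb φ = (t⁻¹ * s) • φ :=
  Subtype.ext (by simp [tau, hg, mul_smul])

open scoped Classical in
theorem yc_lower (hab : f a b = 1) {c : F} {k : ℕ} (hne : ∃ y : YT a X, c ∈ EE y)
    (hk : ∀ φ : W2 a b, φ ≠ 0 → k ≤ kc hab X c φ) :
    1 + k * (Fintype.card (W2 a b) - 1) ≤
      (Finset.univ.filter fun y : YT a X => c ∈ EE y).card := by
  rw [yc_count hab c]
  obtain ⟨y, hy⟩ := hne
  refine Nat.add_le_add (Finset.card_pos.2 ⟨_, (mem_bc hab).2 hy⟩) ?_
  rw [mul_comm, ← Finset.card_univ, ← Finset.card_erase_of_mem (Finset.mem_univ (0 : W2 a b)),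
    ← smul_eq_mul, ← Finset.sum_const]
  exact Finset.sum_le_sum fun φ hφ => hk φ (Finset.ne_of_mem_erase hφ)

open scoped Classical in
theorem block_of_kc (hab : f a b = 1) {c : F} {φ : W2 a b} (h : 1 ≤ kc hab X c φ) :
    ∃ B ∈ bc hab X c, φ ∈ MinIndex.Ab (DY hab X) B := by
  obtain ⟨B, hB⟩ := Finset.card_pos.1 h
  exact ⟨B, (Finset.mem_filter.1 hB).1, (Finset.mem_filter.1 hB).2⟩

theorem bc_block (hab : f a b = 1) {c : F} {B : Finset (YT a X)} (hB : B ∈ bc hab X c) :
    B ∈ MinIndex.blocks (DY hab X) := by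
  classical
  exact (Finset.mem_filter.1 hB).1

theorem bc_EE (hab : f a b = 1) {c : F} {B : Finset (YT a X)} (hB : B ∈ bc hab X c) :
    ∀ y ∈ B, c ∈ EE y := by
  classical
  exact (Finset.mem_filter.1 hB).2

/-- Elements of the stabiliser of the pair commute with scalings of the pair. -/
theorem lev_comm (hab : f a b = 1) {g h : Cfsg.spGL m F} {t : F} (hga : g • a = a)
    (hgb : g • b = b) (hha : h • a = t • a) (hhb : h • b = t⁻¹ • b)
    (hhW : ∀ w ∈ W2 a b, h • w = w) : h * g = g * h := by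
  refine Linear.spGL_ext fun x => ?_
  have hx : x = wp a b x + ((-f b x) • a + f a x • b) := by rw [wp, neg_smul]; abel
  have hgW : g • wp a b x ∈ W2 a b :=
    lev_mem (t := 1) one_ne_zero (by rw [one_smul, hga]) (by rw [inv_one, one_smul, hgb])
      (wp_mem hab x)
  have hl : ∀ (k : Cfsg.spGL m F) (s : F) (v : V), k • s • v = s • k • v := smul_comm
  rw [hx, mul_smul, mul_smul]
  simp only [smul_add, hl, hga, hgb, hha, hhb, hhW _ hgW, hhW _ (wp_mem hab x)]

/-- An element of the stabiliser of the pair fixing `φ` fixes its orbit. -/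
theorem fix_block (hab : f a b = 1) {c : F} {φ : W2 a b} (hk : kc hab X c φ = 1)
    {B : Finset (YT a X)} (hB : B ∈ bc hab X c) (hφ : φ ∈ MinIndex.Ab (DY hab X) B)
    {g : Cfsg.spGL m F} (hga : g • a = a) (hgb : g • b = b) {s : F}
    (hg : g • (φ : V) = s • (φ : V)) (hs : s • φ ∈ MinIndex.Ab (DY hab X) B)
    (hga' : g • a = (1 : F) • a) : pg a X one_ne_zero hga' • B = B := by
  refine move_eq hab one_ne_zero hga' (by rw [inv_one, one_smul, hgb]) hk hB hφ
    (by rwa [one_pow, div_one]) ?_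
  rw [tau_fix hab one_ne_zero hga' _ hg, inv_one, one_mul]
  exact hs

/-- A single annihilator through `φ` contains the line of `φ` or lies in it. -/
theorem ab_cases (hab : f a b = 1) {c : F} {φ : W2 a b} (hφ0 : φ ≠ 0) (hk : kc hab X c φ = 1)
    {B : Finset (YT a X)} (hB : B ∈ bc hab X c) (hφ : φ ∈ MinIndex.Ab (DY hab X) B) :
    (∀ s : F, s • φ ∈ MinIndex.Ab (DY hab X) B) ∨
      ∀ v ∈ MinIndex.Ab (DY hab X) B, ∃ s : F, s • φ = v := by
  classical
  refine or_iff_not_imp_right.2 fun h => ?_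
  push Not at h
  obtain ⟨v, hv, hvs⟩ := h
  set A := MinIndex.Ab (DY hab X) B with hA
  have move : ∀ u : W2 a b, f (φ : V) (u : V) = 0 ∨ (u : V) = (φ : V) → ∀ r : F,
      v + (r * f (v : V) (u : V)) • u ∈ A := by
    intro u hu r
    set g := Linear.spTv (u : V) r with hg
    have hga : g • a = a := by rw [hg, Linear.spTv_smul, u.2.1, mul_zero, zero_smul, add_zero]
    have hgb : g • b = b := by rw [hg, Linear.spTv_smul, u.2.2, mul_zero, zero_smul, add_zero]
    have hgφ : g • (φ : V) = (1 : F) • (φ : V) := by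
      rw [hg, Linear.spTv_smul, one_smul]
      rcases hu with hu | hu
      · rw [hu, mul_zero, zero_smul, add_zero]
      · rw [hu, Linear.sympForm_self, mul_zero, zero_smul, add_zero]
    have hga' : g • a = (1 : F) • a := by rw [one_smul, hga]
    have hgb' : g • b = (1 : F)⁻¹ • b := by rw [inv_one, one_smul, hgb]
    have e := fix_block hab hk hB hφ hga hgb hgφ (by rwa [one_smul]) hga'
    have := MinIndex.Ab_smul (DY hab X) (pg_norm hab one_ne_zero hga' hgb') hv
    rw [e] at this
    convert this using 1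
    apply Subtype.ext
    simp [tau, hg, Linear.spTv_smul]
  by_cases hvφ : f (v : V) (φ : V) = 0
  swap
  · intro s
    have := A.sub_mem (move φ (.inr rfl) (s / f (v : V) (φ : V))) hv
    rwa [div_mul_cancel₀ _ hvφ, add_sub_cancel_left] at this
  · obtain ⟨z, hz0, hz1⟩ := exists_detect (Submodule.span F {(φ : V)}) (v := (v : V)) (fun e => by
      obtain ⟨s, hs⟩ := Submodule.mem_span_singleton.1 e
      exact hvs s (Subtype.ext hs))
    set u : W2 a b := ⟨wp a b z, wp_mem hab z⟩
    have hu0 : f (φ : V) (u : V) = 0 := by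
      rw [wp_pair φ.2]; exact hz0 _ (Submodule.mem_span_singleton_self _)
    have hu1 : f (v : V) (u : V) = 1 := by rw [wp_pair v.2, hz1]
    intro s
    have h1 := move u (.inl hu0) s
    have h2 := move (u + φ) (.inl (by simp [hu0])) s
    rw [hu1, mul_one] at h1
    rw [Submodule.coe_add, Linear.sympForm_add_right, hu1, hvφ, add_zero, mul_one, smul_add,
      ← add_assoc] at h2
    have := A.sub_mem h2 h1
    rwa [add_sub_cancel_left] at this

end Cfsg.Agent.MinIndexSp.Psp
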