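import Cfsg.Agent.Lib.MinIndexSp.PspBasic

/-!
# Small actions of `Sp_2m(q)`: no point is fixed by a radical subgroup

* `all_fix_false` : no point is fixed by all transvections
* `exists_map_pair` : transitivity on orthogonal pairs
* `qfix_false`
-/

set_option autoImplicit false
set_option linter.unusedSectionVars false
set_option linter.style.haveILetI false

namespace Cfsg.Agent.MinIndexSp.Psp

open Cfsg Cfsg.Agent Module MulAction

variable {m : ℕ} {F : Type*} [Field F] [Fintype F]
variable {X : Type*} [MulAction (Cfsg.spGL m F) X]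

local notation "V" => (Fin m ⊕ Fin m → F)
local notation "f" => Cfsg.sympForm m F

/-- `x` is fixed by the whole radical subgroup at `a`. -/
def QFix (a : V) (x : X) : Prop :=
  a ≠ 0 ∧ (∀ r : F, Linear.spTv a r • x = x) ∧ ∀ w : V, f a w = 0 → cr a w • x = x

theorem spTv_smul_point {g : Cfsg.spGL m F} {a : V} {x : X} {r : F}
    (h : Linear.spTv a r • x = x) : Linear.spTv (g • a) r • g • x = g • x := by
  rw [← Linear.spTv_conj, mul_smul, mul_smul, inv_smul_smul, h]

theorem qfix_smul (g : Cfsg.spGL m F) {a : V} {x : X} (h : QFix a x) : QFix (g • a) (g • x) := by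
  obtain ⟨ha, ht, hc⟩ := h
  refine ⟨smul_ne_zero' ha, fun r => spTv_smul_point (ht r), fun w hw => ?_⟩
  rw [← smul_inv_smul g w, ← cr_conj, mul_smul, mul_smul, inv_smul_smul, hc]
  rwa [← Linear.sympForm_smul_smul g, smul_inv_smul]

theorem qfix_smul' {g : Cfsg.spGL m F} {a : V} {x : X} (hg : g • x = x) (h : QFix a x) :
    QFix (g • a) x := by
  have := qfix_smul g h
  rwa [hg] at this

theorem qfix_scale {a : V} {x : X} {c : F} (hc : c ≠ 0) (h : QFix a x) : QFix (c • a) x := by
  obtain ⟨ha, ht, hcr⟩ := h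
  refine ⟨smul_ne_zero hc ha, fun r => by rw [Linear.spTv_smul_vec]; exact ht _, fun w hw => ?_⟩
  have hw' : f a w = 0 := by simpa [hc] using hw
  rw [cr_smul_left c hw']
  exact hcr _ (by simp [hw'])

theorem smul_eq_of_transvections {x : X} (h : ∀ (v : V) (r : F), Linear.spTv v r • x = x)
    (g : Cfsg.spGL m F) : g • x = x := by
  have hle : Subgroup.closure (Linear.spTvSet (⊤ : Submodule F V)) ≤
      MulAction.stabilizer (Cfsg.spGL m F) x := by
    refine (Subgroup.closure_le _).2 ?_
    rintro _ ⟨w, -, r, rfl⟩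
    exact h w r
  rw [Linear.closure_spTvSet] at hle
  exact hle (Subgroup.mem_top g)

/-- No point is fixed by all transvections. -/
theorem all_fix_false [Nontrivial X] [MulAction.IsPretransitive (Cfsg.spGL m F) X] {x : X}
    (h : ∀ v : V, v ≠ 0 → ∀ r : F, Linear.spTv v r • x = x) : False := by
  obtain ⟨z, hz⟩ := exists_ne x
  obtain ⟨g, hg⟩ := MulAction.exists_smul_eq (Cfsg.spGL m F) x z
  refine hz (hg.symm.trans (smul_eq_of_transvections (fun v r => ?_) g))
  by_cases hv : v = 0
  · rw [hv, Linear.spTv_zero_vec, one_smul]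
  · exact h v hv r

theorem exists_two {p s : V} (hp : p ≠ 0) (hs : s ≠ 0) : ∃ y : V, f p y ≠ 0 ∧ f s y ≠ 0 := by
  obtain ⟨y1, h1⟩ := exists_dual hp
  obtain ⟨y2, h2⟩ := exists_dual hs
  by_cases a : f s y1 = 0
  · by_cases b : f p y2 = 0
    · exact ⟨y1 + y2, by simp [h1, b], by simp [h2, a]⟩
    · exact ⟨y2, b, by simp [h2]⟩
  · exact ⟨y1, by simp [h1], a⟩

/-- The points fixing `x` through their radical subgroups are pairwise orthogonal. -/
theorem qfix_orth [Nontrivial X] [MulAction.IsPretransitive (Cfsg.spGL m F) X] {p p' : V} {x : X}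
    (hp : QFix p x) (hp' : QFix p' x) : f p p' = 0 := by
  by_contra h
  have key : ∀ p p' : V, QFix p x → QFix p' x → f p p' ≠ 0 → ∀ y, f p y ≠ 0 → QFix y x := by
    intro p p' hp hp' h y hy
    set s := f p y / f p p' with hs
    have hs0 : s ≠ 0 := div_ne_zero hy h
    have hp2 := qfix_scale hs0 hp'
    set p2 := s • p' with hp2d
    set r := f p y with hr
    have hr2 : f p p2 = r := by rw [hp2d, Linear.sympForm_smul_right, hs, div_mul_cancel₀ _ h]
    set w := r⁻¹ • (p2 - y) with hw
    have hpw : f p w = 0 := by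
      rw [hw, Linear.sympForm_smul_right, Linear.sympForm_sub_right, hr2, sub_self, mul_zero]
    have h1 := qfix_smul' (hp.2.2 w hpw) hp2
    have e : cr p w • p2 = y + f p2 w • p := by
      rw [cr_smul hpw, sw p2 p, hr2, hw, smul_smul, neg_mul, mul_inv_cancel₀ hy, neg_smul, one_smul]
      abel
    rw [e] at h1
    have h2 := qfix_smul' (hp.2.1 (f p2 w / r)) h1
    have e2 : Linear.spTv p (f p2 w / r) • (y + f p2 w • p) = y := by
      have e0 : f (y + f p2 w • p) p = -r := by simp [sw y p, hr]
      rw [Linear.spTv_smul, e0, mul_neg, div_mul_cancel₀ _ hy, neg_smul, add_neg_cancel_right]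
    rwa [e2] at h2
  refine all_fix_false (m := m) (F := F) (x := x) fun v hv => ?_
  obtain ⟨y, hy1, hy2⟩ := exists_two hp.1 hv
  exact (key y p (key p p' hp hp' h y hy1) hp (by rw [sw]; simpa using hy1) v
    (by rw [sw]; simpa using hy2)).2.1

theorem exists_map_pair {a0 v0 a v : V} (ha0 : a0 ≠ 0) (hv0 : v0 ∉ Submodule.span F {a0})
    (ho0 : f a0 v0 = 0) (ha : a ≠ 0) (hv : v ∉ Submodule.span F {a}) (ho : f a v = 0) :
    ∃ g : Cfsg.spGL m F, g • a0 = a ∧ g • v0 = v := by
  obtain ⟨g1, hg1⟩ := Linear.exists_spGL_smul_eq ha0 ha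
  set v1 := g1 • v0 with hv1
  have h1b : v1 ∉ Submodule.span F {a} := by
    intro e
    obtain ⟨c, hc⟩ := Submodule.mem_span_singleton.1 e
    refine hv0 (Submodule.mem_span_singleton.2 ⟨c, smul_left_cancel g1 ?_⟩)
    rw [smul_comm, hg1, hc, hv1]
  have h1c : f a v1 = 0 := by rw [hv1, ← hg1, Linear.sympForm_smul_smul, ho0]
  obtain ⟨b, hb⟩ := exists_dual ha
  have nz : ∀ {z : V}, z ∉ Submodule.span F {a} → f a z = 0 → wp a b z ≠ 0 := by
    intro z za hz e
    have h := wp_perp (b := b) hz
    rw [e, zero_add] at h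
    exact za (Submodule.mem_span_singleton.2 ⟨_, h.symm⟩)
  set w1 := wp a b v1 with hw1
  set w := wp a b v with hw
  have m2 : w ∈ W2 a b := wp_mem hb v
  obtain ⟨h, hh, hhw⟩ := Linear.exists_spTv_smul_eq (W2 a b) (W2_nd hb) (wp_mem hb v1) m2
    (nz h1b h1c) (nz hv ho)
  have hha : h • a = a :=
    Linear.smul_eq_of_mem_closure_spTvSet (W := W2 a b) (x := a) (fun z hz => (mem_W2.1 hz).1) hh
  have hv1' := wp_perp (b := b) h1c
  have hv' := wp_perp (b := b) ho
  rw [← hw1] at hv1'
  rw [← hw] at hv'
  obtain ⟨y, hy, hwy⟩ := W2_nd hb w m2 (nz hv ho)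
  set y' := ((f b v1 - f b v) / f w y) • y with hy'
  have hay : f a y' = 0 := by simp [hy', hy.1]
  have hwy' : f w y' = f b v1 - f b v := by
    rw [hy', Linear.sympForm_smul_right, div_mul_cancel₀ _ hwy]
  refine ⟨cr a y' * h * g1, ?_, ?_⟩
  · rw [mul_smul, mul_smul, hg1, hha, cr_fix hay (Linear.sympForm_self a) hay]
  · rw [mul_smul, mul_smul, ← hv1]
    conv_lhs => rw [hv1']
    rw [smul_add, hhw, smul_comm h, hha, cr_smul hay, Linear.sympForm_add_left,
      Linear.sympForm_smul_left, Linear.sympForm_self, Linear.sympForm_add_left,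
      Linear.sympForm_smul_left, sw_zero m2.1, hay, hwy']
    conv_rhs => rw [hv']
    match_scalars <;> ring

variable [Fintype X]

/-- Being small. -/
def Small (m : ℕ) (F : Type*) [Fintype F] (X : Type*) [Fintype X] : Prop :=
  Fintype.card X * (Fintype.card F - 1) + 1 < Fintype.card F ^ (2 * m)

/-- No point of a small set is fixed by a whole radical subgroup. -/
theorem qfix_false [Nontrivial X] [MulAction.IsPretransitive (Cfsg.spGL m F) X] (hm : 2 ≤ m)
    (hs : Small m F X) {a : V} {x : X} (hax : QFix a x) : False := by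
  classical
  obtain ⟨d, hd⟩ : ∃ d, 2 * m = d + 2 := ⟨2 * m - 2, by omega⟩
  set q := Fintype.card F with hqd
  have hq2 : 2 ≤ q := Fintype.one_lt_card
  set T : X → Submodule F V := fun y => Submodule.span F {s | QFix s y} with hT
  have hTg : ∀ (g : Cfsg.spGL m F) (y : X) (v : V), v ∈ T y → g • v ∈ T (g • y) := by
    intro g y v hv
    induction hv using Submodule.span_induction with
    | mem s hs => exact Submodule.subset_span (qfix_smul g hs)
    | zero => rw [smul_zero]; exact zero_mem _
    | add p q _ _ hp hq => rw [smul_add]; exact add_mem hp hq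
    | smul c p _ hp => rw [smul_comm]; exact Submodule.smul_mem _ _ hp
  have hTg' : ∀ (g : Cfsg.spGL m F) (y : X) (v : V), g • v ∈ T (g • y) ↔ v ∈ T y := by
    refine fun g y v => ⟨fun h => ?_, hTg g y v⟩
    have := hTg g⁻¹ _ _ h
    rwa [inv_smul_smul, inv_smul_smul] at this
  have iso : ∀ y, ∀ v ∈ T y, ∀ w ∈ T y, f v w = 0 := by
    intro y v hv
    induction hv using Submodule.span_induction with
    | mem s hs =>
      intro w hw
      induction hw using Submodule.span_induction with
      | mem t ht => exact qfix_orth hs ht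
      | zero => simp
      | add p q _ _ hp hq => simp [hp, hq]
      | smul c p _ hp => simp [hp]
    | zero => intro w _; simp
    | add p q _ _ hp hq => intro w hw; simp [hp w hw, hq w hw]
    | smul c p _ hp => intro w hw; simp [hp w hw]
  have haT : a ∈ T x := Submodule.subset_span hax
  set TT : Finset (Submodule F V) := Finset.univ.image T with hTT
  have hTn : TT.card ≤ Fintype.card X := Finset.card_image_le.trans_eq Finset.card_univ
  set A : V → Finset (Submodule F V) := fun v => TT.filter fun S => v ∈ S with hA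
  have himg : ∀ (g : Cfsg.spGL m F) (y : X), (T y).map (Matrix.mulVecLin g.1.1) = T (g • y) := by
    intro g y
    ext z
    rw [Submodule.mem_map]
    refine ⟨?_, fun hz => ⟨g⁻¹ • z, ?_, smul_inv_smul g z⟩⟩
    · rintro ⟨z', hz', rfl⟩
      exact hTg g y z' hz'
    · rwa [← hTg' g, smul_inv_smul]
  have htrans : ∀ (g : Cfsg.spGL m F) (v : V), (A v).card ≤ (A (g • v)).card := by
    intro g v
    refine Finset.card_le_card_of_injOn (fun S => S.map (Matrix.mulVecLin g.1.1)) (fun S hS => ?_) ?_
    · obtain ⟨hS, hv⟩ := Finset.mem_filter.1 hS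
      refine Finset.mem_filter.2 ⟨?_, Submodule.mem_map.2 ⟨v, hv, rfl⟩⟩
      obtain ⟨y, -, rfl⟩ := Finset.mem_image.1 hS
      exact Finset.mem_image.2 ⟨g • y, Finset.mem_univ _, (himg g y).symm⟩
    · intro S _ S' _ e
      exact Submodule.map_injective_of_injective
        (show Function.Injective ⇑(Matrix.mulVecLin g.1.1) from fun p q h => smul_left_cancel g h) e
  have hconst : ∀ v : V, v ≠ 0 → (A v).card = (A a).card := by
    intro v hv
    obtain ⟨g, rfl⟩ := Linear.exists_spGL_smul_eq hax.1 hv
    refine le_antisymm ?_ (htrans g a)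
    have := htrans g⁻¹ (g • a)
    rwa [inv_smul_smul] at this
  set t := Fintype.card (T x) with ht
  have hTcard : ∀ S ∈ TT, (Finset.univ.filter fun v : V => v ∈ S).card = t := by
    intro S hS
    obtain ⟨y, -, rfl⟩ := Finset.mem_image.1 hS
    obtain ⟨g, rfl⟩ := MulAction.exists_smul_eq (Cfsg.spGL m F) x y
    rw [ht, Fintype.card_subtype]
    refine Finset.card_nbij' (fun v => g⁻¹ • v) (fun v => g • v) (fun v hv => ?_) (fun v hv => ?_)
      (fun v _ => smul_inv_smul g v) (fun v _ => inv_smul_smul g v)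
    · simp only [Finset.coe_filter, Finset.mem_univ, true_and, Set.mem_setOf_eq] at hv ⊢
      rwa [← hTg' g, smul_inv_smul]
    · simp only [Finset.coe_filter, Finset.mem_univ, true_and, Set.mem_setOf_eq] at hv ⊢
      exact hTg g x v hv
  -- pairs (point, image)
  have hdc : TT.card * (t - 1) = (q ^ (2 * m) - 1) * (A a).card := by
    have h1 : ∑ S ∈ TT, ((Finset.univ.filter fun v : V => v ∈ S).erase 0).card =
        ∑ v ∈ (Finset.univ : Finset V).erase 0, (A v).card := by
      simp only [← Finset.filter_erase, Finset.card_filter, hA]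
      exact Finset.sum_comm
    rw [Finset.sum_congr rfl fun S hS =>
      (show ((Finset.univ.filter fun v : V => v ∈ S).erase 0).card = t - 1 by
        rw [Finset.card_erase_of_mem (Finset.mem_filter.2 ⟨Finset.mem_univ _, S.zero_mem⟩),
          hTcard S hS]), Finset.sum_const, smul_eq_mul,
      Finset.sum_congr rfl fun v hv => hconst v (Finset.ne_of_mem_erase hv), Finset.sum_const,
      Finset.card_erase_of_mem (Finset.mem_univ _), Finset.card_univ, smul_eq_mul, card_V] at h1
    exact h1
  have hA1 : 1 ≤ (A a).card :=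
    Finset.card_pos.2 ⟨T x, Finset.mem_filter.2 ⟨Finset.mem_image.2 ⟨x, Finset.mem_univ _, rfl⟩, haT⟩⟩
  obtain ⟨j, hj⟩ := card_sub_pow (T x)
  rw [Nat.card_eq_fintype_card, ← ht, ← hqd] at hj
  have ht2 : 2 ≤ t := by
    rw [ht]
    exact Fintype.one_lt_card_iff.2 ⟨⟨a, haT⟩, 0, fun e => hax.1 (congrArg Subtype.val e)⟩
  unfold Small at hs
  rw [← hqd] at hs
  suffices h : q ^ (2 * m) - 1 ≤ TT.card * (q - 1) by
    have := Nat.mul_le_mul_right (q - 1) hTn
    omega
  rcases Nat.lt_or_ge j 2 with hj2 | hj2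
  · have hj1 : j = 1 := by
      rcases Nat.eq_zero_or_pos j with rfl | h
      · rw [pow_zero] at hj; omega
      · omega
    rw [hj1, pow_one] at hj
    rw [hj] at hdc
    rw [hdc]
    exact Nat.le_mul_of_pos_right _ hA1
  -- a second vector
  have hspan : ∀ {c : V}, c ≠ 0 →
      (Finset.univ.filter fun v : V => v ∈ Submodule.span F {c}).card = q := by
    intro c hc
    rw [← Finset.card_univ.trans hqd.symm, ← Finset.card_image_of_injective Finset.univ
      (show Function.Injective fun s : F => s • c from fun s s' e => smul_left_injective F hc e)]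
    congr 1
    ext v
    simp [Submodule.mem_span_singleton]
  have hjt : q ^ 2 ≤ t := hj ▸ Nat.pow_le_pow_right (by omega) hj2
  obtain ⟨v0, hv0T, hv0a⟩ : ∃ v0 ∈ T x, v0 ∉ Submodule.span F {a} := by
    have h3 : (Finset.univ.filter fun v : V => v ∈ Submodule.span F {a}).card <
        (Finset.univ.filter fun v : V => v ∈ T x).card := by
      rw [hspan hax.1, ← Fintype.card_subtype, ← ht]
      nlinarith
    obtain ⟨v, hv, hv'⟩ := Finset.exists_mem_notMem_of_card_lt_card h3
    simp only [Finset.mem_filter, Finset.mem_univ, true_and] at hv hv'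
    exact ⟨v, hv, hv'⟩
  set P : Finset V := Finset.univ.filter fun v : V => f a v = 0 ∧ v ∉ Submodule.span F {a} with hP
  have hPc : P.card + q = q * q ^ d := by
    haveI : Fintype {v : V // f a v = 0} := Fintype.ofFinite _
    have h1 := card_perp (F := F) hax.1
    rw [hd, pow_add, Fintype.card_subtype, ← hqd] at h1
    have h2 : (Finset.univ.filter fun v : V => f a v = 0).card = q * q ^ d :=
      Nat.eq_of_mul_eq_mul_left (show 0 < q by omega) (h1.trans (by ring))
    rw [← h2, ← hspan hax.1, ← Finset.card_union_of_disjoint]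
    · congr 1
      ext v
      simp only [hP, Finset.mem_union, Finset.mem_filter, Finset.mem_univ, true_and]
      refine ⟨fun h => h.elim And.left fun h => ?_, fun h => by tauto⟩
      obtain ⟨c, rfl⟩ := Submodule.mem_span_singleton.1 h
      simp
    · exact Finset.disjoint_filter.2 fun v _ h h' => h.2 h'
  set B : V → Finset (Submodule F V) := fun v => (A a).filter fun S => v ∈ S with hB
  have hcnt : ∑ v ∈ P, (B v).card ≤ (A a).card * (t - q) := by
    simp only [hB, Finset.card_filter]
    rw [Finset.sum_comm, ← smul_eq_mul, ← Finset.sum_const]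
    refine Finset.sum_le_sum fun S hS => ?_
    rw [← Finset.card_filter]
    obtain ⟨hS, haS⟩ := Finset.mem_filter.1 hS
    rw [← hTcard S hS, ← hspan hax.1, ← Finset.card_sdiff_of_subset]
    · refine Finset.card_le_card fun v hv => ?_
      simp only [hP, Finset.mem_filter, Finset.mem_univ, true_and] at hv
      simp [hv.1.2, hv.2]
    · intro v hv
      simp only [Finset.mem_filter, Finset.mem_univ, true_and] at hv ⊢
      obtain ⟨c, rfl⟩ := Submodule.mem_span_singleton.1 hv
      exact S.smul_mem c haS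
  have himg2 : ∀ v ∈ P, ∃ y : X, a ∈ T y ∧ v ∈ T y := by
    intro v hv
    obtain ⟨-, ho, hne⟩ := Finset.mem_filter.1 hv
    obtain ⟨g, hga, hgv⟩ := exists_map_pair hax.1 hv0a (iso x a haT v0 hv0T) hax.1 hne ho
    exact ⟨g • x, hga ▸ hTg g x a haT, hgv ▸ hTg g x v0 hv0T⟩
  have hmemB : ∀ {v : V} (y : X), a ∈ T y → v ∈ T y → T y ∈ B v := fun y ha hv =>
    Finset.mem_filter.2 ⟨Finset.mem_filter.2 ⟨Finset.mem_image.2 ⟨y, Finset.mem_univ _, rfl⟩, ha⟩, hv⟩
  obtain ⟨e, he, hte⟩ : ∃ e, (∀ v ∈ P, e ≤ (B v).card) ∧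
      (t - 1) * (t - q) ≤ e * (q * q ^ d - q) * (q - 1) := by
    have hq1 : 1 ≤ q ^ d := Nat.one_le_pow _ _ (by omega)
    rcases eq_or_lt_of_le hj2 with hj2' | hj3
    · refine ⟨1, fun v hv => ?_, ?_⟩
      · obtain ⟨y, hya, hyv⟩ := himg2 v hv
        exact Finset.card_pos.2 ⟨T y, hmemB y hya hyv⟩
      · rw [hj, ← hj2', one_mul]
        have hqd : q ^ 2 ≤ q ^ d := Nat.pow_le_pow_right (by omega) (by omega)
        have : q * 1 ≤ q * q ^ d := Nat.mul_le_mul_left q hq1
        zify [show 1 ≤ q ^ 2 by nlinarith, show q ≤ q ^ 2 by nlinarith, show q ≤ q * q ^ d by omega,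
          show 1 ≤ q by omega] at hqd ⊢
        have hq' : (2 : ℤ) ≤ q := by exact_mod_cast hq2
        nlinarith [mul_le_mul_of_nonneg_left hqd (mul_nonneg (by linarith : (0 : ℤ) ≤ q)
          (by linarith : (0 : ℤ) ≤ (q : ℤ) - 1))]
    · refine ⟨2, fun v hv => ?_, ?_⟩
      · obtain ⟨y, hya, hyv⟩ := himg2 v hv
        obtain ⟨-, ho, hne⟩ := Finset.mem_filter.1 hv
        obtain ⟨v2, hv2T, hv2n⟩ : ∃ v2 ∈ T y, v2 ∉ Submodule.span F {a, v} := by
          have h4 : (Finset.univ.filter fun z : V => z ∈ Submodule.span F {a, v}).card <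
              (Finset.univ.filter fun z : V => z ∈ T y).card := by
            rw [hTcard _ (Finset.mem_image.2 ⟨y, Finset.mem_univ _, rfl⟩)]
            calc _ ≤ ((Finset.univ : Finset (F × F)).image fun p => p.1 • a + p.2 • v).card := by
                  refine Finset.card_le_card fun z hz => ?_
                  obtain ⟨c, c', rfl⟩ := Submodule.mem_span_pair.1 (Finset.mem_filter.1 hz).2
                  exact Finset.mem_image.2 ⟨(c, c'), Finset.mem_univ _, rfl⟩
              _ ≤ q ^ 2 := by
                  refine Finset.card_image_le.trans ?_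
                  rw [Finset.card_univ, Fintype.card_prod, sq]
              _ < t := hj ▸ Nat.pow_lt_pow_right (by omega) hj3
          obtain ⟨z, hz, hz'⟩ := Finset.exists_mem_notMem_of_card_lt_card h4
          simp only [Finset.mem_filter, Finset.mem_univ, true_and] at hz hz'
          exact ⟨z, hz, hz'⟩
        obtain ⟨z, hz0, hz1⟩ := exists_detect _ hv2n
        set g := Linear.spTv z (1 : F) with hg
        have hga : g • a = a := by
          rw [hg, Linear.spTv_smul, hz0 a (Submodule.subset_span (by simp)), mul_zero, zero_smul,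
            add_zero]
        have hgv : g • v = v := by
          rw [hg, Linear.spTv_smul, hz0 v (Submodule.subset_span (by simp)), mul_zero, zero_smul,
            add_zero]
        have hne2 : T (g • y) ≠ T y := by
          intro e
          have h5 := hTg g y v2 hv2T
          rw [e, hg, Linear.spTv_smul, hz1, mul_one, one_smul] at h5
          have h6 := iso y v2 hv2T _ ((Submodule.add_mem_iff_right _ hv2T).1 h5)
          rw [hz1] at h6
          exact one_ne_zero h6
        exact Finset.one_lt_card.2 ⟨T (g • y), hmemB _ (hga ▸ hTg g y a hya) (hgv ▸ hTg g y v hyv),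
          T y, hmemB y hya hyv, hne2⟩
      · have hiso : t * t ≤ q ^ (2 * m) := by
          have h1 := MinIndex.card_ann_mul (B := bil m F) (fun v hv => bil_nd hv)
            (T x).toAddSubgroup
          have h2 : Nat.card (T x).toAddSubgroup ≤
              Nat.card (MinIndex.ann (bil m F) (T x).toAddSubgroup) :=
            AddSubgroup.card_le_of_le fun v hv r hr => by
              show MinIndex.chr F (f v r) = 1
              rw [iso x v hv r hr, AddChar.map_zero_eq_one]
          rw [Nat.card_eq_fintype_card (α := V), card_V] at h1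
          have h3 : Nat.card (T x).toAddSubgroup = t := by rw [ht, ← Nat.card_eq_fintype_card]; rfl
          rw [h3] at h1 h2
          exact h1 ▸ Nat.mul_le_mul_right t h2
        obtain ⟨k, hk⟩ : ∃ k, m = k + 1 := ⟨m - 1, by omega⟩
        have htm : t ≤ q ^ m := by
          by_contra! h
          have := Nat.mul_lt_mul'' h h
          rw [two_mul, pow_add] at hiso
          omega
        refine (Nat.mul_le_mul (Nat.sub_le_sub_right htm 1) (Nat.sub_le_sub_right htm q)).trans ?_
        have hdk : d = k + k := by omega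
        subst hdk hk
        have hk1 : 1 ≤ q ^ k := Nat.one_le_pow _ _ (by omega)
        rw [pow_succ, pow_add]
        have : q * 1 ≤ q * (q ^ k * q ^ k) := Nat.mul_le_mul_left q (Nat.mul_pos hk1 hk1)
        have h1q : 1 * 1 ≤ q ^ k * q := Nat.mul_le_mul hk1 (by omega)
        have h2q : 1 * q ≤ q ^ k * q := Nat.mul_le_mul_right q hk1
        zify [show 1 ≤ q ^ k * q by omega, show q ≤ q ^ k * q by omega,
          show q ≤ q * (q ^ k * q ^ k) by omega, show 1 ≤ q by omega]
        have hq' : (2 : ℤ) ≤ q := by exact_mod_cast hq2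
        have hK : (1 : ℤ) ≤ (q : ℤ) ^ k := by exact_mod_cast hk1
        nlinarith [mul_nonneg (mul_nonneg (by linarith : (0 : ℤ) ≤ (q : ℤ)) (sub_nonneg.2 hK))
          (mul_nonneg (sub_nonneg.2 hK) (by linarith : (0 : ℤ) ≤ (q : ℤ) - 2)),
          mul_nonneg (mul_nonneg (by linarith : (0 : ℤ) ≤ (q : ℤ)) (sub_nonneg.2 hK))
          (by linarith : (0 : ℤ) ≤ (q : ℤ) - 1)]
  have hsum : e * P.card ≤ ∑ v ∈ P, (B v).card := by
    rw [mul_comm, ← smul_eq_mul, ← Finset.sum_const]
    exact Finset.sum_le_sum he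
  rw [show P.card = q * q ^ d - q by omega] at hsum
  have htq : 0 < (t - 1) * (t - q) := Nat.mul_pos (by omega) (by
    have : q < q ^ 2 := by nlinarith
    omega)
  refine Nat.le_of_mul_le_mul_left ?_ htq
  calc (t - 1) * (t - q) * (q ^ (2 * m) - 1)
      ≤ e * (q * q ^ d - q) * (q - 1) * (q ^ (2 * m) - 1) := Nat.mul_le_mul_right _ hte
    _ ≤ (A a).card * (t - q) * (q - 1) * (q ^ (2 * m) - 1) :=
        Nat.mul_le_mul_right _ (Nat.mul_le_mul_right _ (hsum.trans hcnt))
    _ = TT.card * (t - 1) * (t - q) * (q - 1) := by rw [hdc]; ring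
    _ = _ := by ring

end Cfsg.Agent.MinIndexSp.Psp
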