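import Cfsg.Agent.Lib.MinIndexSp.PspNoFix

/-!
# Orbits of a root group, and the radical quotient acting on them

* `tAct`, `YT`, `EE` : the orbits of the root group of `a`, with their annihilators
* `bc`, `kc`, `yc_count` : the orbits of `W2 a b` on those with a given character
* `kc_eq`, `move_eq` : transport by elements scaling the pair
* `exists_fixed`, `commute_fixed` : the unique fixed point of a scaling element in an orbit
* `comm_fix`, `scale_fix` : from a fixed orbit to a fixed point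
-/

set_option autoImplicit false
set_option linter.unusedSectionVars false
set_option linter.style.haveILetI false

namespace Cfsg.Agent.MinIndexSp.Psp

open Cfsg Cfsg.Agent Module MulAction
open scoped Pointwise

variable {m : ℕ} {F : Type*} [Field F] [Fintype F]

local notation "V" => (Fin m ⊕ Fin m → F)
local notation "f" => Cfsg.sympForm m F

/-- The root group of `a`. -/
noncomputable def tAct (a : V) : MinIndex.VecAct F F (Cfsg.spGL m F) where
  e r := Linear.spTv a r
  B := LinearMap.mul F F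
  add r r' := Linear.spTv_add a r r'
  nd x hx := ⟨1, by simpa using hx⟩

theorem tAct_norm {a : V} {g : Cfsg.spGL m F} {t : F} (ht : t ≠ 0) (hg : g • a = t • a) :
    MinIndex.Norm (tAct a) g (fun r => t ^ 2 * r) (fun c => c / t ^ 2) := by
  have ht2 : t ^ 2 ≠ 0 := pow_ne_zero 2 ht
  refine { conj := fun r => ?_, adj := fun c r => ?_, surj := fun r => ⟨r / t ^ 2, ?_⟩, inj := ?_ }
  · show g * Linear.spTv a r * g⁻¹ = Linear.spTv a (t ^ 2 * r)
    rw [Linear.spTv_conj, hg, Linear.spTv_smul_vec]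
  · show c / t ^ 2 * (t ^ 2 * r) = c * r
    field_simp
  · field_simp
  · intro c c' h
    field_simp at h
    exact h

variable {X : Type*} [MulAction (Cfsg.spGL m F) X] [Fintype X] [DecidableEq X]
variable {a b : Fin m ⊕ Fin m → F}

/-- The orbits of the root group of `a`. -/
def YT (a : Fin m ⊕ Fin m → F) (X : Type*) [MulAction (Cfsg.spGL m F) X] [Fintype X]
    [DecidableEq X] : Type _ :=
  {s : Finset X // s ∈ MinIndex.blocks (X := X) (tAct a)}

noncomputable instance instFintypeYT : Fintype (YT a X) :=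
  inferInstanceAs (Fintype {s : Finset X // s ∈ MinIndex.blocks (X := X) (tAct a)})

noncomputable instance instDecEqYT : DecidableEq (YT a X) :=
  inferInstanceAs (DecidableEq {s : Finset X // s ∈ MinIndex.blocks (X := X) (tAct a)})

noncomputable instance instActYT : MulAction (Par a) (YT a X) where
  smul g s := ⟨(g : Cfsg.spGL m F) • s.1, by
    obtain ⟨t, ht, hg⟩ := g.2
    exact MinIndex.smul_mem_blocks _ (tAct_norm ht hg) s.2⟩
  one_smul s := Subtype.ext (one_smul _ _)
  mul_smul g h s := Subtype.ext (mul_smul (g : Cfsg.spGL m F) (h : Cfsg.spGL m F) s.1)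

theorem YT_smul_val (g : Par a) (s : YT a X) : (g • s).1 = (g : Cfsg.spGL m F) • s.1 := rfl

/-- The orbit of a point. -/
noncomputable def yOf (a : Fin m ⊕ Fin m → F) (x : X) : YT a X :=
  ⟨MinIndex.orb (tAct a) x, (MinIndex.mem_blocks _).2 ⟨x, rfl⟩⟩

theorem smul_yOf (g : Par a) (x : X) : g • yOf a x = yOf a ((g : Cfsg.spGL m F) • x) := by
  obtain ⟨t, ht, hg⟩ := g.2
  exact Subtype.ext (MinIndex.smul_orb (tAct a) (tAct_norm ht hg) x)

theorem exists_yOf (y : YT a X) : ∃ x, yOf a x = y := by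
  obtain ⟨x, hx⟩ := (MinIndex.mem_blocks _).1 y.2
  exact ⟨x, Subtype.ext hx⟩

theorem fixed_yOf_iff (g : Par a) (x : X) :
    g • yOf a x = yOf a x ↔ ∃ r : F, (g : Cfsg.spGL m F) • x = Linear.spTv a r • x := by
  rw [smul_yOf]
  constructor
  · intro h
    have h1 : (g : Cfsg.spGL m F) • x ∈ MinIndex.orb (tAct a) x := by
      rw [← show MinIndex.orb (tAct a) ((g : Cfsg.spGL m F) • x) = MinIndex.orb (tAct a) x from
        congrArg Subtype.val h]
      exact MinIndex.self_mem_orb _ _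
    obtain ⟨r, hr⟩ := (MinIndex.mem_orb _).1 h1
    exact ⟨r, hr.symm⟩
  · rintro ⟨r, hr⟩
    exact Subtype.ext (MinIndex.orb_eq _ ((MinIndex.mem_orb _).2 ⟨r, hr.symm⟩))

theorem tEl_triv (r : F) (y : YT a X) : tEl a r • y = y := by
  obtain ⟨x, rfl⟩ := exists_yOf y
  exact (fixed_yOf_iff _ x).2 ⟨r, rfl⟩

/-- The characters trivial on the stabiliser of an orbit. -/
noncomputable def EE (y : YT a X) : AddSubgroup F := MinIndex.Ab (tAct a) y.1

theorem card_eq_EE : Fintype.card X = ∑ y : YT a X, Nat.card (EE y) := by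
  rw [MinIndex.card_eq_sum (X := X) (tAct a), ← Finset.sum_coe_sort]
  exact Finset.sum_congr rfl fun y _ => (MinIndex.card_Ab (tAct a) y.2).symm

theorem EE_smul {g : Par a} {t : F} (ht : t ≠ 0) (hg : (g : Cfsg.spGL m F) • a = t • a)
    {y : YT a X} {c : F} (hc : c ∈ EE y) : c / t ^ 2 ∈ EE (g • y) :=
  MinIndex.Ab_smul (tAct a) (tAct_norm ht hg) hc

/-- The action of the radical quotient on the orbits of the root group. -/
noncomputable def DY (hab : f a b = 1) (X : Type*) [MulAction (Cfsg.spGL m F) X] [Fintype X]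
    [DecidableEq X] : MinIndex.VecAct F (W2 a b) (Equiv.Perm (YT a X)) :=
  rad hab tEl_triv

theorem DY_smul (hab : f a b = 1) (v : W2 a b) (y : YT a X) :
    (DY hab X).e v • y = crEl a v.2.1 • y := rfl

theorem EE_const (hab : f a b = 1) [Fintype (W2 a b)] {y y' : YT a X}
    (h : y' ∈ MinIndex.orb (DY hab X) y) : EE y' = EE y := by
  obtain ⟨v, rfl⟩ := (MinIndex.mem_orb _).1 h
  have key : ∀ (v : W2 a b) (y : YT a X) (c : F), c ∈ EE y → c ∈ EE ((DY hab X).e v • y) := by
    intro v y c hc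
    have := EE_smul (g := crEl a v.2.1) one_ne_zero
      (by rw [one_smul]; exact cr_fix v.2.1 (Linear.sympForm_self a) v.2.1) hc
    rwa [one_pow, div_one, ← DY_smul hab v y] at this
  refine SetLike.ext fun c => ⟨fun hc => ?_, key v y c⟩
  have := key (-v) _ c hc
  rwa [← mul_smul, ← (DY hab X).add, neg_add_cancel, (DY hab X).zero, one_smul] at this

open scoped Classical in
/-- The orbits of `W2 a b` with character `c`. -/
noncomputable def bc (hab : f a b = 1) [Fintype (W2 a b)] (X : Type*)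
    [MulAction (Cfsg.spGL m F) X] [Fintype X] [DecidableEq X] (c : F) : Finset (Finset (YT a X)) :=
  (MinIndex.blocks (X := YT a X) (DY hab X)).filter fun B => ∀ y ∈ B, c ∈ EE y

open scoped Classical in
/-- How many of them have `φ` in their annihilator. -/
noncomputable def kc (hab : f a b = 1) [Fintype (W2 a b)] (X : Type*)
    [MulAction (Cfsg.spGL m F) X] [Fintype X] [DecidableEq X] (c : F) (φ : W2 a b) : ℕ :=
  ((bc hab X c).filter fun B => φ ∈ MinIndex.Ab (DY hab X) B).card

open scoped Classical in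
theorem mem_bc (hab : f a b = 1) [Fintype (W2 a b)] {c : F} {y : YT a X} :
    MinIndex.orb (DY hab X) y ∈ bc hab X c ↔ c ∈ EE y := by
  rw [bc, Finset.mem_filter]
  exact ⟨fun h => h.2 y (MinIndex.self_mem_orb _ y), fun h => ⟨(MinIndex.mem_blocks _).2 ⟨y, rfl⟩,
    fun y' hy' => (EE_const hab hy').symm ▸ h⟩⟩

open scoped Classical in
/-- The points with character `c`, counted through the orbits. -/
theorem yc_count (hab : f a b = 1) [Fintype (W2 a b)] (c : F) :
    (Finset.univ.filter fun y : YT a X => c ∈ EE y).card =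
      (bc hab X c).card + ∑ φ ∈ (Finset.univ : Finset (W2 a b)).erase 0, kc hab X c φ := by
  have h1 : (Finset.univ.filter fun y : YT a X => c ∈ EE y).card = ∑ B ∈ bc hab X c, B.card := by
    have hmap : ∀ y ∈ (Finset.univ.filter fun y : YT a X => c ∈ EE y),
        MinIndex.orb (DY hab X) y ∈ bc hab X c :=
      fun y hy => (mem_bc hab).2 (Finset.mem_filter.1 hy).2
    rw [Finset.card_eq_sum_card_fiberwise hmap]
    refine Finset.sum_congr rfl fun B hB => congrArg Finset.card ?_
    obtain ⟨hB1, hB2⟩ := Finset.mem_filter.1 (show B ∈ (MinIndex.blocks (X := YT a X) (DY hab X)).filter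
      fun B => ∀ y ∈ B, c ∈ EE y from hB)
    obtain ⟨z, rfl⟩ := (MinIndex.mem_blocks _).1 hB1
    ext y
    simp only [Finset.mem_filter, Finset.mem_univ, true_and]
    exact ⟨fun h => h.2 ▸ MinIndex.self_mem_orb _ y, fun h => ⟨hB2 y h, MinIndex.orb_eq _ h⟩⟩
  have h2 : ∀ B ∈ bc hab X c, B.card =
      1 + (((Finset.univ : Finset (W2 a b)).erase 0).filter fun φ =>
        φ ∈ MinIndex.Ab (DY hab X) B).card := by
    intro B hB
    have m0 : (0 : W2 a b) ∈ (Finset.univ.filter fun φ : W2 a b => φ ∈ MinIndex.Ab (DY hab X) B) :=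
      Finset.mem_filter.2 ⟨Finset.mem_univ _, (MinIndex.Ab (DY hab X) B).zero_mem⟩
    rw [← MinIndex.card_Ab (DY hab X) (Finset.mem_filter.1 hB).1, Nat.card_eq_fintype_card,
      Fintype.card_subtype, Finset.filter_erase, Finset.card_erase_of_mem m0]
    have : 0 < (Finset.univ.filter fun φ : W2 a b => φ ∈ MinIndex.Ab (DY hab X) B).card :=
      Finset.card_pos.2 ⟨0, Finset.mem_filter.2 ⟨Finset.mem_univ _, (MinIndex.Ab (DY hab X) B).zero_mem⟩⟩
    omega
  rw [h1, Finset.sum_congr rfl h2, Finset.sum_add_distrib, ← Finset.card_eq_sum_ones]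
  simp only [kc, Finset.card_filter]
  rw [Finset.sum_comm]

/-- The permutation of the orbits induced by an element scaling the pair. -/
noncomputable def pg (a : V) (X : Type*) [MulAction (Cfsg.spGL m F) X] [Fintype X] [DecidableEq X]
    {g : Cfsg.spGL m F} {t : F} (ht : t ≠ 0) (hg : g • a = t • a) : Equiv.Perm (YT a X) :=
  MulAction.toPermHom (Par a) (YT a X) ⟨g, mem_Par_of ht hg⟩

/-- The adjoint of such an element on the quotient. -/
noncomputable def tau (g : Cfsg.spGL m F) {t : F} (ht : t ≠ 0) (hga : g • a = t • a)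
    (hgb : g • b = t⁻¹ • b) (φ : W2 a b) : W2 a b :=
  t⁻¹ • ⟨g • (φ : V), lev_mem ht hga hgb φ.2⟩

theorem pg_norm (hab : f a b = 1) [Fintype (W2 a b)] {g : Cfsg.spGL m F} {t : F} (ht : t ≠ 0)
    (hga : g • a = t • a) (hgb : g • b = t⁻¹ • b) :
    MinIndex.Norm (DY hab X) (pg a X ht hga)
      (fun v => t • ⟨g • (v : V), lev_mem ht hga hgb v.2⟩) (tau g ht hga hgb) :=
  lev_norm hab tEl_triv ht hga hgb

theorem pg_smul_bc (hab : f a b = 1) [Fintype (W2 a b)] {g : Cfsg.spGL m F} {t : F} (ht : t ≠ 0)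
    (hga : g • a = t • a) (hgb : g • b = t⁻¹ • b) {c : F} {B : Finset (YT a X)}
    (hB : B ∈ bc hab X c) : pg a X ht hga • B ∈ bc hab X (c / t ^ 2) := by
  classical
  obtain ⟨hB1, hB2⟩ := Finset.mem_filter.1 hB
  refine Finset.mem_filter.2 ⟨MinIndex.smul_mem_blocks _ (pg_norm hab ht hga hgb) hB1, fun y hy => ?_⟩
  obtain ⟨z, hz, rfl⟩ := Finset.mem_smul_finset.1 hy
  exact EE_smul (g := ⟨g, mem_Par_of ht hga⟩) ht hga (hB2 z hz)

theorem kc_le (hab : f a b = 1) [Fintype (W2 a b)] {g : Cfsg.spGL m F} {t : F} (ht : t ≠ 0)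
    (hga : g • a = t • a) (hgb : g • b = t⁻¹ • b) (c : F) (φ : W2 a b) :
    kc hab X c φ ≤ kc hab X (c / t ^ 2) (tau g ht hga hgb φ) := by
  classical
  refine Finset.card_le_card_of_injOn (fun B => pg a X ht hga • B) (fun B hB => ?_)
    fun B _ B' _ h => smul_left_cancel _ h
  obtain ⟨hB, hφ⟩ := Finset.mem_filter.1 hB
  exact Finset.mem_filter.2 ⟨pg_smul_bc hab ht hga hgb hB,
    MinIndex.Ab_smul (DY hab X) (pg_norm hab ht hga hgb) hφ⟩

theorem kc_eq (hab : f a b = 1) [Fintype (W2 a b)] {g : Cfsg.spGL m F} {t : F} (ht : t ≠ 0)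
    (hga : g • a = t • a) (hgb : g • b = t⁻¹ • b) (c : F) (φ : W2 a b) :
    kc hab X (c / t ^ 2) (tau g ht hga hgb φ) = kc hab X c φ := by
  refine le_antisymm ?_ (kc_le hab ht hga hgb c φ)
  have hga' : g⁻¹ • a = t⁻¹ • a := by
    rw [inv_smul_eq_iff, smul_comm, hga, inv_smul_smul₀ ht]
  have hgb' : g⁻¹ • b = t⁻¹⁻¹ • b := by
    rw [inv_inv, inv_smul_eq_iff, smul_comm, hgb, smul_inv_smul₀ ht]
  have h := kc_le (X := X) hab (inv_ne_zero ht) hga' hgb' (c / t ^ 2) (tau g ht hga hgb φ)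
  have e1 : c / t ^ 2 / t⁻¹ ^ 2 = c := by field_simp
  have e2 : tau g⁻¹ (inv_ne_zero ht) hga' hgb' (tau g ht hga hgb φ) = φ := by
    apply Subtype.ext
    simp only [tau, Submodule.coe_smul, smul_comm g⁻¹, smul_smul, inv_inv]
    simp [mul_inv_cancel₀ ht]
  rwa [e1, e2] at h

/-- With a single orbit through `φ`, transport is forced. -/
theorem move_eq (hab : f a b = 1) [Fintype (W2 a b)] {g : Cfsg.spGL m F} {t : F} (ht : t ≠ 0)
    (hga : g • a = t • a) (hgb : g • b = t⁻¹ • b) {c : F} {φ : W2 a b}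
    (hk : kc hab X c φ = 1) {B B' : Finset (YT a X)} (hB : B ∈ bc hab X c)
    (hφ : φ ∈ MinIndex.Ab (DY hab X) B) (hB' : B' ∈ bc hab X (c / t ^ 2))
    (hφ' : tau g ht hga hgb φ ∈ MinIndex.Ab (DY hab X) B') : pg a X ht hga • B = B' := by
  classical
  have h1 : kc hab X (c / t ^ 2) (tau g ht hga hgb φ) = 1 := (kc_eq hab ht hga hgb c φ).trans hk
  obtain ⟨B0, hB0⟩ := Finset.card_eq_one.1 h1
  have e1 : pg a X ht hga • B ∈ ({B0} : Finset _) := hB0 ▸ Finset.mem_filter.2
    ⟨pg_smul_bc hab ht hga hgb hB, MinIndex.Ab_smul (DY hab X) (pg_norm hab ht hga hgb) hφ⟩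
  have e2 : B' ∈ ({B0} : Finset _) := hB0 ▸ Finset.mem_filter.2 ⟨hB', hφ'⟩
  rw [Finset.mem_singleton] at e1 e2
  rw [e1, e2]

/-- A scaling element fixing an orbit has exactly one fixed point there. -/
theorem exists_fixed (hab : f a b = 1) [Fintype (W2 a b)] {g : Cfsg.spGL m F} {t : F} (ht : t ≠ 0)
    (ht1 : t ≠ 1) (hga : g • a = t • a) (hgb : g • b = t⁻¹ • b)
    (hgW : ∀ w ∈ W2 a b, g • w = w) {B : Finset (YT a X)}
    (hB : B ∈ MinIndex.blocks (DY hab X)) (hgB : pg a X ht hga • B = B) :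
    ∃ y0 ∈ B, pg a X ht hga • y0 = y0 ∧ ∀ y ∈ B, pg a X ht hga • y = y → y = y0 := by
  classical
  set D := DY hab X
  set P := pg a X ht hga
  have hne : t - 1 ≠ 0 := sub_ne_zero.2 ht1
  have hsub : ∀ v : W2 a b, (t - 1) • v = t • v - v := fun v => Subtype.ext (by
    show (t - 1) • (v : V) = t • (v : V) - (v : V)
    rw [sub_smul, one_smul])
  have hconj : ∀ (v : W2 a b) (y : YT a X), P • D.e v • y = D.e (t • v) • P • y := by
    intro v y
    have h : P * D.e v * P⁻¹ = D.e (t • ⟨g • (v : V), lev_mem ht hga hgb v.2⟩) :=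
      (pg_norm hab ht hga hgb).conj v
    rw [show (⟨g • (v : V), lev_mem ht hga hgb v.2⟩ : W2 a b) = v from Subtype.ext (hgW v v.2)] at h
    rw [← h, ← mul_smul, ← mul_smul]
    simp
  obtain ⟨y, rfl⟩ := (MinIndex.mem_blocks _).1 hB
  have hmap : ∀ z ∈ MinIndex.orb D y, P • z ∈ MinIndex.orb D y := fun z hz => by
    rw [← hgB]; exact Finset.smul_mem_smul_finset hz
  set R := MinIndex.stabW D y with hR
  have hRt : ∀ r ∈ R, t • r ∈ R := by
    intro r hr
    have h1 := congrArg (P • ·) ((MinIndex.mem_stabW D).1 hr)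
    simp only [hconj] at h1
    rw [hR, ← MinIndex.stabW_eq D (hmap y (MinIndex.self_mem_orb D y))]
    exact (MinIndex.mem_stabW D).2 h1
  obtain ⟨v0, hv0⟩ := (MinIndex.mem_orb D).1 (hmap y (MinIndex.self_mem_orb D y))
  have hfix : ∀ v : W2 a b, P • D.e v • y = D.e v • y ↔ (t - 1) • v + v0 ∈ R := by
    intro v
    rw [hconj, ← hv0, ← mul_smul, ← D.add, hR, MinIndex.mem_stabW]
    constructor
    · intro h
      have h' := congrArg (D.e (-v) • ·) h
      simp only [← mul_smul, ← D.add, neg_add_cancel, D.zero, one_smul] at h'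
      rw [hsub, sub_eq_add_neg, add_comm (t • v) (-v), add_assoc]
      exact h'
    · intro h
      have h' := congrArg (D.e v • ·) h
      simp only [← mul_smul, ← D.add] at h'
      rw [hsub, ← add_assoc, add_sub_cancel] at h'
      exact h'
  have hw : (t - 1) • (-((t - 1)⁻¹ • v0)) + v0 = 0 := by
    rw [smul_neg, smul_inv_smul₀ hne, neg_add_cancel]
  refine ⟨D.e (-((t - 1)⁻¹ • v0)) • y, (MinIndex.mem_orb D).2 ⟨_, rfl⟩,
    (hfix _).2 (hw ▸ R.zero_mem), fun z hz hzf => ?_⟩
  obtain ⟨v, rfl⟩ := (MinIndex.mem_orb D).1 hz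
  have hv := (hfix v).1 hzf
  set d := v + (t - 1)⁻¹ • v0 with hd
  have hd' : (t - 1) • d ∈ R := by rw [hd, smul_add, smul_inv_smul₀ hne]; exact hv
  -- multiplication by `t - 1` is bijective on `R`
  haveI : Finite R := Finite.of_injective _ Subtype.val_injective
  let μ : R → R := fun r => ⟨(t - 1) • (r : W2 a b), by
    rw [hsub]; exact R.sub_mem (hRt r r.2) r.2⟩
  have hμ : Function.Injective μ := fun r r' h =>
    Subtype.ext (smul_right_injective _ hne (congrArg Subtype.val h))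
  obtain ⟨r, hr⟩ := (Finite.injective_iff_surjective.1 hμ) ⟨_, hd'⟩
  have hrd : (r : W2 a b) = d := smul_right_injective _ hne (congrArg Subtype.val hr)
  have hdR : d ∈ R := hrd ▸ r.2
  rw [show v = -((t - 1)⁻¹ • v0) + d by rw [hd]; abel, D.add, mul_smul,
    (MinIndex.mem_stabW D).1 hdR]

/-- What commutes with it fixes that point. -/
theorem commute_fixed {P Q : Equiv.Perm (YT a X)} (hPQ : P * Q = Q * P) {B : Finset (YT a X)}
    (hQB : Q • B = B) {y0 : YT a X} (hy : y0 ∈ B) (hP : P • y0 = y0)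
    (huniq : ∀ y ∈ B, P • y = y → y = y0) : Q • y0 = y0 := by
  refine huniq _ (hQB ▸ Finset.smul_mem_smul_finset hy) ?_
  rw [← mul_smul, hPQ, mul_smul, hP]

theorem pg_mul_comm {g h : Cfsg.spGL m F} {t s : F} (ht : t ≠ 0) (hs : s ≠ 0)
    (hg : g • a = t • a) (hh : h • a = s • a) (hc : g * h = h * g) :
    pg a X ht hg * pg a X hs hh = pg a X hs hh * pg a X ht hg := by
  rw [pg, pg, ← map_mul, ← map_mul]
  exact congrArg _ (Subtype.ext hc)

theorem pg_fix_point {g : Cfsg.spGL m F} {t : F} (ht : t ≠ 0) (hg : g • a = t • a) {x : X}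
    (h : pg a X ht hg • yOf a x = yOf a x) : ∃ r : F, g • x = Linear.spTv a r • x :=
  (fixed_yOf_iff ⟨g, mem_Par_of ht hg⟩ x).1 h

/-- Commutators of elements centralising the root group and fixing an orbit fix its points. -/
theorem comm_fix {g h : Cfsg.spGL m F} (hg : g • a = a) (hh : h • a = a) {x : X} {r s : F}
    (hgx : g • x = Linear.spTv a r • x) (hhx : h • x = Linear.spTv a s • x) :
    (g * h * g⁻¹ * h⁻¹) • x = x := by
  have key : ∀ (k : Cfsg.spGL m F) (p : F), k • a = a → k • x = Linear.spTv a p • x →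
      ∀ u : F, k • Linear.spTv a u • x = Linear.spTv a (u + p) • x := fun k p hk hkx u => by
    rw [← mul_smul, spTv_comm_of_fix hk, mul_smul, hkx, ← mul_smul, ← Linear.spTv_add]
  have kinv : ∀ (k : Cfsg.spGL m F) (p : F), k • a = a → k • x = Linear.spTv a p • x →
      k⁻¹ • a = a ∧ k⁻¹ • x = Linear.spTv a (-p) • x := fun k p hk hkx => by
    refine ⟨by rw [inv_smul_eq_iff, hk], ?_⟩
    rw [inv_smul_eq_iff, key k p hk hkx, neg_add_cancel, Linear.spTv_zero, one_smul]
  obtain ⟨g1, g2⟩ := kinv g r hg hgx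
  obtain ⟨h1, h2⟩ := kinv h s hh hhx
  rw [mul_smul, mul_smul, mul_smul, h2, key _ _ g1 g2, key _ _ hh hhx, key _ _ hg hgx,
    show -s + -r + s + r = (0 : F) by ring, Linear.spTv_zero, one_smul]

/-- An element commuting with a scaling element, both fixing an orbit, fixes its points. -/
theorem scale_fix {g h : Cfsg.spGL m F} {t : F} (ht : t ≠ 0) (ht2 : t ^ 2 ≠ 1) (hg : g • a = a)
    (hh : h • a = t • a) (hc : h * g = g * h) {x : X} {δ r : F}
    (hgx : g • x = Linear.spTv a δ • x) (hhx : h • x = Linear.spTv a r • x) : g • x = x := by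
  have hconj : ∀ (s : F) (y : X), h • Linear.spTv a s • y = Linear.spTv a (t ^ 2 * s) • h • y := by
    intro s y
    rw [← Linear.spTv_smul_vec, ← hh, ← Linear.spTv_conj, mul_smul, mul_smul, inv_smul_smul]
  set Z := MinIndex.stabW (tAct a) x with hZ
  have mZ : ∀ {s : F}, s ∈ Z ↔ Linear.spTv a s • x = x := Iff.rfl
  have h1 : (t ^ 2 - 1) * δ ∈ Z := by
    have e1 : (h * g) • x = Linear.spTv a (t ^ 2 * δ + r) • x := by
      rw [mul_smul, hgx, hconj, hhx, ← mul_smul, ← Linear.spTv_add]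
    have e2 : (g * h) • x = Linear.spTv a (r + δ) • x := by
      rw [mul_smul, hhx, ← mul_smul, spTv_comm_of_fix hg, mul_smul, hgx, ← mul_smul,
        ← Linear.spTv_add]
    rw [hc, e2] at e1
    have e3 := congrArg (Linear.spTv a (-(r + δ)) • ·) e1
    simp only [← mul_smul, ← Linear.spTv_add, neg_add_cancel, Linear.spTv_zero, one_smul] at e3
    rw [mZ]
    convert e3.symm using 3
    ring
  have hinv : ∀ s ∈ Z, t ^ 2 * s ∈ Z := by
    intro s hs
    have e := congrArg (h • ·) (mZ.1 hs)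
    simp only [hconj, hhx] at e
    rw [← mul_smul, ← Linear.spTv_add, add_comm, Linear.spTv_add, mul_smul] at e
    exact mZ.2 (smul_left_cancel _ e)
  haveI : Finite Z := Finite.of_injective _ Subtype.val_injective
  let μ : Z → Z := fun s => ⟨(t ^ 2 - 1) * (s : F), by
    rw [sub_mul, one_mul]; exact Z.sub_mem (hinv s s.2) s.2⟩
  have hμ : Function.Injective μ := fun s s' h =>
    Subtype.ext (mul_left_cancel₀ (sub_ne_zero.2 ht2) (congrArg Subtype.val h))
  obtain ⟨s, hs⟩ := (Finite.injective_iff_surjective.1 hμ) ⟨_, h1⟩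
  have hsd : (s : F) = δ := mul_left_cancel₀ (sub_ne_zero.2 ht2) (congrArg Subtype.val hs)
  rw [hgx]
  exact mZ.1 (hsd ▸ s.2)

end Cfsg.Agent.MinIndexSp.Psp
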