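import Cfsg.Agent.Lib.Linear.Symplectic

/-!
# From the symplectic group to the projective symplectic group

* `center_smul` : central elements map every vector to a multiple of itself
* `psp_of_spGL` : a minimal index passes to the quotient
-/

set_option autoImplicit false

namespace Cfsg.Agent.MinIndexSp

open Cfsg Cfsg.Agent

variable {m : ℕ} {F : Type*} [Field F]

local notation "V" => (Fin m ⊕ Fin m → F)
local notation "f" => Cfsg.sympForm m F

theorem center_smul {g : Cfsg.spGL m F} (hg : g ∈ Subgroup.center (Cfsg.spGL m F)) (v : V) :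
    ∃ c : F, g • v = c • v := by
  by_cases hv : v = 0
  · exact ⟨0, by simp [hv]⟩
  have hv' : g • v ≠ 0 := fun h => hv (by simpa using congrArg (g⁻¹ • ·) h)
  obtain ⟨x, hx⟩ := Linear.exists_sympForm_ne_zero hv'
  have e : Linear.spTv (g • v) (1 : F) = Linear.spTv v 1 := by
    rw [← Linear.spTv_conj, ← Subgroup.mem_center_iff.1 hg, mul_inv_cancel_right]
  have hx' : f x (g • v) ≠ 0 := by rwa [Linear.sympForm_swap, neg_ne_zero]
  have h2 := congrArg (· • x) e
  simp only [Linear.spTv_smul, one_mul, add_right_inj] at h2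
  exact ⟨(f x (g • v))⁻¹ * f x v, by rw [mul_smul, ← h2, inv_smul_smul₀ hx']⟩

theorem psp_of_spGL {N : ℕ} (hge : ∀ K : Subgroup (Cfsg.spGL m F), K ≠ ⊤ → N ≤ K.index)
    (K0 : Subgroup (Cfsg.spGL m F)) (hc : Subgroup.center (Cfsg.spGL m F) ≤ K0)
    (hK0 : K0.index = N) :
    (∀ H : Subgroup (Cfsg.PSp m F), H ≠ ⊤ → N ≤ H.index) ∧
      ∃ H : Subgroup (Cfsg.PSp m F), H.index = N := by
  set π : Cfsg.spGL m F →* Cfsg.PSp m F :=
    (QuotientGroup.mk' _).comp (Linear.spEquiv m F).symm.toMonoidHom with hπd
  have hπ : Function.Surjective π :=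
    (QuotientGroup.mk'_surjective _).comp (Linear.spEquiv m F).symm.surjective
  refine ⟨fun K hK => ?_, K0.map π, ?_⟩
  · rw [← Subgroup.index_comap_of_surjective K hπ]
    exact hge _ fun h => hK (by
      rw [← Subgroup.map_comap_eq_self_of_surjective hπ K, h, Subgroup.map_top_of_surjective π hπ])
  · rw [Subgroup.index_map_eq _ hπ, hK0]
    intro g hg
    refine hc (Subgroup.mem_center_iff.2 fun z => ?_)
    have hg' : (Linear.spEquiv m F).symm g ∈ Subgroup.center (Matrix.symplecticGroup (Fin m) F) := by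
      have : π g = 1 := hg
      rwa [hπd, MonoidHom.comp_apply, QuotientGroup.mk'_apply, QuotientGroup.eq_one_iff] at this
    apply (Linear.spEquiv m F).symm.injective
    rw [map_mul, map_mul]
    exact Subgroup.mem_center_iff.1 hg' _

end Cfsg.Agent.MinIndexSp
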