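import Cfsg.Agent.Lib.MinIndexSp.PspOdd
import Cfsg.Agent.Lib.MinIndexSp.PspEven
import Cfsg.Agent.Lib.MinIndexSp.Transfer

/-!
# The minimal index of `Sp_2m(q)`, `q ≥ 3`

* `index_lower` : the lower bound
* `exists_point_stab` : the stabiliser of a point attains it
-/

set_option autoImplicit false
set_option linter.unusedSectionVars false
set_option linter.style.haveILetI false

namespace Cfsg.Agent.MinIndexSp.Psp

open Cfsg Cfsg.Agent Module MulAction
open scoped LinearAlgebra.Projectivization

variable {m : ℕ} {F : Type*} [Field F] [Fintype F]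

local notation "V" => (Fin m ⊕ Fin m → F)
local notation "f" => Cfsg.sympForm m F

theorem small_false {X : Type*} [MulAction (Cfsg.spGL m F) X] [Fintype X] [Nontrivial X]
    [MulAction.IsPretransitive (Cfsg.spGL m F) X] (hm : 2 ≤ m) (hq : 3 ≤ Fintype.card F)
    (hexc : ¬ (m = 2 ∧ Fintype.card F = 3)) : ¬ Small m F X := by
  classical
  intro hs
  have ha : (Pi.single (.inl ⟨0, by omega⟩) 1 : V) ≠ 0 := by simp
  obtain ⟨b, hab⟩ := exists_dual ha
  haveI : Fintype (W2 (Pi.single (.inl ⟨0, by omega⟩) 1 : V) b) := Fintype.ofFinite _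
  have hF : Free m F X := fun v hv x => no_root_fix hm hq hs hv x
  by_cases h2 : (2 : F) = 0
  · have hq4 : 4 ≤ Fintype.card F := by
      by_contra! h
      have h3 : Fintype.card F = 3 := by omega
      have := FiniteField.cast_card_eq_zero F
      rw [h3] at this
      push_cast at this
      exact one_ne_zero (show (1 : F) = 0 by linear_combination this - h2)
    exact even_false hab hF h2 hm hq4 hs
  · exact odd_false hab hF h2 hm (fun h3 => by
      by_contra! h
      exact hexc ⟨by omega, h3⟩) hq hs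

theorem index_lower (hm : 2 ≤ m) (hq : 3 ≤ Fintype.card F)
    (hexc : ¬ (m = 2 ∧ Fintype.card F = 3)) (K : Subgroup (Cfsg.spGL m F)) (hK : K ≠ ⊤) :
    (Fintype.card F ^ (2 * m) - 1) / (Fintype.card F - 1) ≤ K.index := by
  classical
  haveI := Fintype.ofFinite (Cfsg.spGL m F ⧸ K)
  haveI : Nontrivial (Cfsg.spGL m F ⧸ K) := by
    rw [← Finite.one_lt_card_iff_nontrivial, ← Subgroup.index_eq_card]
    have h0 : K.index ≠ 0 := Subgroup.index_ne_zero_of_finite
    have h1 : K.index ≠ 1 := fun h => hK (Subgroup.index_eq_one.1 h)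
    omega
  have h := small_false (X := Cfsg.spGL m F ⧸ K) hm hq hexc
  rw [Small, not_lt, ← Nat.card_eq_fintype_card (α := Cfsg.spGL m F ⧸ K), ← Subgroup.index_eq_card] at h
  refine Nat.div_le_of_le_mul ?_
  rw [mul_comm (Fintype.card F - 1)]
  omega

theorem exists_point_stab (hm : 1 ≤ m) : ∃ K : Subgroup (Cfsg.spGL m F),
    Subgroup.center (Cfsg.spGL m F) ≤ K ∧
      K.index = (Fintype.card F ^ (2 * m) - 1) / (Fintype.card F - 1) := by
  haveI := Linear.isPretransitive_spGL (m := m) (F := F)
  set v : V := Pi.single (.inl ⟨0, hm⟩) 1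
  have hv : v ≠ 0 := by simp [v]
  refine ⟨MulAction.stabilizer (Cfsg.spGL m F) (Projectivization.mk F v hv), fun g hg => ?_, ?_⟩
  · obtain ⟨c, hc⟩ := center_smul hg v
    rw [MulAction.mem_stabilizer_iff, Linear.spGL_smul_mk _ hv, Projectivization.mk_eq_mk_iff']
    exact ⟨c, hc.symm⟩
  · rw [MulAction.index_stabilizer_of_transitive, Projectivization.card'',
      Nat.card_eq_fintype_card (α := V), card_V, Nat.card_eq_fintype_card (α := F)]

end Cfsg.Agent.MinIndexSp.Psp
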