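import Cfsg.Agent.Lib.Linear.Symplectic
import Cfsg.Agent.Lib.MinIndex.Blocks
import Cfsg.Agent.Lib.MinIndex.SmallSetup

/-!
# The symplectic group over the field with two elements: tools

* `tt`, `cr` : a transvection and the element `x ↦ x + f(x,a)w + f(x,w)a`
* `W2`, `wp` : the orthogonal of a pair and the projection to it
* `quad_count` : a quadratic function on a non-degenerate space of size `D²` has at least
  `(D² - D) / 2` zeros
-/

set_option autoImplicit false
set_option linter.unusedSectionVars false
set_option linter.style.haveILetI false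

namespace Cfsg.Agent.MinIndexSp.Two

open Cfsg Cfsg.Agent Module MulAction

variable {m : ℕ} {F : Type*} [Field F] [Fintype F]

local notation "V" => (Fin m ⊕ Fin m → F)
local notation "f" => Cfsg.sympForm m F

/-- The transvection at a vector. -/
noncomputable def tt (v : V) : Cfsg.spGL m F := Linear.spTv v 1

/-- `x ↦ x + f(x,a) w + f(x,w) a` for orthogonal `a, w`. -/
noncomputable def cr (a w : V) : Cfsg.spGL m F := tt (a + w) * (tt a * tt w)

theorem tt_smul (v x : V) : tt v • x = x + f x v • v := by rw [tt, Linear.spTv_smul, one_mul]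

theorem tt_conj (g : Cfsg.spGL m F) (v : V) : g * tt v * g⁻¹ = tt (g • v) := Linear.spTv_conj g v 1

theorem cr_conj (g : Cfsg.spGL m F) (a w : V) : g * cr a w * g⁻¹ = cr (g • a) (g • w) := by
  rw [cr, cr, ← smul_add, ← tt_conj, ← tt_conj, ← tt_conj]; group

theorem two_eq_zero (hq : Fintype.card F = 2) : (2 : F) = 0 := by
  haveI := MinIndex.char_small hq Nat.prime_two
  exact_mod_cast CharP.cast_eq_zero F 2

theorem bit (hq : Fintype.card F = 2) (c : F) : c = 0 ∨ c = 1 := by
  haveI := MinIndex.char_small hq Nat.prime_two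
  rcases MinIndex.prime_small (.inl hq) c with h | h | h
  · exact .inl h
  · exact .inr h
  · exact .inr (h.trans (CharTwo.neg_eq 1))

theorem add_self_v (hq : Fintype.card F = 2) (v : V) : v + v = 0 := by
  rw [← two_smul F, two_eq_zero hq, zero_smul]

theorem f_symm (hq : Fintype.card F = 2) (u v : V) : f u v = f v u := by
  rw [Linear.sympForm_swap]
  linear_combination -(f v u) * two_eq_zero hq

theorem tt_sq (hq : Fintype.card F = 2) (v : V) : tt v * tt v = 1 := by
  rw [tt, ← Linear.spTv_add, show (1 : F) + 1 = 2 by norm_num, two_eq_zero hq, Linear.spTv_zero]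

theorem tt_inv (hq : Fintype.card F = 2) (v : V) : (tt v)⁻¹ = tt v :=
  inv_eq_of_mul_eq_one_right (tt_sq hq v)

theorem cr_smul (hq : Fintype.card F = 2) {a w : V} (h : f a w = 0) (x : V) :
    cr a w • x = x + f x a • w + f x w • a := by
  have hwa : f w a = 0 := by rw [f_symm hq, h]
  simp only [cr, mul_smul, tt_smul, Linear.sympForm_add_left, Linear.sympForm_smul_left,
    Linear.sympForm_add_right, Linear.sympForm_self, h, hwa, mul_zero, add_zero]
  have e : (2 : F) • (f x a • a + f x w • w) = 0 := by rw [two_eq_zero hq, zero_smul]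
  linear_combination (norm := module) e

theorem cr_comm (hq : Fintype.card F = 2) {a w : V} (h : f a w = 0) : cr a w = cr w a := by
  refine Linear.spGL_ext fun x => ?_
  rw [cr_smul hq h, cr_smul hq (by rw [f_symm hq, h])]
  abel

theorem cr_zero (hq : Fintype.card F = 2) (a : V) : cr a (0 : V) = 1 :=
  Linear.spGL_ext fun x => by simp [cr_smul hq]

theorem cr_self (hq : Fintype.card F = 2) (a : V) : cr a a = 1 :=
  Linear.spGL_ext fun x => by
    rw [cr_smul hq (Linear.sympForm_self a), one_smul, add_assoc, add_self_v hq, add_zero]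

theorem cr_add_self (hq : Fintype.card F = 2) {a w : V} (h : f a w = 0) (c : F) :
    cr a (w + c • a) = cr a w := by
  refine Linear.spGL_ext fun x => ?_
  have h' : f a (w + c • a) = 0 := by simp [h]
  rw [cr_smul hq h, cr_smul hq h', Linear.sympForm_add_right, Linear.sympForm_smul_right]
  have e : (2 : F) • ((c * f x a) • a) = 0 := by rw [two_eq_zero hq, zero_smul]
  linear_combination (norm := module) e

theorem cr_mul (hq : Fintype.card F = 2) {a w w' : V} (h : f a w = 0) (h' : f a w' = 0) :
    cr a w * cr a w' = cr a (w + w') * Linear.spTv a (f w w') := by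
  refine Linear.spGL_ext fun x => ?_
  have hwa : f w a = 0 := by rw [f_symm hq, h]
  have hw'a : f w' a = 0 := by rw [f_symm hq, h']
  simp only [mul_smul, cr_smul hq h, cr_smul hq h', cr_smul hq (show f a (w + w') = 0 by simp [h, h']),
    Linear.spTv_smul, Linear.sympForm_add_left, Linear.sympForm_smul_left,
    Linear.sympForm_add_right, Linear.sympForm_self, h, h', hw'a, f_symm hq w' w]
  match_scalars <;> ring

theorem tt_cr_comm (hq : Fintype.card F = 2) {a w : V} (h : f a w = 0) :
    cr a w * tt a = tt a * cr a w := by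
  have e := tt_conj (cr a w) a
  rw [cr_smul hq h, Linear.sympForm_self, h, zero_smul, zero_smul, add_zero, add_zero] at e
  exact mul_inv_eq_iff_eq_mul.1 e

/-- The product of the transvections at the other two points of the line of `a, w`. -/
theorem tt_pair (hq : Fintype.card F = 2) {a w : V} (h : f a w = 0) :
    tt (a + w) * tt w = tt a * cr a w := by
  refine Linear.spGL_ext fun x => ?_
  have hwa : f w a = 0 := by rw [f_symm hq, h]
  rw [mul_smul, mul_smul, cr_smul hq h, tt_smul, tt_smul, tt_smul]
  simp only [Linear.sympForm_add_left, Linear.sympForm_smul_left, Linear.sympForm_add_right,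
    Linear.sympForm_self, hwa, mul_zero, add_zero]
  have e : (2 : F) • (f x w • w) = 0 := by rw [two_eq_zero hq, zero_smul]
  linear_combination (norm := module) e

/-- The orthogonal of a pair. -/
def W2 (a b : V) : Submodule F V where
  carrier := {w | f a w = 0 ∧ f b w = 0}
  add_mem' := fun {x y} hx hy => ⟨by simp [hx.1, hy.1], by simp [hx.2, hy.2]⟩
  zero_mem' := by simp
  smul_mem' := fun c x hx => ⟨by simp [hx.1], by simp [hx.2]⟩

theorem mem_W2 {a b w : V} : w ∈ W2 a b ↔ f a w = 0 ∧ f b w = 0 := Iff.rfl

/-- The projection to the orthogonal of a pair. -/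
def wp (a b v : V) : V := v + f b v • a + f a v • b

theorem wp_mem (hq : Fintype.card F = 2) {a b : V} (hab : f a b = 1) (v : V) :
    wp a b v ∈ W2 a b := by
  have hba : f b a = 1 := by rw [f_symm hq, hab]
  have h2 := two_eq_zero hq
  refine ⟨?_, ?_⟩
  · simp [wp, hab]
    linear_combination (f a v) * h2
  · simp [wp, hba]
    linear_combination (f b v) * h2

theorem wp_perp (hq : Fintype.card F = 2) {a b v : V} (h : f a v = 0) :
    v = wp a b v + f b v • a := by
  rw [wp, h, zero_smul, add_zero, add_assoc, add_self_v hq, add_zero]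

theorem W2_nd (hq : Fintype.card F = 2) {a b : V} (hab : f a b = 1) :
    ∀ w ∈ W2 a b, w ≠ 0 → ∃ y ∈ W2 a b, f w y ≠ 0 := by
  intro w hw hw0
  obtain ⟨y, hy⟩ := Linear.exists_sympForm_ne_zero hw0
  refine ⟨wp a b y, wp_mem hq hab y, ?_⟩
  rw [wp, Linear.sympForm_add_right, Linear.sympForm_add_right, Linear.sympForm_smul_right,
    Linear.sympForm_smul_right, f_symm hq w a, f_symm hq w b, hw.1, hw.2, mul_zero, mul_zero,
    add_zero, add_zero]
  exact hy

theorem card_W2 (hq : Fintype.card F = 2) {a b : V} (hab : f a b = 1) :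
    4 * Nat.card (W2 a b) = 2 ^ (2 * m) := by
  have hba : f b a = 1 := by rw [f_symm hq, hab]
  let e : V ≃ (F × F) × W2 a b :=
    { toFun := fun v => ((f b v, f a v), ⟨wp a b v, wp_mem hq hab v⟩)
      invFun := fun p => p.2.1 + p.1.1 • a + p.1.2 • b
      left_inv := fun v => by
        show wp a b v + f b v • a + f a v • b = v
        rw [wp]
        have e : (2 : F) • (f b v • a + f a v • b) = 0 := by rw [two_eq_zero hq, zero_smul]
        linear_combination (norm := module) e
      right_inv := fun p => by
        obtain ⟨⟨α, β⟩, w, hw⟩ := p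
        obtain ⟨h1, h2⟩ := hw
        refine Prod.ext (Prod.ext ?_ ?_) (Subtype.ext ?_)
        · simp [h2, hba]
        · simp [h1, hab]
        · show wp a b (w + α • a + β • b) = w
          simp only [wp, Linear.sympForm_add_right, Linear.sympForm_smul_right, h1, h2, hab, hba,
            Linear.sympForm_self, mul_zero, mul_one, zero_add, add_zero]
          have e : (2 : F) • (α • a + β • b) = 0 := by rw [two_eq_zero hq, zero_smul]
          linear_combination (norm := module) e }
  have := Nat.card_congr e
  rw [Nat.card_prod, Nat.card_prod, Nat.card_fun, Nat.card_eq_fintype_card (α := F), hq,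
    Nat.card_sum, Nat.card_fin, ← two_mul] at this
  rw [this]

theorem exists_dual (hq : Fintype.card F = 2) {a : V} (ha : a ≠ 0) : ∃ b : V, f a b = 1 := by
  obtain ⟨b, hb⟩ := Linear.exists_sympForm_ne_zero ha
  exact ⟨b, (bit hq _).resolve_left hb⟩

theorem card_W2_eq (hq : Fintype.card F = 2) {a b : V} (hab : f a b = 1) {k : ℕ} (hk : m = k + 1) :
    Nat.card (W2 a b) = 2 ^ k * 2 ^ k := by
  have := card_W2 hq hab
  have e : 2 ^ (2 * m) = 2 ^ k * 2 ^ k * 4 := by rw [hk]; ring
  omega

open scoped Classical in
/-- Zeros of a quadratic function. -/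
theorem quad_count (hq : Fintype.card F = 2) {U : Submodule F V} [Fintype U]
    (hnd : ∀ w ∈ U, w ≠ 0 → ∃ y ∈ U, f w y ≠ 0) (κ : U → F)
    (hκ : ∀ w w' : U, κ (w + w') = κ w + κ w' + f (w : V) w') {u : ℕ} (hu : Fintype.card U = u * u) :
    ∃ s : ℤ, (s = u ∨ s = -(u : ℤ)) ∧ s = ∑ w, (if κ w = 0 then 1 else -1 : ℤ) ∧
      2 * ((Finset.univ.filter fun w : U => κ w = 0).card : ℤ) = u * u + s := by
  set χ : F → ℤ := fun c => if c = 0 then 1 else -1 with hχ
  have hm : ∀ c d : F, χ (c + d) = χ c * χ d := by
    intro c d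
    rcases bit hq c with rfl | rfl <;> rcases bit hq d with rfl | rfl <;>
      simp [hχ, show (1 : F) + 1 = 0 by linear_combination two_eq_zero hq]
  set S : ℤ := ∑ w, χ (κ w) with hS
  have hsum : ∀ v : U, ∑ w : U, χ (f (w : V) v) = if v = 0 then (u * u : ℤ) else 0 := by
    intro v
    split_ifs with hv
    · simp [hv, hχ, hu]
    · obtain ⟨y, hy, hvy⟩ := hnd v v.2 (fun h => hv (Subtype.ext h))
      have h1 : f y (v : V) = 1 := by rw [f_symm hq]; exact (bit hq _).resolve_left hvy
      have h2 : ∑ w : U, χ (f (w : V) v) = - ∑ w : U, χ (f (w : V) v) := by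
        conv_lhs => rw [← Equiv.sum_comp (Equiv.addRight (⟨y, hy⟩ : U))]
        rw [← Finset.sum_neg_distrib]
        refine Finset.sum_congr rfl fun w _ => ?_
        rw [Equiv.coe_addRight, Submodule.coe_add, Linear.sympForm_add_left, hm, h1]
        simp [hχ]
      linarith
  have hSS : S * S = (u * u : ℤ) := by
    have h : S * S = ∑ v : U, χ (κ v) * ∑ w : U, χ (f (w : V) v) := by
      rw [hS, Finset.sum_mul_sum]
      have : ∀ w : U, ∑ w' : U, χ (κ w) * χ (κ w') = ∑ v : U, χ (κ v) * χ (f (w : V) v) := by
        intro w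
        conv_lhs => rw [← Equiv.sum_comp (Equiv.addLeft w)]
        refine Finset.sum_congr rfl fun v _ => ?_
        rw [Equiv.coe_addLeft, hκ, hm, hm, ← mul_assoc, ← mul_assoc]
        rw [show χ (κ w) * χ (κ w) = 1 by simp [hχ]; split_ifs <;> norm_num, one_mul]
      rw [Finset.sum_congr rfl fun w _ => this w, Finset.sum_comm]
      exact Finset.sum_congr rfl fun v _ => (Finset.mul_sum _ _ _).symm
    rw [h, Finset.sum_eq_single (0 : U)]
    · rw [hsum, if_pos rfl]
      have h0 : κ 0 = 0 := by
        have := hκ 0 0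
        simpa using this
      simp [hχ, h0]
    · intro v _ hv; rw [hsum, if_neg hv, mul_zero]
    · exact fun h => absurd (Finset.mem_univ _) h
  refine ⟨S, ?_, rfl, ?_⟩
  · rcases mul_self_eq_mul_self_iff.1 hSS with h | h <;> simp [h]
  · have : S = 2 * ((Finset.univ.filter fun w : U => κ w = 0).card : ℤ) - u * u := by
      rw [hS, Finset.card_filter]
      push_cast
      rw [Finset.mul_sum, ← Nat.cast_mul, ← hu, Fintype.card, Finset.card_eq_sum_ones]
      push_cast
      rw [← Finset.sum_sub_distrib]
      refine Finset.sum_congr rfl fun w _ => ?_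
      simp only [hχ]
      split_ifs <;> norm_num
    linarith

end Cfsg.Agent.MinIndexSp.Two
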