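import Cfsg.Agent.Lib.MinIndexSp.TwoMove

/-!
# Small actions of `Sp_2m(2)`: there are none

`tau x v = tt v • x`; its fibres on the non-zero vectors are too large for three of them.

* `tau_ne`, `tau_eq` : the bit of a pair decides whether its line meets one fibre or three
* `exists_mate` : every fibre has a non-orthogonal pair
* `fibre_large`, `small_false`, `index_lower`
-/

set_option autoImplicit false
set_option linter.unusedSectionVars false
set_option linter.style.haveILetI false

namespace Cfsg.Agent.MinIndexSp.Two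

open Cfsg Cfsg.Agent Module MulAction

variable {m : ℕ} {F : Type*} [Field F] [Fintype F]
variable {X : Type*} [MulAction (Cfsg.spGL m F) X] [Fintype X]

local notation "V" => (Fin m ⊕ Fin m → F)
local notation "f" => Cfsg.sympForm m F

/-- All the standing properties of a small action. -/
structure Moving (m : ℕ) (F : Type*) [Field F] (X : Type*) [MulAction (Cfsg.spGL m F) X] : Prop where
  moves : ∀ (v : Fin m ⊕ Fin m → F), v ≠ 0 → ∀ y : X, tt v • y ≠ y
  pair : ∀ (v w : Fin m ⊕ Fin m → F), v ≠ 0 → Cfsg.sympForm m F v w = 0 →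
    ∀ y : X, cr v w • y = y ∨ cr v w • y = tt v • y

/-- The image of a point under a transvection. -/
noncomputable def tau (x : X) (v : V) : X := tt v • x

theorem tau_smul {x : X} {g : Cfsg.spGL m F} (hg : g • x = x) (v : V) :
    g • tau x v = tau x (g • v) := by
  rw [tau, tau, ← tt_conj, mul_smul, mul_smul, inv_smul_eq_iff.2 hg.symm]

theorem kap_spec' (M : Moving m F X) {v w : V} (hv : v ≠ 0) (h : f v w = 0) (x : X) :
    cr v w • x = Linear.spTv v (kap v x w) • x :=
  kap_spec (M.pair v w hv h x)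

theorem tau_ne (hq : Fintype.card F = 2) (M : Moving m F X) {u v : V} (hu : u ≠ 0)
    (h : f u v = 0) {x : X} (hk : cr u v • x = x) : tau x (u + v) ≠ tau x v := by
  intro e
  have e1 : (tt (u + v) * tt v) • x = x := by
    rw [mul_smul, show tt v • x = tt (u + v) • x from e.symm, ← mul_smul, tt_sq hq, one_smul]
  rw [tt_pair hq h, mul_smul, hk] at e1
  exact M.moves u hu x e1

theorem tau_eq (hq : Fintype.card F = 2) {u v : V} (h : f u v = 0) {x : X}
    (hk : cr u v • x = tt u • x) : tau x (u + v) = tau x v := by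
  have e1 : (tt (u + v) * tt v) • x = x := by
    rw [tt_pair hq h, mul_smul, hk, ← mul_smul, tt_sq hq, one_smul]
  have e2 := congrArg (tt (u + v) • ·) e1
  simp only [← mul_smul, ← mul_assoc, tt_sq hq, one_mul] at e2
  exact e2.symm

theorem kap_one_symm (hq : Fintype.card F = 2) (M : Moving m F X) {a c : V} (ha : a ≠ 0)
    (hc : c ≠ 0) (h : f a c = 0) {x : X} (hk : kap a x c = 1) :
    tau x (a + c) = tau x c ∧ tau x (a + c) = tau x a := by
  have e : cr a c • x = tt a • x := by
    rw [kap_spec' M ha h, hk]; rfl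
  refine ⟨tau_eq hq h e, ?_⟩
  have h' : f c a = 0 := by rw [f_symm hq, h]
  rw [add_comm]
  refine tau_eq hq h' ((M.pair c a hc h' x).resolve_left fun e' => ?_)
  rw [← cr_comm hq h, e] at e'
  exact M.moves a ha x e'

theorem kap_zero_symm (hq : Fintype.card F = 2) (M : Moving m F X) {a c : V} (ha : a ≠ 0)
    (hc : c ≠ 0) (hac : a + c ≠ 0) (h : f a c = 0) {x : X} (hk : cr a c • x = x) :
    tau x (a + c) ≠ tau x c ∧ tau x (a + c) ≠ tau x a ∧ tau x a ≠ tau x c := by
  have h' : f c a = 0 := by rw [f_symm hq, h]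
  refine ⟨tau_ne hq M ha h hk, ?_, ?_⟩
  · rw [add_comm]; exact tau_ne hq M hc h' (by rwa [← cr_comm hq h])
  · have h3 : f (a + c) a = 0 := by simp [h']
    have e : cr (a + c) a = cr a c := by
      rw [cr_comm hq h3, add_comm a c]
      have := cr_add_self hq h (1 : F)
      rwa [one_smul] at this
    have := tau_ne hq M hac h3 (by rw [e]; exact hk)
    rw [show a + c + a = c by rw [add_comm a c, add_assoc, add_self_v hq, add_zero]] at this
    exact this.symm

open scoped Classical in
/-- Every point has a non-orthogonal mate in its fibre. -/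
theorem exists_mate (hq : Fintype.card F = 2) (M : Moving m F X) {u : ℕ} (hu1 : 2 ≤ u)
    (hm1 : 2 ^ m = 4 * u) (x : X) {a : V} (ha : a ≠ 0) :
    ∃ b : V, f a b = 1 ∧ tau x b = tau x a := by
  obtain ⟨b0, hab⟩ := exists_dual hq ha
  haveI : Fintype (W2 a b0) := Fintype.ofFinite _
  have huu : 2 * u ≤ u * u := Nat.mul_le_mul_right u hu1
  obtain ⟨-, hone⟩ := two_zeros hq hm1 hab (M.moves a ha x) (fun w hw => M.pair a w ha hw x)
  obtain ⟨⟨c, hcW⟩, hc⟩ := Finset.card_pos.1 (show 0 < (Finset.univ.filter fun w : W2 a b0 =>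
    kap a x w = 1).card by omega)
  have hk : kap a x c = 1 := (Finset.mem_filter.1 hc).2
  have hc0 : c ≠ 0 := by
    intro e
    rw [e, kap, cr_zero hq, one_smul, if_pos rfl] at hk
    exact zero_ne_one hk
  obtain ⟨t1, t2⟩ := kap_one_symm hq M ha hc0 hcW.1 hk
  have hbc : f c b0 = 0 := by rw [f_symm hq]; exact hcW.2
  suffices h : ∃ b : V, f a b = 1 ∧ f c b = 0 ∧ kap c x b = 1 by
    obtain ⟨b, hb1, hb2, hb3⟩ := h
    refine ⟨b, hb1, ?_⟩
    have hb0 : b ≠ 0 := fun e => by rw [e] at hb1; simp at hb1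
    obtain ⟨s1, s2⟩ := kap_one_symm hq M hc0 hb0 hb2 hb3
    exact (s1.symm.trans s2).trans (t1.symm.trans t2)
  rcases bit hq (kap c x b0) with hk0 | hk0
  swap
  · exact ⟨b0, hab, hbc, hk0⟩
  obtain ⟨y, hyW, hy⟩ := W2_nd hq hab c hcW hc0
  have hcy : f c y = 1 := (bit hq _).resolve_left hy
  have hin : ∀ v ∈ W2 a b0, wp c y v ∈ W2 a b0 := fun v hv => by
    rw [wp]; exact add_mem (add_mem hv (Submodule.smul_mem _ _ hcW)) (Submodule.smul_mem _ _ hyW)
  obtain ⟨z1, hz1, hz1c, hz10⟩ : ∃ z ∈ W2 a b0, z ∈ W2 c y ∧ z ≠ 0 := by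
    by_contra! hall
    have hinj : Function.Injective fun v : W2 a b0 => (f y (v : V), f c (v : V)) := by
      intro v v' e
      obtain ⟨e1, e2⟩ := Prod.ext_iff.1 e
      have hv := hall _ (hin v v.2) (wp_mem hq hcy (v : V))
      have hv' := hall _ (hin v' v'.2) (wp_mem hq hcy (v' : V))
      apply Subtype.ext
      simp only at e1 e2
      rw [wp, e1, e2] at hv
      rw [wp] at hv'
      exact add_right_cancel (add_right_cancel (hv.trans hv'.symm))
    have := Fintype.card_le_of_injective _ hinj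
    rw [← Nat.card_eq_fintype_card, card_W2_u hq hm1 hab, Fintype.card_prod, hq] at this
    omega
  obtain ⟨y2, hy2W, hy2⟩ := W2_nd hq hab z1 hz1 hz10
  set z2 := wp c y y2 with hz2
  have hz2c : z2 ∈ W2 c y := wp_mem hq hcy y2
  have hz12 : f z1 z2 = 1 := by
    rw [hz2, wp]
    simp only [Linear.sympForm_add_right, Linear.sympForm_smul_right, f_symm hq z1 c, hz1c.1,
      f_symm hq z1 y, hz1c.2, mul_zero, add_zero]
    exact (bit hq _).resolve_left hy2
  have hadd := fun (v v' : V) (h : f c v = 0) (h' : f c v' = 0) =>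
    kap_add hq (M.moves c hc0 x) (fun w hw => M.pair c w hc0 hw x) h h'
  have hgood : ∀ z ∈ W2 a b0, f c z = 0 → kap c x z = 1 →
      ∃ b : V, f a b = 1 ∧ f c b = 0 ∧ kap c x b = 1 := by
    intro z hz hcz hkz
    refine ⟨b0 + z, by simp [hab, hz.1], by simp [hbc, hcz], ?_⟩
    rw [hadd _ _ hbc hcz, hk0, hkz, hz.2, zero_add, add_zero]
  rcases bit hq (kap c x z1) with e1 | e1
  · rcases bit hq (kap c x z2) with e2 | e2
    · refine hgood (z1 + z2) (add_mem hz1 (hin y2 hy2W)) (by simp [hz1c.1, hz2c.1]) ?_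
      rw [hadd _ _ hz1c.1 hz2c.1, e1, e2, hz12, zero_add, zero_add]
    · exact hgood z2 (hin y2 hy2W) hz2c.1 e2
  · exact hgood z1 hz1 hz1c.1 e1

open scoped Classical in
theorem fibre_large (hq : Fintype.card F = 2) (M : Moving m F X) {u : ℕ} (hu1 : 2 ≤ u)
    (hm1 : 2 ^ m = 4 * u) (x : X) {a : V} (ha : a ≠ 0) :
    8 * (u * u) + 1 ≤ (Finset.univ.filter fun v : V => tau x v = tau x a).card + 2 * u := by
  obtain ⟨b, hab, htb⟩ := exists_mate hq M hu1 hm1 x ha
  haveI : Fintype (W2 a b) := Fintype.ofFinite _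
  obtain ⟨-, hone⟩ := two_zeros hq hm1 hab (M.moves a ha x) (fun w hw => M.pair a w ha hw x)
  set O := Finset.univ.filter fun w : W2 a b => kap a x w = 1 with hO
  set S := Finset.univ.filter fun v : V => tau x v = tau x a with hS
  set T1 := (O ×ˢ (Finset.univ : Finset F)).image fun p => (p.1 : V) + p.2 • a with hT1
  set T2 := (Finset.univ : Finset (W2 a b)).image fun w : W2 a b =>
    b + (w : V) + kap a x (w : V) • a with hT2
  have hkey : ∀ {w w' : W2 a b} {c c' : F}, (w : V) + c • a = w' + c' • a → w = w' ∧ c = c' := by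
    intro w w' c c' e
    have hba : f b a = 1 := by rw [f_symm hq, hab]
    have e1 := congrArg (f b ·) e
    simp only [Linear.sympForm_add_right, Linear.sympForm_smul_right, w.2.2, w'.2.2, hba, mul_one,
      zero_add] at e1
    subst e1
    exact ⟨Subtype.ext (add_right_cancel e), rfl⟩
  have c1 : T1.card = 2 * O.card := by
    rw [hT1, Finset.card_image_of_injective, Finset.card_product, Finset.card_univ, hq, mul_comm]
    rintro ⟨w, c⟩ ⟨w', c'⟩ e
    obtain ⟨rfl, rfl⟩ := hkey e
    rfl
  have c2 : T2.card = 4 * (u * u) := by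
    rw [hT2, Finset.card_image_of_injective, Finset.card_univ, ← Nat.card_eq_fintype_card,
      card_W2_u hq hm1 hab]
    intro w w' e
    simp only [add_assoc] at e
    exact (hkey (add_left_cancel e)).1
  have f1 : ∀ v ∈ T1, f a v = 0 := by
    intro v hv
    obtain ⟨⟨w, c⟩, -, rfl⟩ := Finset.mem_image.1 hv
    simp [w.2.1]
  have f2 : ∀ v ∈ T2, f a v = 1 := by
    intro v hv
    obtain ⟨w, -, rfl⟩ := Finset.mem_image.1 hv
    simp [hab, w.2.1]
  have hd : Disjoint T1 T2 := Finset.disjoint_left.2 fun v h h' =>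
    zero_ne_one ((f1 v h).symm.trans (f2 v h'))
  have k0 : kap a x (0 : V) = 0 := kap_eq hq (M.moves a ha x) (by
    rw [cr_zero hq, Linear.spTv_zero])
  have hna : a ∉ T1 ∪ T2 := by
    intro h
    rcases Finset.mem_union.1 h with h | h
    · obtain ⟨⟨w, c⟩, hw, e⟩ := Finset.mem_image.1 h
      have e' : (w : V) + c • a = ((0 : W2 a b) : V) + (1 : F) • a := by simpa using e
      obtain ⟨rfl, -⟩ := hkey e'
      have := (Finset.mem_filter.1 (Finset.mem_product.1 hw).1).2
      rw [ZeroMemClass.coe_zero, k0] at this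
      exact zero_ne_one this
    · exact zero_ne_one ((Linear.sympForm_self a).symm.trans (f2 a h))
  have hsub : insert a (T1 ∪ T2) ⊆ S := by
    refine Finset.insert_subset (Finset.mem_filter.2 ⟨Finset.mem_univ _, rfl⟩)
      (Finset.union_subset (fun v hv => ?_) fun v hv => ?_)
    · obtain ⟨⟨w, c⟩, hw, rfl⟩ := Finset.mem_image.1 hv
      have hk := (Finset.mem_filter.1 (Finset.mem_product.1 hw).1).2
      have hw0 : (w : V) ≠ 0 := fun e => by rw [e, k0] at hk; exact zero_ne_one hk
      obtain ⟨t1, t2⟩ := kap_one_symm hq M ha hw0 w.2.1 hk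
      refine Finset.mem_filter.2 ⟨Finset.mem_univ _, ?_⟩
      rcases bit hq c with rfl | rfl
      · show tau x ((w : V) + (0 : F) • a) = tau x a
        rw [zero_smul, add_zero, ← t1, t2]
      · show tau x ((w : V) + (1 : F) • a) = tau x a
        rw [one_smul, add_comm, t2]
    · obtain ⟨w, -, rfl⟩ := Finset.mem_image.1 hv
      refine Finset.mem_filter.2 ⟨Finset.mem_univ _, ?_⟩
      set k := kap a x (w : V) with hk
      set g := cr a (w : V) * Linear.spTv a k with hg
      have hgx : g • x = x := by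
        rw [hg, mul_smul, cr_spTv_comm hq w.2.1, kap_spec' M ha w.2.1, ← hk, ← mul_smul,
          ← Linear.spTv_add, show k + k = 0 by linear_combination k * two_eq_zero hq,
          Linear.spTv_zero, one_smul]
      have hga : g • a = a := by
        rw [hg, mul_smul, Linear.spTv_smul, Linear.sympForm_self, mul_zero, zero_smul, add_zero,
          cr_smul hq w.2.1, Linear.sympForm_self, w.2.1, zero_smul, zero_smul, add_zero, add_zero]
      have hgb : g • b = b + (w : V) + k • a := by
        rw [hg, mul_smul, Linear.spTv_smul, f_symm hq b a, hab, mul_one, cr_smul hq w.2.1]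
        simp only [Linear.sympForm_add_left, Linear.sympForm_smul_left, Linear.sympForm_self,
          f_symm hq b a, hab, w.2.2, w.2.1, mul_zero, add_zero, one_smul, zero_smul]
        abel
      rw [← hgb, ← tau_smul hgx, htb, tau_smul hgx, hga]
  have hc := Finset.card_le_card hsub
  rw [Finset.card_insert_of_notMem hna, Finset.card_union_of_disjoint hd, c1, c2] at hc
  omega

/-- No small action has all transvections moving everything. -/
theorem moving_false (hq : Fintype.card F = 2) {u : ℕ} (hu1 : 2 ≤ u) (hm1 : 2 ^ m = 4 * u)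
    (M : Moving m F X) (x : X) : False := by
  classical
  obtain ⟨i⟩ : Nonempty (Fin m) := by
    rcases Nat.eq_zero_or_pos m with rfl | h
    · simp only [pow_zero] at hm1; omega
    · exact ⟨⟨0, h⟩⟩
  have ha : (Pi.single (.inl i) 1 : V) ≠ 0 := by simp
  set a : V := Pi.single (.inl i) 1
  obtain ⟨b, hab⟩ := exists_dual hq ha
  haveI : Fintype (W2 a b) := Fintype.ofFinite _
  have huu : 2 * u ≤ u * u := Nat.mul_le_mul_right u hu1
  obtain ⟨hzero, -⟩ := two_zeros hq hm1 hab (M.moves a ha x) (fun w hw => M.pair a w ha hw x)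
  obtain ⟨⟨c, hcW⟩, hc, hc0⟩ := Finset.exists_mem_ne (show 1 < (Finset.univ.filter fun w : W2 a b =>
    kap a x w = 0).card by omega) 0
  have hc' : c ≠ 0 := fun e => hc0 (Subtype.ext e)
  have hk : kap a x c = 0 := (Finset.mem_filter.1 hc).2
  have hac : a + c ≠ 0 := by
    intro e
    have := congrArg (f b ·) e
    simp [hcW.2, f_symm hq b a, hab] at this
  have hcr : cr a c • x = x := by
    rw [kap_spec' M ha hcW.1, hk, Linear.spTv_zero, one_smul]
  obtain ⟨n1, n2, n3⟩ := kap_zero_symm hq M ha hc' hac hcW.1 hcr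
  have l1 := fibre_large hq M hu1 hm1 x ha
  have l2 := fibre_large hq M hu1 hm1 x hc'
  have l3 := fibre_large hq M hu1 hm1 x hac
  set S := fun v : V => Finset.univ.filter fun v' : V => tau x v' = tau x v
  have d12 : Disjoint (S a) (S c) := Finset.disjoint_filter.2 fun v _ h h' => n3 (h.symm.trans h')
  have d3 : Disjoint (S a ∪ S c) (S (a + c)) := Finset.disjoint_union_left.2
    ⟨Finset.disjoint_filter.2 fun v _ h h' => n2 (h'.symm.trans h),
      Finset.disjoint_filter.2 fun v _ h h' => n1 (h'.symm.trans h)⟩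
  have hle := Finset.card_le_univ (S a ∪ S c ∪ S (a + c))
  rw [Finset.card_union_of_disjoint d3, Finset.card_union_of_disjoint d12, Fintype.card_fun, hq,
    Fintype.card_sum, Fintype.card_fin, pow_add, hm1] at hle
  have e : 4 * u * (4 * u) = 16 * (u * u) := by ring
  simp only [S] at hle
  omega

theorem small_false (hq : Fintype.card F = 2) [Nontrivial X]
    [MulAction.IsPretransitive (Cfsg.spGL m F) X] {u : ℕ} (hu1 : 2 ≤ u) (hm1 : 2 ^ m = 4 * u) :
    8 * (u * u) ≤ Fintype.card X + 2 * u := by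
  by_contra! hn
  obtain ⟨x⟩ : Nonempty X := inferInstance
  exact moving_false hq hu1 hm1
    { moves := fun v hv y => no_fix hq hu1 hm1 hn hv y
      pair := fun v w hv hw y => pair_move hq hm1 hn hv (no_fix hq hu1 hm1 hn hv y) hw } x

theorem index_lower (hq : Fintype.card F = 2) (hm : 3 ≤ m) (K : Subgroup (Cfsg.spGL m F))
    (hK : K ≠ ⊤) : 2 ^ (m - 1) * (2 ^ m - 1) ≤ K.index := by
  classical
  haveI := Fintype.ofFinite (Cfsg.spGL m F ⧸ K)
  haveI : Nontrivial (Cfsg.spGL m F ⧸ K) := by
    rw [← Finite.one_lt_card_iff_nontrivial, ← Subgroup.index_eq_card]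
    have h0 : K.index ≠ 0 := Subgroup.index_ne_zero_of_finite
    have h1 : K.index ≠ 1 := fun h => hK (Subgroup.index_eq_one.1 h)
    omega
  obtain ⟨k, rfl⟩ : ∃ k, m = k + 2 := ⟨m - 2, by omega⟩
  have hk : 2 ≤ 2 ^ k := Nat.le_self_pow (by omega) 2
  have hm1 : 2 ^ (k + 2) = 4 * 2 ^ k := by rw [pow_add]; ring
  have := small_false (X := Cfsg.spGL (k + 2) F ⧸ K) hq hk hm1
  rw [show k + 2 - 1 = k + 1 by omega, hm1, pow_succ, Subgroup.index_eq_card,
    Nat.card_eq_fintype_card, Nat.mul_sub, mul_one]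
  have e : 2 ^ k * 2 * (4 * 2 ^ k) = 8 * (2 ^ k * 2 ^ k) := by ring
  omega

end Cfsg.Agent.MinIndexSp.Two
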