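import Cfsg.Agent.Lib.MinIndexSp.TwoBasic

/-!
# Small actions of `Sp_2m(2)`: root groups without fixed points

* `QFix` : fixed by the whole radical subgroup at a point
* `qfix_false` : a small non-trivial transitive set has no such point
* `wact` : the quotient of a radical subgroup needs `2^(2m-2)` points
* `no_fix` : transvections have no fixed points, and the radical subgroups act through forms
-/

set_option autoImplicit false
set_option linter.unusedSectionVars false
set_option linter.style.haveILetI false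

namespace Cfsg.Agent.MinIndexSp.Two

open Cfsg Cfsg.Agent Module MulAction
open scoped Pointwise

variable {m : ℕ} {F : Type*} [Field F] [Fintype F]
variable {X : Type*} [MulAction (Cfsg.spGL m F) X]

local notation "V" => (Fin m ⊕ Fin m → F)
local notation "f" => Cfsg.sympForm m F

/-- `x` is fixed by the whole radical subgroup at `a`. -/
def QFix (a : V) (x : X) : Prop :=
  a ≠ 0 ∧ tt a • x = x ∧ ∀ w : V, f a w = 0 → cr a w • x = x

theorem qfix_smul (g : Cfsg.spGL m F) {a : V} {x : X} (h : QFix a x) : QFix (g • a) (g • x) := by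
  obtain ⟨ha, ht, hc⟩ := h
  refine ⟨fun e => ha ?_, ?_, fun w hw => ?_⟩
  · simpa using congrArg (g⁻¹ • ·) e
  · rw [← tt_conj, mul_smul, mul_smul, inv_smul_smul, ht]
  · rw [← smul_inv_smul g w, ← cr_conj, mul_smul, mul_smul, inv_smul_smul, hc]
    rwa [← Linear.sympForm_smul_smul g, smul_inv_smul]

theorem qfix_smul' {g : Cfsg.spGL m F} {a : V} {x : X} (hg : g • x = x) (h : QFix a x) :
    QFix (g • a) x := by
  have := qfix_smul g h
  rwa [hg] at this

/-- Every transvection moves something. -/
theorem tt_moves (hq : Fintype.card F = 2) [Nontrivial X]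
    [MulAction.IsPretransitive (Cfsg.spGL m F) X] {a : V} (ha : a ≠ 0) :
    ∃ y : X, tt a • y ≠ y := by
  by_contra! h
  have hall : ∀ (v : V) (c : F) (y : X), Linear.spTv v c • y = y := by
    intro v c y
    rcases bit hq c with rfl | rfl
    · rw [Linear.spTv_zero, one_smul]
    · by_cases hv : v = 0
      · rw [hv, Linear.spTv_zero_vec, one_smul]
      · obtain ⟨g, hg⟩ := Linear.exists_spGL_smul_eq ha hv
        show tt v • y = y
        rw [← hg, ← tt_conj, mul_smul, mul_smul, h, smul_inv_smul]
  obtain ⟨y, z, hyz⟩ := exists_pair_ne X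
  obtain ⟨g, hg⟩ := MulAction.exists_smul_eq (Cfsg.spGL m F) y z
  have hk : ∀ k : Cfsg.spGL m F, k • y = y := by
    intro k
    have hle : Subgroup.closure (Linear.spTvSet (⊤ : Submodule F V)) ≤
        MulAction.stabilizer (Cfsg.spGL m F) y := by
      refine (Subgroup.closure_le _).2 ?_
      rintro _ ⟨w, -, c, rfl⟩
      exact hall w c y
    rw [Linear.closure_spTvSet] at hle
    exact hle (Subgroup.mem_top k)
  exact hyz ((hk g).symm.trans hg)

theorem exists_two (hq : Fintype.card F = 2) {p s : V} (hp : p ≠ 0) (hs : s ≠ 0) :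
    ∃ y : V, f p y = 1 ∧ f s y = 1 := by
  obtain ⟨y1, h1⟩ := exists_dual hq hp
  obtain ⟨y2, h2⟩ := exists_dual hq hs
  rcases bit hq (f s y1) with h3 | h3
  · rcases bit hq (f p y2) with h4 | h4
    · exact ⟨y1 + y2, by simp [h1, h4], by simp [h2, h3]⟩
    · exact ⟨y2, h4, h2⟩
  · exact ⟨y1, h1, h3⟩

/-- The points fixing `x` through their radical subgroups are pairwise orthogonal. -/
theorem qfix_orth (hq : Fintype.card F = 2) [Nontrivial X]
    [MulAction.IsPretransitive (Cfsg.spGL m F) X] {p p' : V} {x : X}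
    (hp : QFix p x) (hp' : QFix p' x) : f p p' = 0 := by
  rcases bit hq (f p p') with h | h
  · exact h
  exfalso
  have key : ∀ p p' : V, QFix p x → QFix p' x → f p p' = 1 → ∀ y, f p y = 1 → QFix y x := by
    intro p p' hp hp' h y hy
    set w := y + p' with hw
    have hpw : f p w = 0 := by
      rw [hw, Linear.sympForm_add_right, hy, h]
      linear_combination two_eq_zero hq
    have e : cr p w • p' = y + f p' w • p := by
      rw [cr_smul hq hpw, f_symm hq p' p, h, one_smul, hw]
      have e : (2 : F) • p' = 0 := by rw [two_eq_zero hq, zero_smul]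
      linear_combination (norm := module) e
    have hq1 := qfix_smul' (hp.2.2 w hpw) hp'
    rw [e] at hq1
    rcases bit hq (f p' w) with hc | hc
    · rwa [hc, zero_smul, add_zero] at hq1
    · rw [hc, one_smul] at hq1
      have := qfix_smul' hp.2.1 hq1
      rwa [tt_smul, Linear.sympForm_add_left, Linear.sympForm_self, add_zero, f_symm hq y p, hy,
        one_smul, add_assoc, add_self_v hq, add_zero] at this
  have hall : ∀ v : V, v ≠ 0 → tt v • x = x := by
    intro v hv
    obtain ⟨y, hy1, hy2⟩ := exists_two hq hp.1 hv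
    have hY := key p p' hp hp' h y hy1
    exact (key y p hY hp (by rw [f_symm hq, hy1]) v (by rw [f_symm hq, hy2])).2.1
  obtain ⟨z, hz⟩ := tt_moves (X := X) hq hp.1
  obtain ⟨g, rfl⟩ := MulAction.exists_smul_eq (Cfsg.spGL m F) x z
  apply hz
  rw [show tt p = g * tt (g⁻¹ • p) * g⁻¹ by rw [tt_conj, smul_inv_smul], mul_smul, mul_smul,
    inv_smul_smul, hall]
  intro e
  exact hp.1 (by simpa using congrArg (g • ·) e)

theorem exists_map_pair (hq : Fintype.card F = 2) {a0 v0 a v : V} (ha0 : a0 ≠ 0) (hv0 : v0 ≠ 0)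
    (hne0 : v0 ≠ a0) (ho0 : f a0 v0 = 0) (ha : a ≠ 0) (hv : v ≠ 0) (hne : v ≠ a)
    (ho : f a v = 0) : ∃ g : Cfsg.spGL m F, g • a0 = a ∧ g • v0 = v := by
  obtain ⟨g1, hg1⟩ := Linear.exists_spGL_smul_eq ha0 ha
  set v1 := g1 • v0 with hv1
  have h1a : v1 ≠ 0 := fun e => hv0 (by simpa [hv1] using congrArg (g1⁻¹ • ·) e)
  have h1b : v1 ≠ a := fun e => hne0 (smul_left_cancel g1 (by rw [hg1, ← hv1, e]))
  have h1c : f a v1 = 0 := by rw [hv1, ← hg1, Linear.sympForm_smul_smul, ho0]
  obtain ⟨b, hb⟩ := exists_dual hq ha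
  have nz : ∀ {z : V}, z ≠ 0 → z ≠ a → f a z = 0 → wp a b z ≠ 0 := by
    intro z z0 za hz e
    have := wp_perp hq (b := b) hz
    rw [e, zero_add] at this
    rcases bit hq (f b z) with hc | hc <;> rw [hc] at this
    · exact z0 (by simpa using this)
    · exact za (by simpa using this)
  set w1 := wp a b v1 with hw1
  set w := wp a b v with hw
  have m1 : w1 ∈ W2 a b := wp_mem hq hb v1
  have m2 : w ∈ W2 a b := wp_mem hq hb v
  obtain ⟨h, hh, hhw⟩ := Linear.exists_spTv_smul_eq (W2 a b) (W2_nd hq hb) m1 m2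
    (nz h1a h1b h1c) (nz hv hne ho)
  have hha : h • a = a :=
    Linear.smul_eq_of_mem_closure_spTvSet (W := W2 a b) (x := a) (fun z hz => (mem_W2.1 hz).1) hh
  have hv1' := wp_perp hq (b := b) h1c
  have hv' := wp_perp hq (b := b) ho
  rw [← hw1] at hv1'
  rw [← hw] at hv'
  have hhv : h • v1 = w + f b v1 • a := by
    conv_lhs => rw [hv1']
    rw [smul_add, hhw, smul_comm, hha]
  by_cases hc : f b v1 = f b v
  · exact ⟨h * g1, by rw [mul_smul, hg1, hha], by rw [mul_smul, ← hv1, hhv, hc]; exact hv'.symm⟩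
  · obtain ⟨y, hy, hwy⟩ := W2_nd hq hb w m2 (nz hv hne ho)
    have hay : f a y = 0 := hy.1
    refine ⟨cr a y * h * g1, ?_, ?_⟩
    · rw [mul_smul, mul_smul, hg1, hha, cr_smul hq hay, Linear.sympForm_self, hay, zero_smul,
        zero_smul, add_zero, add_zero]
    · rw [mul_smul, mul_smul, ← hv1, hhv, cr_smul hq hay, Linear.sympForm_add_left,
        Linear.sympForm_smul_left, Linear.sympForm_self, Linear.sympForm_add_left,
        Linear.sympForm_smul_left, f_symm hq w a, m2.1, (bit hq _).resolve_left hwy, hay]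
      have hc' : f b v = f b v1 + 1 := by
        rcases bit hq (f b v) with e | e <;> rcases bit hq (f b v1) with e' | e' <;>
          rw [e, e'] at hc ⊢ <;> simp at hc ⊢
        linear_combination -two_eq_zero hq
      conv_rhs => rw [hv', hc']
      simp only [mul_zero, add_zero, zero_smul, add_smul, one_smul]
      abel

variable [Fintype X]

/-- No point of a small set is fixed by a whole radical subgroup. -/
theorem qfix_false (hq : Fintype.card F = 2) [Nontrivial X]
    [MulAction.IsPretransitive (Cfsg.spGL m F) X] {u : ℕ} (hu1 : 2 ≤ u) (hm1 : 2 ^ m = 4 * u)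
    (hn : Fintype.card X + 2 * u < 8 * (u * u)) {a : V} {x : X} (hax : QFix a x) : False := by
  classical
  have hV : Fintype.card V = 16 * (u * u) := by
    rw [Fintype.card_fun, hq, Fintype.card_sum, Fintype.card_fin, pow_add, hm1]; ring
  set T : X → Submodule F V := fun y => Submodule.span F {s | QFix s y} with hT
  have hTg : ∀ (g : Cfsg.spGL m F) (y : X) (v : V), v ∈ T y → g • v ∈ T (g • y) := by
    intro g y v hv
    induction hv using Submodule.span_induction with
    | mem s hs => exact Submodule.subset_span (qfix_smul g hs)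
    | zero => rw [smul_zero]; exact zero_mem _
    | add p q _ _ hp hq => rw [smul_add]; exact add_mem hp hq
    | smul c p _ hp => rw [smul_comm]; exact Submodule.smul_mem _ _ hp
  have hTg' : ∀ (g : Cfsg.spGL m F) (y : X) (v : V), g • v ∈ T (g • y) ↔ v ∈ T y := by
    refine fun g y v => ⟨fun h => ?_, hTg g y v⟩
    have := hTg g⁻¹ _ _ h
    rwa [inv_smul_smul, inv_smul_smul] at this
  have iso : ∀ y, ∀ v ∈ T y, ∀ w ∈ T y, f v w = 0 := by
    intro y v hv
    induction hv using Submodule.span_induction with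
    | mem s hs =>
      intro w hw
      induction hw using Submodule.span_induction with
      | mem t ht => exact qfix_orth hq hs ht
      | zero => simp
      | add p q _ _ hp hq => simp [hp, hq]
      | smul c p _ hp => simp [hp]
    | zero => intro w _; simp
    | add p q _ _ hp hq => intro w hw; simp [hp w hw, hq w hw]
    | smul c p _ hp => intro w hw; simp [hp w hw]
  have haT : a ∈ T x := Submodule.subset_span hax
  set TT : Finset (Submodule F V) := Finset.univ.image T with hTT
  have hTn : TT.card ≤ Fintype.card X := Finset.card_image_le.trans_eq Finset.card_univ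
  set A : V → Finset (Submodule F V) := fun v => TT.filter fun S => v ∈ S with hA
  have htrans : ∀ (g : Cfsg.spGL m F) (v : V), (A v).card ≤ (A (g • v)).card := by
    intro g v
    refine Finset.card_le_card_of_injOn (fun S => S.map (Matrix.mulVecLin g.1.1)) (fun S hS => ?_) ?_
    · obtain ⟨hS, hv⟩ := Finset.mem_filter.1 hS
      refine Finset.mem_filter.2 ⟨?_, Submodule.mem_map.2 ⟨v, hv, rfl⟩⟩
      obtain ⟨y, -, rfl⟩ := Finset.mem_image.1 hS
      refine Finset.mem_image.2 ⟨g • y, Finset.mem_univ _, ?_⟩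
      ext z
      rw [Submodule.mem_map]
      refine ⟨fun hz => ⟨g⁻¹ • z, ?_, smul_inv_smul g z⟩, ?_⟩
      · rwa [← hTg' g, smul_inv_smul]
      · rintro ⟨z', hz', rfl⟩
        exact hTg g y z' hz'
    · intro S _ S' _ e
      exact Submodule.map_injective_of_injective
        (show Function.Injective ⇑(Matrix.mulVecLin g.1.1) from fun p q h => smul_left_cancel g h) e
  have hconst : ∀ v : V, v ≠ 0 → (A v).card = (A a).card := by
    intro v hv
    obtain ⟨g, rfl⟩ := Linear.exists_spGL_smul_eq hax.1 hv
    refine le_antisymm ?_ (htrans g a)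
    have := htrans g⁻¹ (g • a)
    rwa [inv_smul_smul] at this
  set t := Fintype.card (T x) with ht
  have hTcard : ∀ S ∈ TT, (Finset.univ.filter fun v : V => v ≠ 0 ∧ v ∈ S).card + 1 = t := by
    intro S hS
    obtain ⟨y, -, rfl⟩ := Finset.mem_image.1 hS
    obtain ⟨g, rfl⟩ := MulAction.exists_smul_eq (Cfsg.spGL m F) x y
    rw [ht, Fintype.card_subtype, ← Finset.card_erase_add_one (s := Finset.univ.filter fun v : V =>
      v ∈ T x) (a := 0) (by simp)]
    congr 1
    refine Finset.card_nbij' (fun v => g⁻¹ • v) (fun v => g • v) (fun v hv => ?_) (fun v hv => ?_)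
      (fun v _ => smul_inv_smul g v) (fun v _ => inv_smul_smul g v)
    · obtain ⟨-, h0, hv⟩ := Finset.mem_filter.1 hv
      simp only [Finset.coe_erase, Finset.coe_filter, Set.mem_sdiff, Set.mem_singleton_iff,
        Finset.mem_univ, true_and, Set.mem_setOf_eq]
      refine ⟨?_, fun e => h0 (by simpa using congrArg (g • ·) e)⟩
      rwa [← hTg' g, smul_inv_smul]
    · obtain ⟨h0, hv⟩ := Finset.mem_erase.1 hv
      refine Finset.mem_filter.2 ⟨Finset.mem_univ _, fun e => h0 (by simpa using congrArg (g⁻¹ • ·) e),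
        hTg g x v (Finset.mem_filter.1 hv).2⟩
  -- double counting
  have hdc : TT.card * (t - 1) = (Fintype.card V - 1) * (A a).card := by
    have h1 : ∑ S ∈ TT, (Finset.univ.filter fun v : V => v ≠ 0 ∧ v ∈ S).card =
        ∑ v ∈ (Finset.univ : Finset V).erase 0, (A v).card := by
      simp only [Finset.card_filter, hA]
      rw [Finset.sum_comm, ← Finset.sum_erase (a := (0 : V)) (s := Finset.univ) (by simp)]
      refine Finset.sum_congr rfl fun v hv => Finset.sum_congr rfl fun S _ => ?_
      simp [Finset.ne_of_mem_erase hv]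
    rw [Finset.sum_congr rfl fun S hS =>
      (show (Finset.univ.filter fun v : V => v ≠ 0 ∧ v ∈ S).card = t - 1 by
        have := hTcard S hS; omega), Finset.sum_const, smul_eq_mul,
      Finset.sum_congr rfl fun v hv => hconst v (Finset.ne_of_mem_erase hv), Finset.sum_const,
      Finset.card_erase_of_mem (Finset.mem_univ _), Finset.card_univ, smul_eq_mul] at h1
    exact h1
  have ht2 : 2 ≤ t := by
    rw [ht]
    exact Fintype.one_lt_card_iff.2 ⟨⟨a, haT⟩, 0, fun e => hax.1 (congrArg Subtype.val e)⟩
  rw [hV] at hdc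
  rcases eq_or_lt_of_le ht2 with ht2' | ht3
  · rw [← ht2', show 2 - 1 = 1 from rfl, mul_one] at hdc
    have hA1 : 1 ≤ (A a).card :=
      Finset.card_pos.2 ⟨T x, Finset.mem_filter.2 ⟨Finset.mem_image.2 ⟨x, Finset.mem_univ _, rfl⟩, haT⟩⟩
    have : (16 * (u * u) - 1) * 1 ≤ (16 * (u * u) - 1) * (A a).card := Nat.mul_le_mul_left _ hA1
    have : 1 * 1 ≤ u * u := Nat.mul_le_mul (by omega) (by omega)
    omega
  -- a second vector
  obtain ⟨v0, hv0T, hv00, hv0a⟩ : ∃ v0 ∈ T x, v0 ≠ 0 ∧ v0 ≠ a := by
    have h3 : ({0, a} : Finset V).card < (Finset.univ.filter fun v : V => v ∈ T x).card := by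
      rw [← Fintype.card_subtype, ← ht]
      exact lt_of_le_of_lt Finset.card_le_two ht3
    obtain ⟨v, hv, hv'⟩ := Finset.exists_mem_notMem_of_card_lt_card h3
    simp only [Finset.mem_insert, Finset.mem_singleton, not_or] at hv'
    exact ⟨v, (Finset.mem_filter.1 hv).2, hv'⟩
  obtain ⟨b, hb⟩ := exists_dual hq hax.1
  set perpA : Finset V := Finset.univ.filter fun v : V => f a v = 0 ∧ v ≠ 0 ∧ v ≠ a with hperp
  have hcov : perpA ⊆ (A a).biUnion fun S =>
      ((Finset.univ.filter fun v : V => v ≠ 0 ∧ v ∈ S).erase a) := by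
    intro v hv
    obtain ⟨-, ho, h0, hne⟩ := Finset.mem_filter.1 hv
    obtain ⟨g, hga, hgv⟩ := exists_map_pair hq hax.1 hv00 hv0a (iso x a haT v0 hv0T) hax.1 h0 hne ho
    refine Finset.mem_biUnion.2 ⟨T (g • x), Finset.mem_filter.2
      ⟨Finset.mem_image.2 ⟨g • x, Finset.mem_univ _, rfl⟩, ?_⟩, ?_⟩
    · have := hTg g x a haT; rwa [hga] at this
    · refine Finset.mem_erase.2 ⟨hne, Finset.mem_filter.2 ⟨Finset.mem_univ _, h0, ?_⟩⟩
      have := hTg g x v0 hv0T; rwa [hgv] at this
  have hcard : perpA.card ≤ (A a).card * (t - 2) := by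
    refine (Finset.card_le_card hcov).trans (Finset.card_biUnion_le.trans ?_)
    rw [← smul_eq_mul, ← Finset.sum_const]
    refine Finset.sum_le_sum fun S hS => ?_
    obtain ⟨hS, haS⟩ := Finset.mem_filter.1 hS
    rw [Finset.card_erase_of_mem (Finset.mem_filter.2 ⟨Finset.mem_univ _, hax.1, haS⟩)]
    have := hTcard S hS
    omega
  have hperpc : perpA.card + 2 = 8 * (u * u) := by
    let e : V ≃ {v : V // f a v = 0} × F :=
      { toFun := fun v => (⟨v + f a v • b, by
          rw [Linear.sympForm_add_right, Linear.sympForm_smul_right, hb, mul_one]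
          linear_combination (f a v) * two_eq_zero hq⟩, f a v)
        invFun := fun p => p.1.1 + p.2 • b
        left_inv := fun v => by
          show v + f a v • b + f a v • b = v
          rw [add_assoc, add_self_v hq, add_zero]
        right_inv := fun p => by
          obtain ⟨⟨v, hv⟩, c⟩ := p
          refine Prod.ext (Subtype.ext ?_) ?_
          · show v + c • b + f a (v + c • b) • b = v
            rw [Linear.sympForm_add_right, hv, Linear.sympForm_smul_right, hb, mul_one, zero_add,
              add_assoc, add_self_v hq, add_zero]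
          · simp [hv, hb] }
    have hc := Fintype.card_congr e
    rw [Fintype.card_prod, hV, hq, Fintype.card_subtype] at hc
    have : perpA = ((Finset.univ.filter fun v : V => f a v = 0).erase 0).erase a := by
      ext v; simp [hperp]; tauto
    rw [this, Finset.card_erase_of_mem (by simp [hax.1]), Finset.card_erase_of_mem (by simp)]
    have : 1 * 1 ≤ u * u := Nat.mul_le_mul (by omega) (by omega)
    omega
  -- the bound on the size of an isotropic subspace
  have hiso : t * t ≤ 16 * (u * u) := by
    let B : LinearMap.BilinForm F V :=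
      LinearMap.mk₂ F (fun v w => f v w) (fun p q r => Linear.sympForm_add_left p q r)
        (fun c p q => Linear.sympForm_smul_left c p q) (fun p q r => Linear.sympForm_add_right p q r)
        (fun c p q => Linear.sympForm_smul_right c p q)
    have hnd : ∀ v : V, v ≠ 0 → ∃ w, B w v ≠ 0 := fun v hv => by
      obtain ⟨w, hw⟩ := Linear.exists_sympForm_ne_zero hv
      exact ⟨w, by show f w v ≠ 0; rwa [f_symm hq]⟩
    have h1 := MinIndex.card_ann_mul hnd (T x).toAddSubgroup
    have h2 : Nat.card (T x).toAddSubgroup ≤ Nat.card (MinIndex.ann B (T x).toAddSubgroup) :=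
      AddSubgroup.card_le_of_le fun v hv r hr => by
        show MinIndex.chr F (f v r) = 1
        rw [iso x v hv r hr, AddChar.map_zero_eq_one]
    rw [Nat.card_eq_fintype_card (α := V), hV] at h1
    have h3 : Nat.card (T x).toAddSubgroup = t := by rw [ht, ← Nat.card_eq_fintype_card]; rfl
    rw [h3] at h1 h2
    exact h1 ▸ Nat.mul_le_mul_right t h2
  set k := TT.card
  set c := (A a).card
  have hP : 1 ≤ u * u := Nat.mul_pos (by omega) (by omega)
  have ht4 : t ≤ 4 * u := by
    by_contra! h
    have := Nat.mul_le_mul h h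
    nlinarith
  clear_value t
  obtain ⟨t', rfl⟩ : ∃ t', t = t' + 3 := ⟨t - 3, by omega⟩
  rw [show t' + 3 - 1 = t' + 2 by omega] at hdc
  rw [show t' + 3 - 2 = t' + 1 by omega] at hcard
  have e1 : k * ((t' + 2) * (t' + 1)) = (16 * (u * u) - 1) * (c * (t' + 1)) := by
    rw [← mul_assoc, hdc, mul_assoc]
  have e2 : (16 * (u * u) - 1) * perpA.card ≤ k * ((t' + 2) * (t' + 1)) :=
    e1 ▸ Nat.mul_le_mul_left _ hcard
  have e3 : k * ((t' + 2) * (t' + 1)) ≤ (8 * (u * u) - 2 * u) * ((4 * u - 1) * (4 * u - 2)) :=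
    Nat.mul_le_mul (by omega) (Nat.mul_le_mul (by omega) (by omega))
  have e4 := e2.trans e3
  zify [show 1 ≤ 16 * (u * u) by omega, show 2 * u ≤ 8 * (u * u) by nlinarith,
    show 1 ≤ 4 * u by omega, show 2 ≤ 4 * u by omega] at e4
  have hp : (perpA.card : ℤ) = 8 * ((u : ℤ) * u) - 2 := by
    have := hperpc; push_cast [← this]; omega
  rw [hp] at e4
  have hu' : (2 : ℤ) ≤ u := by exact_mod_cast hu1
  nlinarith [mul_le_mul hu' hu' (by norm_num) (by linarith)]

end Cfsg.Agent.MinIndexSp.Two
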