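import Cfsg.Agent.Lib.MinIndexSp.TwoBasic
import Cfsg.Agent.Lib.MinIndexSp.Transfer

/-!
# The stabiliser of a quadratic form in `Sp_2m(2)`

* `kz` : `Σ x_inl x_inr`, polarising to the symplectic form
* `exists_stab` : a form stabiliser of index `2^(m-1) (2^m - 1)`, containing the centre
-/

set_option autoImplicit false
set_option linter.unusedSectionVars false
set_option linter.style.haveILetI false

namespace Cfsg.Agent.MinIndexSp.Two

open Cfsg Cfsg.Agent

variable {m : ℕ} {F : Type*} [Field F] [Fintype F]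

local notation "V" => (Fin m ⊕ Fin m → F)
local notation "f" => Cfsg.sympForm m F

/-- The standard form. -/
def kz (x : V) : F := ∑ i, x (.inl i) * x (.inr i)

theorem kz_add (hq : Fintype.card F = 2) (x y : V) : kz (x + y) = kz x + kz y + f x y := by
  simp only [kz, Linear.sympForm_eq_sum, ← Finset.sum_add_distrib, Pi.add_apply]
  refine Finset.sum_congr rfl fun i _ => ?_
  linear_combination (x (.inl i) * y (.inr i)) * two_eq_zero hq

/-- Polar `f`. -/
def Polar (κ : V → F) : Prop := ∀ x y : V, κ (x + y) = κ x + κ y + f x y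

/-- The sign sum. -/
noncomputable def sgn (κ : V → F) : ℤ :=
  ∑ x, @ite _ (κ x = 0) (Classical.propDecidable _) 1 (-1)

theorem polar_zero (hq : Fintype.card F = 2) {κ : V → F} (h : Polar κ) : κ 0 = 0 := by
  have h0 := h 0 0
  simpa using h0

theorem polar_shift (hq : Fintype.card F = 2) {κ : V → F} (h : Polar κ) (v : V) :
    Polar (fun x => κ x + f x v) := by
  intro x y
  simp only [h x y, Linear.sympForm_add_left]
  ring

theorem sgn_shift (hq : Fintype.card F = 2) {κ : V → F} (h : Polar κ) {v : V} (hv : κ v = 1) :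
    sgn (fun x => κ x + f x v) = - sgn κ := by
  classical
  rw [sgn, sgn, ← Equiv.sum_comp (Equiv.addRight v) (fun x => (if κ x = 0 then (1 : ℤ) else -1)),
    ← Finset.sum_neg_distrib]
  refine Finset.sum_congr rfl fun x _ => ?_
  rw [Equiv.coe_addRight, h x v, hv]
  rcases bit hq (κ x + f x v) with e | e <;>
    [rw [show κ x + 1 + f x v = 1 by linear_combination e];
     rw [show κ x + 1 + f x v = 0 by linear_combination e + two_eq_zero hq]] <;> simp [e]

theorem polar_count (hq : Fintype.card F = 2) {κ : V → F} (h : Polar κ) :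
    ∃ s : ℤ, (s = 2 ^ m ∨ s = -2 ^ m) ∧ s = sgn κ ∧
      2 * (Nat.card {x : V // κ x = 0} : ℤ) = 2 ^ m * 2 ^ m + s := by
  classical
  have hnd : ∀ w ∈ (⊤ : Submodule F V), w ≠ 0 → ∃ y ∈ (⊤ : Submodule F V), f w y ≠ 0 :=
    Linear.top_nondegenerate
  have hc : Fintype.card (⊤ : Submodule F V) = 2 ^ m * 2 ^ m := by
    rw [Fintype.card_congr (Equiv.subtypeUnivEquiv fun _ => Submodule.mem_top), Fintype.card_fun,
      hq, Fintype.card_sum, Fintype.card_fin, pow_add]
  obtain ⟨s, hs, hsum, hz⟩ := quad_count hq hnd (fun w => κ (w : V)) (fun w w' => h _ _) hc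
  push_cast at hs hz
  refine ⟨s, hs, ?_, ?_⟩
  · rw [hsum, sgn]
    exact Fintype.sum_equiv (Equiv.subtypeUnivEquiv fun _ => Submodule.mem_top) _ _ fun _ => rfl
  · rw [← hz, Nat.card_eq_fintype_card]
    congr 2
    rw [← Fintype.card_subtype]
    exact Fintype.card_congr
      ((Equiv.subtypeUnivEquiv fun _ => Submodule.mem_top).subtypeEquiv fun _ => Iff.rfl).symm

/-- Additive functions are `f(·, u)`. -/
theorem exists_rep (hq : Fintype.card F = 2) (l : V → F) (hl : ∀ x y, l (x + y) = l x + l y) :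
    ∃ u : V, ∀ x, l x = f x u := by
  classical
  have h0 : l 0 = 0 := by simpa using hl 0 0
  let L : V →ₗ[F] F :=
    { toFun := l
      map_add' := hl
      map_smul' := fun c x => by rcases bit hq c with rfl | rfl <;> simp [h0] }
  refine ⟨Sum.elim (fun i => l (Pi.single (.inr i) 1)) (fun i => l (Pi.single (.inl i) 1)),
    fun x => ?_⟩
  show L x = _
  rw [LinearMap.pi_apply_eq_sum_univ L x, Fintype.sum_sum_type, Linear.sympForm_eq_sum,
    Finset.sum_sub_distrib]
  simp only [smul_eq_mul, Sum.elim_inl, Sum.elim_inr]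
  have e : ∀ j : Fin m ⊕ Fin m, L (fun i => if j = i then 1 else 0) = l (Pi.single j 1) := fun j => by
    show l _ = _
    congr 1
    ext i
    simp [Pi.single_apply, eq_comm]
  simp only [e]
  linear_combination (∑ i, x (.inl i) * l (Pi.single (.inl i) 1)) * two_eq_zero hq

theorem exists_stab (hq : Fintype.card F = 2) (hm : 1 ≤ m) :
    ∃ K : Subgroup (Cfsg.spGL m F), Subgroup.center (Cfsg.spGL m F) ≤ K ∧
      K.index = 2 ^ (m - 1) * (2 ^ m - 1) := by
  classical
  obtain ⟨κ, hκ, hsg⟩ : ∃ κ : V → F, Polar κ ∧ sgn κ = -2 ^ m := by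
    obtain ⟨s, hs, hsg, -⟩ := polar_count hq (m := m) (F := F) (κ := kz) (kz_add hq)
    rcases hs with rfl | rfl
    · set v : V := Pi.single (.inl ⟨0, hm⟩) 1 + Pi.single (.inr ⟨0, hm⟩) 1 with hv
      have hv1 : kz v = 1 := by
        simp only [kz, hv, Pi.add_apply]
        rw [Finset.sum_eq_single ⟨0, hm⟩] <;> simp +contextual [Pi.single_apply]
      exact ⟨_, polar_shift hq (kz_add hq) v, by rw [sgn_shift hq (kz_add hq) hv1, ← hsg]⟩
    · exact ⟨kz, kz_add hq, hsg.symm⟩
  let K : Subgroup (Cfsg.spGL m F) :=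
    { carrier := {g | ∀ x, κ (g • x) = κ x}
      one_mem' := fun x => by rw [one_smul]
      mul_mem' := fun {g h} hg hh x => by rw [mul_smul]; exact (hg _).trans (hh x)
      inv_mem' := fun {g} hg x => by rw [← hg (g⁻¹ • x), smul_inv_smul] }
  refine ⟨K, fun g hg x => ?_, ?_⟩
  · obtain ⟨c, hc⟩ := center_smul hg x
    rw [hc]
    rcases bit hq c with rfl | rfl
    · rw [zero_smul] at hc ⊢
      rw [show x = 0 by simpa using congrArg (g⁻¹ • ·) hc]
    · rw [one_smul]
  -- the orbit of `κ`
  have hrep : ∀ g : Cfsg.spGL m F, ∃ u : V, κ u = 0 ∧ ∀ x, κ (g • x) = κ x + f x u := by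
    intro g
    obtain ⟨u, hu⟩ := exists_rep hq (fun x => κ (g • x) + κ x) (fun x y => by
      rw [smul_add, hκ, hκ, Linear.sympForm_smul_smul]
      linear_combination (f x y) * two_eq_zero hq)
    have hu' : ∀ x, κ (g • x) = κ x + f x u := fun x => by
      linear_combination hu x - (κ x) * two_eq_zero hq
    refine ⟨u, (bit hq _).resolve_right fun h1 => ?_, hu'⟩
    have e1 := sgn_shift hq hκ h1
    have e2 : sgn (fun x => κ x + f x u) = sgn κ := by
      simp only [sgn, ← hu']
      exact Equiv.sum_comp (MulAction.toPerm g)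
        (fun x => @ite ℤ (κ x = 0) (Classical.propDecidable _) 1 (-1))
    rw [e1, hsg] at e2
    have : (0 : ℤ) < 2 ^ m := by positivity
    omega
  choose r hr0 hr using hrep
  have huniq : ∀ {p q : V}, (∀ x, f x p = f x q) → p = q := by
    intro p q h
    by_contra hne
    obtain ⟨z, hz⟩ := Linear.exists_sympForm_ne_zero (sub_ne_zero.2 hne)
    apply hz
    rw [Linear.sympForm_swap, Linear.sympForm_sub_right, h, sub_self, neg_zero]
  have hker : ∀ g h : Cfsg.spGL m F, r g⁻¹ = r h⁻¹ ↔ g⁻¹ * h ∈ K := by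
    intro g h
    constructor
    · intro e x
      have e1 := hr g⁻¹ (h • x)
      have e2 := hr h⁻¹ (h • x)
      rw [inv_smul_smul] at e2
      rw [mul_smul, e1, e, e2]
    · intro hgh
      refine huniq fun x => ?_
      have e1 := hr g⁻¹ x
      have e2 := hr h⁻¹ x
      have e3 := hgh (h⁻¹ • x)
      rw [mul_smul, smul_inv_smul] at e3
      rw [e3, e2] at e1
      exact (add_left_cancel e1).symm
  let φ : Cfsg.spGL m F ⧸ K → {x : V // κ x = 0} :=
    fun q => Quotient.liftOn' q (fun g => ⟨r g⁻¹, hr0 _⟩) fun g h e =>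
      Subtype.ext ((hker g h).2 (QuotientGroup.leftRel_apply.1 e))
  have hφ : Function.Bijective φ := by
    refine ⟨fun p q => ?_, fun ⟨u, hu⟩ => ⟨QuotientGroup.mk (tt u)⁻¹, ?_⟩⟩
    · induction p using QuotientGroup.induction_on with
      | H g =>
      induction q using QuotientGroup.induction_on with
      | H h =>
      intro e
      exact QuotientGroup.eq.2 ((hker g h).1 (congrArg Subtype.val e))
    · refine Subtype.ext (huniq fun x => ?_)
      show f x (r (tt u)⁻¹⁻¹) = f x u
      rw [inv_inv]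
      have e1 := hr (tt u) x
      rw [tt_smul] at e1
      rcases bit hq (f x u) with e | e <;> rw [e] at e1 ⊢
      · rw [zero_smul, add_zero] at e1
        exact (add_eq_left.1 e1.symm)
      · rw [one_smul, hκ x u, hu, e, add_zero] at e1
        exact (add_left_cancel e1).symm
  rw [Subgroup.index_eq_card, Nat.card_congr (Equiv.ofBijective φ hφ)]
  obtain ⟨s, -, hs, hz⟩ := polar_count hq hκ
  rw [hs, hsg] at hz
  obtain ⟨k, rfl⟩ : ∃ k, m = k + 1 := ⟨m - 1, by omega⟩
  have hk : 1 ≤ 2 ^ k := Nat.one_le_two_pow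
  rw [Nat.add_sub_cancel, pow_succ]
  rw [pow_succ] at hz
  zify [show 1 ≤ 2 ^ k * 2 by omega]
  linarith

end Cfsg.Agent.MinIndexSp.Two
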