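import Cfsg.Agent.Lib.MinIndexSp.TwoFix

/-!
# Small actions of `Sp_2m(2)`: transvections move everything

* `wact` : the radical quotient at `a` needs `2^(2m-2)` points
* `pair_move` : `cr a w` permutes inside the pairs `{y, tt a • y}`
* `no_fix` : transvections have no fixed points
-/

set_option autoImplicit false
set_option linter.unusedSectionVars false
set_option linter.style.haveILetI false

namespace Cfsg.Agent.MinIndexSp.Two

open Cfsg Cfsg.Agent Module MulAction
open scoped Pointwise

variable {m : ℕ} {F : Type*} [Field F] [Fintype F]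

local notation "V" => (Fin m ⊕ Fin m → F)
local notation "f" => Cfsg.sympForm m F

/-- The centraliser of a transvection. -/
noncomputable def cen (a : V) : Subgroup (Cfsg.spGL m F) := Subgroup.centralizer {tt a}

theorem mem_cen {a : V} {g : Cfsg.spGL m F} : g ∈ cen a ↔ g * tt a = tt a * g :=
  Subgroup.mem_centralizer_singleton_iff

theorem tt_mem_cen (a : V) : tt a ∈ cen a := mem_cen.2 rfl

theorem cr_mem_cen (hq : Fintype.card F = 2) {a w : V} (h : f a w = 0) : cr a w ∈ cen a :=
  mem_cen.2 (tt_cr_comm hq h)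

theorem fix_mem_cen {a : V} {g : Cfsg.spGL m F} (h : g • a = a) : g ∈ cen a := by
  rw [mem_cen]
  have := tt_conj g a
  rw [h] at this
  exact mul_inv_eq_iff_eq_mul.1 this

theorem spTv_mem_cen (hq : Fintype.card F = 2) (a : V) (c : F) : Linear.spTv a c ∈ cen a := by
  rcases bit hq c with rfl | rfl
  · rw [Linear.spTv_zero]; exact one_mem _
  · exact tt_mem_cen a

/-- A non-trivial action of the radical quotient at `a` needs that many points. -/
theorem wact (hq : Fintype.card F = 2) {a b : V} (hab : f a b = 1) {Y : Type*}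
    [MulAction (cen a) Y] [Fintype Y] (htriv : ∀ y : Y, (⟨tt a, tt_mem_cen a⟩ : cen a) • y = y)
    {w : V} (hw : w ∈ W2 a b) {y : Y}
    (hne : (⟨cr a w, cr_mem_cen hq hw.1⟩ : cen a) • y ≠ y) :
    Nat.card (W2 a b) ≤ Fintype.card Y := by
  classical
  haveI : Fintype (W2 a b) := Fintype.ofFinite _
  set φ := MulAction.toPermHom (cen a) Y
  have hsp : ∀ c : F, φ ⟨Linear.spTv a c, spTv_mem_cen hq a c⟩ = 1 := by
    intro c
    ext z
    show (⟨Linear.spTv a c, spTv_mem_cen hq a c⟩ : cen a) • z = z
    rcases bit hq c with rfl | rfl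
    · rw [show (⟨Linear.spTv a (0 : F), spTv_mem_cen hq a 0⟩ : cen a) = 1 from
        Subtype.ext (Linear.spTv_zero a), one_smul]
    · exact htriv z
  let B : LinearMap.BilinForm F (W2 a b) :=
    LinearMap.mk₂ F (fun v w => f (v : V) (w : V))
      (fun p q r => Linear.sympForm_add_left (p : V) (q : V) (r : V))
      (fun c p q => Linear.sympForm_smul_left c (p : V) (q : V))
      (fun p q r => Linear.sympForm_add_right (p : V) (q : V) (r : V))
      (fun c p q => Linear.sympForm_smul_right c (p : V) (q : V))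
  let D : MinIndex.VecAct F (W2 a b) (Equiv.Perm Y) :=
    { e := fun v => φ ⟨cr a v, cr_mem_cen hq v.2.1⟩
      B := B
      add := fun v v' => by
        rw [← map_mul]
        have : (⟨cr a v, cr_mem_cen hq v.2.1⟩ : cen a) * ⟨cr a v', cr_mem_cen hq v'.2.1⟩ =
            ⟨cr a (v + v' : W2 a b), cr_mem_cen hq (v + v').2.1⟩ *
              ⟨Linear.spTv a (f v v'), spTv_mem_cen hq a _⟩ :=
          Subtype.ext (cr_mul hq v.2.1 v'.2.1)
        rw [this, map_mul, hsp, mul_one]
      nd := fun x hx => by
        obtain ⟨z, hz, hxz⟩ := W2_nd hq hab x x.2 (fun h => hx (Subtype.ext h))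
        exact ⟨⟨z, hz⟩, by show f z (x : V) ≠ 0; rwa [f_symm hq]⟩ }
  -- some annihilator is non-trivial
  obtain ⟨φ0, hφ0, hk0⟩ : ∃ φ0 : W2 a b, φ0 ≠ 0 ∧ 1 ≤ MinIndex.kk D Y φ0 := by
    have hmem : MinIndex.orb D y ∈ MinIndex.blocks (X := Y) D :=
      (MinIndex.mem_blocks D).2 ⟨y, rfl⟩
    have h2 : 2 ≤ (MinIndex.orb D y).card :=
      Finset.one_lt_card.2 ⟨_, (MinIndex.mem_orb D).2 ⟨⟨w, hw⟩, rfl⟩, y,
        MinIndex.self_mem_orb D y, hne⟩
    rw [← MinIndex.card_Ab D hmem] at h2
    obtain ⟨v, hv, hv0⟩ : ∃ v ∈ MinIndex.Ab D (MinIndex.orb D y), v ≠ 0 := by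
      by_contra! h
      rw [(AddSubgroup.eq_bot_iff_forall _).2 h] at h2
      simp at h2
    exact ⟨v, hv0, Finset.card_pos.2 ⟨_, Finset.mem_filter.2 ⟨hmem, hv⟩⟩⟩
  have hall : ∀ v : W2 a b, v ≠ 0 → 1 ≤ MinIndex.kk D Y v := by
    intro v hv
    obtain ⟨g, hg, hgv⟩ := Linear.exists_spTv_smul_eq (W2 a b) (W2_nd hq hab) φ0.2 v.2
      (fun h => hφ0 (Subtype.ext h)) (fun h => hv (Subtype.ext h))
    have hga : g • a = a :=
      Linear.smul_eq_of_mem_closure_spTvSet (W := W2 a b) (x := a) (fun z hz => (mem_W2.1 hz).1) hg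
    have hgb : g • b = b :=
      Linear.smul_eq_of_mem_closure_spTvSet (W := W2 a b) (x := b) (fun z hz => (mem_W2.1 hz).2) hg
    have hmap : ∀ z : W2 a b, g • (z : V) ∈ W2 a b := fun z => by
      refine ⟨?_, ?_⟩
      · have := Linear.sympForm_smul_smul g a (z : V)
        rw [hga] at this; exact this.trans z.2.1
      · have := Linear.sympForm_smul_smul g b (z : V)
        rw [hgb] at this; exact this.trans z.2.2
    have hn : MinIndex.Norm D (φ ⟨g, fix_mem_cen hga⟩) (fun z => ⟨g • (z : V), hmap z⟩)
        (fun z => ⟨g • (z : V), hmap z⟩) :=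
      { conj := fun z => by
          show φ _ * φ _ * (φ _)⁻¹ = φ _
          rw [← map_inv, ← map_mul, ← map_mul]
          refine congrArg φ (Subtype.ext ?_)
          show g * cr a z * g⁻¹ = cr a (g • (z : V))
          rw [cr_conj, hga]
        adj := fun p r => Linear.sympForm_smul_smul g (p : V) (r : V)
        surj := Finite.injective_iff_surjective.1 fun p r h =>
          Subtype.ext (smul_left_cancel g (congrArg Subtype.val h))
        inj := fun p r h => Subtype.ext (smul_left_cancel g (congrArg Subtype.val h)) }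
    have := MinIndex.kk_le_smul (X := Y) D hn φ0
    rw [show (⟨g • (φ0 : V), hmap φ0⟩ : W2 a b) = v from Subtype.ext hgv] at this
    exact hk0.trans this
  have hb := MinIndex.bound (X := Y) D (O := (Finset.univ : Finset (W2 a b)).erase 0) (by simp)
    fun v hv => hall v (Finset.ne_of_mem_erase hv)
  have hpos : 1 ≤ (MinIndex.blocks (X := Y) D).card :=
    Finset.card_pos.2 ⟨_, (MinIndex.mem_blocks D).2 ⟨y, rfl⟩⟩
  rw [Finset.card_erase_of_mem (Finset.mem_univ _), Finset.card_univ] at hb
  rw [Nat.card_eq_fintype_card]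
  omega

variable {X : Type*} [MulAction (Cfsg.spGL m F) X] [Fintype X]

theorem card_W2_u (hq : Fintype.card F = 2) {u : ℕ} (hm1 : 2 ^ m = 4 * u) {a b : V}
    (hab : f a b = 1) : Nat.card (W2 a b) = 4 * (u * u) := by
  have := card_W2 hq hab
  have e : 2 ^ (2 * m) = 4 * (4 * (u * u)) := by rw [mul_comm 2 m, pow_mul, hm1]; ring
  omega

/-- In a small set `cr a w` only permutes inside pairs of `tt a`. -/
theorem pair_move (hq : Fintype.card F = 2) {u : ℕ} (hm1 : 2 ^ m = 4 * u)
    (hn : Fintype.card X + 2 * u < 8 * (u * u)) {a : V} (ha : a ≠ 0) {y : X} (hy : tt a • y ≠ y)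
    {w : V} (hw : f a w = 0) : cr a w • y = y ∨ cr a w • y = tt a • y := by
  classical
  obtain ⟨b, hab⟩ := exists_dual hq ha
  suffices h : ∀ w ∈ W2 a b, cr a w • y = y ∨ cr a w • y = tt a • y by
    have := h _ (wp_mem hq hab w)
    rwa [show cr a w = cr a (wp a b w) by
      conv_lhs => rw [wp_perp hq (b := b) hw]
      exact cr_add_self hq (wp_mem hq hab w).1 _]
  intro w hw
  by_contra! hcon
  have sq : ∀ z : X, tt a • tt a • z = z := fun z => by rw [← mul_smul, tt_sq hq, one_smul]
  let P : SubMulAction (cen a) (Finset X) :=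
    { carrier := {s | ∃ z : X, tt a • z ≠ z ∧ s = {z, tt a • z}}
      smul_mem' := by
        rintro ⟨c, hc⟩ s ⟨z, hz, rfl⟩
        have hcz : tt a • c • z = c • tt a • z := by rw [← mul_smul, ← mul_smul, mem_cen.1 hc]
        refine ⟨c • z, fun e => hz (smul_left_cancel c (hcz ▸ e)), ?_⟩
        rw [hcz]
        show (c : Cfsg.spGL m F) • ({z, tt a • z} : Finset X) = {c • z, c • tt a • z}
        rw [Finset.smul_finset_insert, Finset.smul_finset_singleton] }
  haveI : Fintype P := Fintype.ofFinite _
  have htriv : ∀ s : P, (⟨tt a, tt_mem_cen a⟩ : cen a) • s = s := by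
    rintro ⟨s, z, hz, rfl⟩
    apply Subtype.ext
    show tt a • ({z, tt a • z} : Finset X) = {z, tt a • z}
    rw [Finset.smul_finset_insert, Finset.smul_finset_singleton, sq, Finset.pair_comm]
  have hne : (⟨cr a w, cr_mem_cen hq hw.1⟩ : cen a) • (⟨{y, tt a • y}, y, hy, rfl⟩ : P) ≠
      ⟨{y, tt a • y}, y, hy, rfl⟩ := by
    intro e
    have e' : cr a w • ({y, tt a • y} : Finset X) = {y, tt a • y} := congrArg Subtype.val e
    have : cr a w • y ∈ ({y, tt a • y} : Finset X) := by
      rw [← e']; exact Finset.smul_mem_smul_finset (Finset.mem_insert_self _ _)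
    simp only [Finset.mem_insert, Finset.mem_singleton] at this
    tauto
  have hD := wact hq hab htriv hw hne
  rw [card_W2_u hq hm1 hab] at hD
  set M := Finset.univ.filter fun z : X => tt a • z ≠ z
  have h1 : Fintype.card P ≤ (M.image fun z => ({z, tt a • z} : Finset X)).card := by
    rw [← Finset.card_univ]
    refine Finset.card_le_card_of_injOn Subtype.val (fun s _ => ?_) fun s _ t _ h => Subtype.ext h
    obtain ⟨s, z, hz, rfl⟩ := s
    exact Finset.mem_image.2 ⟨z, Finset.mem_filter.2 ⟨Finset.mem_univ _, hz⟩, rfl⟩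
  have h2 : 2 * (M.image fun z => ({z, tt a • z} : Finset X)).card ≤ M.card :=
    Finset.mul_card_image_le_card M 2 (by
    intro s hs
    obtain ⟨z, hz, rfl⟩ := Finset.mem_image.1 hs
    have hz' := (Finset.mem_filter.1 hz).2
    refine le_of_eq_of_le (Finset.card_pair hz'.symm).symm (Finset.card_le_card fun v hv => ?_)
    simp only [Finset.mem_insert, Finset.mem_singleton] at hv
    rcases hv with rfl | rfl
    · exact Finset.mem_filter.2 ⟨hz, rfl⟩
    · refine Finset.mem_filter.2 ⟨Finset.mem_filter.2 ⟨Finset.mem_univ _, ?_⟩, ?_⟩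
      · rw [sq]; exact hz'.symm
      · rw [sq, Finset.pair_comm])
  have h3 : M.card ≤ Fintype.card X := M.card_le_univ
  omega

/-- The bit of `cr a w` at `y`. -/
noncomputable def kap (a : V) (y : X) (w : V) : F :=
  @ite _ (cr a w • y = y) (Classical.propDecidable _) 0 1

theorem kap_spec {a w : V} {y : X} (h : cr a w • y = y ∨ cr a w • y = tt a • y) :
    cr a w • y = Linear.spTv a (kap a y w) • y := by
  unfold kap
  split_ifs with h'
  · rw [Linear.spTv_zero, one_smul]; exact h'
  · exact h.resolve_left h'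

theorem spTv_inj (hq : Fintype.card F = 2) {a : V} {y : X} (hy : tt a • y ≠ y) {c d : F}
    (h : Linear.spTv a c • y = Linear.spTv a d • y) : c = d := by
  rcases bit hq c with rfl | rfl <;> rcases bit hq d with rfl | rfl <;> try rfl
  · rw [Linear.spTv_zero, one_smul] at h; exact absurd h.symm hy
  · rw [Linear.spTv_zero, one_smul] at h; exact absurd h hy

theorem kap_eq (hq : Fintype.card F = 2) {a w : V} {y : X} (hy : tt a • y ≠ y) {c : F}
    (h : cr a w • y = Linear.spTv a c • y) : kap a y w = c := by
  unfold kap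
  rcases bit hq c with rfl | rfl
  · rw [Linear.spTv_zero, one_smul] at h; rw [if_pos h]
  · rw [if_neg]; intro e; exact hy (h.symm.trans e)

theorem cr_spTv_comm (hq : Fintype.card F = 2) {a w : V} (h : f a w = 0) (c : F) (y : X) :
    cr a w • Linear.spTv a c • y = Linear.spTv a c • cr a w • y := by
  rcases bit hq c with rfl | rfl
  · rw [Linear.spTv_zero, one_smul, one_smul]
  · show cr a w • tt a • y = tt a • cr a w • y
    rw [← mul_smul, ← mul_smul, tt_cr_comm hq h]

/-- The quadratic rule. -/
theorem kap_add (hq : Fintype.card F = 2) {a : V} {y : X} (hy : tt a • y ≠ y)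
    (hpair : ∀ w, f a w = 0 → cr a w • y = y ∨ cr a w • y = tt a • y) {w w' : V}
    (h : f a w = 0) (h' : f a w' = 0) :
    kap a y (w + w') = kap a y w + kap a y w' + f w w' := by
  apply kap_eq hq hy
  have hww : f a (w + w') = 0 := by simp [h, h']
  have e : cr a (w + w') = cr a w * cr a w' * Linear.spTv a (f w w') := by
    rw [cr_mul hq h h', mul_assoc, ← Linear.spTv_add,
      show f w w' + f w w' = 0 by linear_combination (f w w') * two_eq_zero hq, Linear.spTv_zero,
      mul_one]
  rw [e, mul_smul, mul_smul, cr_spTv_comm hq h', kap_spec (hpair w' h'), cr_spTv_comm hq h,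
    cr_spTv_comm hq h, kap_spec (hpair w h), ← mul_smul, ← mul_smul, ← Linear.spTv_add,
    ← Linear.spTv_add]
  congr 2
  ring

open scoped Classical in
/-- A count for the quadratic rule. -/
theorem two_zeros (hq : Fintype.card F = 2) {u : ℕ} (hm1 : 2 ^ m = 4 * u) {a b : V}
    (hab : f a b = 1) {y : X} (hy : tt a • y ≠ y)
    (hpair : ∀ w, f a w = 0 → cr a w • y = y ∨ cr a w • y = tt a • y)
    [Fintype (W2 a b)] :
    4 * (u * u) ≤ 2 * (Finset.univ.filter fun w : W2 a b => kap a y w = 0).card + 2 * u ∧
    4 * (u * u) ≤ 2 * (Finset.univ.filter fun w : W2 a b => kap a y w = 1).card + 2 * u := by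
  classical
  have hc : Fintype.card (W2 a b) = (2 * u) * (2 * u) := by
    rw [← Nat.card_eq_fintype_card, card_W2_u hq hm1 hab]; ring
  obtain ⟨s, hs, -, hz⟩ := quad_count hq (W2_nd hq hab) (fun w : W2 a b => kap a y w)
    (fun w w' => kap_add hq hy hpair w.2.1 w'.2.1) hc
  have hsplit : (Finset.univ.filter fun w : W2 a b => kap a y w = 0).card +
      (Finset.univ.filter fun w : W2 a b => kap a y w = 1).card = (2 * u) * (2 * u) := by
    rw [← hc, ← Finset.card_univ, ← Finset.card_union_of_disjoint]
    · congr 1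
      ext w
      simpa using bit hq (kap a y (w : V))
    · exact Finset.disjoint_filter.2 fun w _ h h' => zero_ne_one (h.symm.trans h')
  have hsplit' := congrArg (Nat.cast : ℕ → ℤ) hsplit
  have hu0 : (0 : ℤ) ≤ u := Int.natCast_nonneg u
  push_cast at hs hz hsplit'
  constructor <;> (zify; rcases hs with rfl | rfl <;> linarith)

/-- No transvection has a fixed point. -/
theorem no_fix (hq : Fintype.card F = 2) [Nontrivial X]
    [MulAction.IsPretransitive (Cfsg.spGL m F) X] {u : ℕ} (hu1 : 2 ≤ u) (hm1 : 2 ^ m = 4 * u)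
    (hn : Fintype.card X + 2 * u < 8 * (u * u)) {a : V} (ha : a ≠ 0) (x : X) : tt a • x ≠ x := by
  classical
  intro hx
  obtain ⟨b, hab⟩ := exists_dual hq ha
  haveI : Fintype (W2 a b) := Fintype.ofFinite _
  set Fx := Finset.univ.filter fun z : X => tt a • z = z with hFx
  set M := Finset.univ.filter fun z : X => tt a • z ≠ z with hM
  have hsum : Fx.card + M.card = Fintype.card X := Finset.card_filter_add_card_filter_not _
  -- the fixed points
  have hF : 4 * (u * u) ≤ Fx.card := by
    let P : SubMulAction (cen a) X :=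
      { carrier := {z | tt a • z = z}
        smul_mem' := by
          rintro ⟨c, hc⟩ z (hz : tt a • z = z)
          show tt a • c • z = c • z
          rw [← mul_smul, ← mem_cen.1 hc, mul_smul, hz] }
    haveI : Fintype P := Fintype.ofFinite _
    have hP : Fintype.card P = Fx.card := by
      rw [hFx, ← Fintype.card_subtype]
      exact Fintype.card_congr (Equiv.subtypeEquivRight fun z => Iff.rfl)
    by_cases h : ∀ w ∈ W2 a b, cr a w • x = x
    · refine (qfix_false hq hu1 hm1 hn (a := a) (x := x) ⟨ha, hx, fun w hw => ?_⟩).elim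
      rw [wp_perp hq (b := b) hw, cr_add_self hq (wp_mem hq hab w).1]
      exact h _ (wp_mem hq hab w)
    · push Not at h
      obtain ⟨w, hw, hne⟩ := h
      have := wact (Y := P) hq hab (fun z => Subtype.ext z.2) hw (y := ⟨x, hx⟩)
        (fun e => hne (congrArg Subtype.val e))
      rw [card_W2_u hq hm1 hab, hP] at this
      exact this
  -- the moved points
  obtain ⟨y, hy⟩ := tt_moves (X := X) hq ha
  have hpair : ∀ w, f a w = 0 → cr a w • y = y ∨ cr a w • y = tt a • y :=
    fun w hw => pair_move hq hm1 hn ha hy hw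
  obtain ⟨hz, -⟩ := two_zeros hq hm1 hab hy hpair
  set Z := Finset.univ.filter fun w : W2 a b => kap a y w = 0 with hZ
  have hzM : (Z ×ˢ (Finset.univ : Finset F)).card ≤ M.card := by
    have hta : ∀ v : V, f a v = 0 → tt v • a = a := fun v hv => by
      rw [tt_smul, hv, zero_smul, add_zero]
    have hmv : ∀ (v : V) (c : F), f a v = 0 →
        tt a • Linear.spTv a c • tt v • y ≠ Linear.spTv a c • tt v • y := by
      intro v c hv e
      have h1 : tt a • Linear.spTv a c • tt v • y = Linear.spTv a c • tt v • tt a • y := by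
        rw [← mul_smul, ← mul_smul, ← mul_smul, ← mul_smul]
        congr 1
        have c1 := mem_cen.1 (spTv_mem_cen hq a c)
        have c2 := mem_cen.1 (fix_mem_cen (hta v hv))
        rw [← c1, mul_assoc, ← c2, mul_assoc]
      rw [h1] at e
      exact hy (smul_left_cancel _ (smul_left_cancel _ e))
    have hk : ∀ v : W2 a b, kap a y v = 0 → ∀ (w : V), f a w = 0 →
        cr a w • tt (v : V) • y = Linear.spTv a (kap a y w + f w v) • tt (v : V) • y := by
      intro v hv w hw
      have hva : tt (v : V) • a = a := hta v v.2.1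
      have hinv : (tt (v : V))⁻¹ = tt (v : V) := tt_inv hq _
      have hw' : f a (tt (v : V) • w) = 0 := by
        have := Linear.sympForm_smul_smul (tt (v : V)) a w
        rw [hva] at this; exact this.trans hw
      have e1 : cr a w * tt (v : V) = tt (v : V) * cr a (tt (v : V) • w) := by
        have := cr_conj (tt (v : V)) a (tt (v : V) • w)
        rw [hva, ← mul_smul, tt_sq hq, one_smul] at this
        rw [← this, inv_mul_cancel_right]
      have e2 : tt (v : V) * Linear.spTv a (kap a y (tt (v : V) • w)) =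
          Linear.spTv a (kap a y (tt (v : V) • w)) * tt (v : V) := by
        have := Linear.spTv_conj (tt (v : V)) a (kap a y (tt (v : V) • w))
        rw [hva] at this
        exact mul_inv_eq_iff_eq_mul.1 this
      rw [← mul_smul, e1, mul_smul, kap_spec (hpair _ hw'), ← mul_smul, e2, mul_smul]
      congr 3
      rw [tt_smul]
      rcases bit hq (f w (v : V)) with hc | hc <;> rw [hc]
      · rw [zero_smul, add_zero, add_zero]
      · rw [one_smul, kap_add hq hy hpair hw v.2.1, hv, hc, add_zero]
    refine Finset.card_le_card_of_injOn (fun p => Linear.spTv a p.2 • tt (p.1 : V) • y)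
      (fun p hp => ?_) ?_
    · exact Finset.mem_filter.2 ⟨Finset.mem_univ _, hmv _ _ p.1.2.1⟩
    · rintro ⟨v, c⟩ hp ⟨v', c'⟩ hp' e
      simp only [Finset.coe_product, Set.mem_prod, Finset.mem_coe, hZ, Finset.mem_filter,
        Finset.mem_univ, true_and, and_true] at hp hp'
      have hvv : v = v' := by
        have hd : ∀ w : W2 a b, f (w : V) (v : V) = f (w : V) (v' : V) := by
          intro w
          have e1 := congrArg (cr a (w : V) • ·) e
          simp only [cr_spTv_comm hq w.2.1, hk v hp w w.2.1, hk v' hp' w w.2.1] at e1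
          have hsw : ∀ (c d : F) (z : X), Linear.spTv a c • Linear.spTv a d • z =
              Linear.spTv a d • Linear.spTv a c • z := fun c d z => by
            rw [← mul_smul, ← mul_smul, ← Linear.spTv_add, ← Linear.spTv_add, add_comm]
          rw [hsw c, hsw c'] at e1
          simp only at e
          rw [e] at e1
          have hz' : tt a • Linear.spTv a c' • tt (v' : V) • y ≠ Linear.spTv a c' • tt (v' : V) • y :=
            hmv _ _ v'.2.1
          exact add_left_cancel (spTv_inj hq hz' e1)
        by_contra hne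
        obtain ⟨z, hz, hzz⟩ := W2_nd hq hab ((v : V) + v') (add_mem v.2 v'.2) (fun h => hne
          (Subtype.ext (by
            rw [← add_zero (v : V), ← add_self_v hq (v' : V), ← add_assoc, h, zero_add])))
        apply hzz
        rw [f_symm hq, Linear.sympForm_add_right, hd ⟨z, hz⟩]
        linear_combination (f z v') * two_eq_zero hq
      subst hvv
      have hz' : tt a • tt (v : V) • y ≠ tt (v : V) • y := by
        have := hmv (v : V) 0 v.2.1
        rwa [Linear.spTv_zero, one_smul] at this
      exact Prod.ext rfl (spTv_inj hq hz' e)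
  rw [Finset.card_product, Finset.card_univ, hq] at hzM
  omega

end Cfsg.Agent.MinIndexSp.Two
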